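import Mathlib
import Groth.Prelude.Def_MoreMor

/-!
# Lifting along first order thickenings: gluing local lifts
-/

universe u

open CategoryTheory CategoryTheory.Limits AlgebraicGeometry

namespace Groth.Agent.H22.ThickLift

theorem firstOrder_SpecMap {A B : Type u} [CommRing A] [CommRing B] (ρ : A →+* B)
    (hρ : Function.Surjective ρ) (hker : ∀ x y, ρ x = 0 → ρ y = 0 → x * y = 0) :
    MoreMor.IsFirstOrderThickening (Spec.map (CommRingCat.ofHom ρ)) := by
  haveI : IsClosedImmersion (Spec.map (CommRingCat.ofHom ρ)) :=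
    IsClosedImmersion.spec_of_surjective _ hρ
  refine ⟨⟨inferInstance, ⟨?_⟩⟩, ?_⟩
  · intro p
    have hr := range_comap_of_surjective _ ρ hρ
    have hp : p ∈ PrimeSpectrum.zeroLocus (RingHom.ker ρ : Set A) := by
      intro x hx
      have : x * x = 0 := hker x x hx hx
      have h0 : x * x ∈ p.asIdeal := this ▸ p.asIdeal.zero_mem
      exact (p.isPrime.mem_or_mem h0).elim id id
    rw [← hr] at hp
    obtain ⟨q, hq⟩ := hp
    exact ⟨q, hq⟩
  · apply Scheme.IdealSheafData.ext_of_isAffine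
    rw [Scheme.IdealSheafData.ideal_mul, Pi.mul_apply, Scheme.Hom.ker_apply,
      Scheme.IdealSheafData.ideal_bot, Pi.bot_apply]
    refine le_bot_iff.mp (Ideal.mul_le.mpr fun x hx y hy => ?_)
    rw [RingHom.mem_ker] at hx hy
    have hnat := Scheme.ΓSpecIso_naturality (CommRingCat.ofHom ρ)
    have hx' : ρ ((Scheme.ΓSpecIso (.of A)).hom x) = 0 := by
      refine (congr($hnat x)).symm.trans ?_
      change (Scheme.ΓSpecIso (.of B)).hom ((Spec.map (CommRingCat.ofHom ρ)).appTop x) = 0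
      rw [show (Spec.map (CommRingCat.ofHom ρ)).appTop x = 0 from hx, map_zero]
    have hy' : ρ ((Scheme.ΓSpecIso (.of A)).hom y) = 0 := by
      refine (congr($hnat y)).symm.trans ?_
      change (Scheme.ΓSpecIso (.of B)).hom ((Spec.map (CommRingCat.ofHom ρ)).appTop y) = 0
      rw [show (Spec.map (CommRingCat.ofHom ρ)).appTop y = 0 from hy, map_zero]
    have hxy := hker _ _ hx' hy'
    rw [← map_mul] at hxy
    have hinj : Function.Injective (Scheme.ΓSpecIso (.of A)).hom :=
      (ConcreteCategory.bijective_of_isIso (Scheme.ΓSpecIso (.of A)).hom).1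
    rw [Submodule.mem_bot]
    exact hinj (hxy.trans (map_zero _).symm)


theorem firstOrder_iso_comp {T₀ T T' : Scheme.{u}} (e : T₀ ⟶ T) [IsIso e] (j : T ⟶ T')
    (hj : MoreMor.IsFirstOrderThickening j) : MoreMor.IsFirstOrderThickening (e ≫ j) := by
  obtain ⟨⟨hci, hs⟩, hk⟩ := hj
  haveI := hci
  haveI := hs
  refine ⟨⟨inferInstance, inferInstance⟩, ?_⟩
  rw [Scheme.Hom.ker_comp_of_isIso]
  exact hk


theorem isNilpotent_ker_of_firstOrder {T T' : Scheme.{u}} (t : T ⟶ T')
    (ht : MoreMor.IsFirstOrderThickening t) : IsNilpotent t.ker :=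
  ⟨2, by rw [pow_two]; exact ht.2⟩


/-- The kernel of the base change of a first order thickening along an open immersion is
nilpotent. -/
theorem isNilpotent_ker_pullback_snd {T T' P : Scheme.{u}} (t : T ⟶ T')
    (ht : MoreMor.IsFirstOrderThickening t) (p : P ⟶ T') [IsOpenImmersion p] :
    IsNilpotent (pullback.snd t p).ker := by
  haveI : IsClosedImmersion t := ht.1.1
  refine ⟨2, ?_⟩
  rw [pow_two]
  apply Scheme.IdealSheafData.ext
  funext W
  rw [Scheme.IdealSheafData.ideal_mul, Pi.mul_apply,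
    Scheme.ker_ideal_of_isPullback_of_isOpenImmersion t (pullback.snd t p) (pullback.fst t p) p
      (IsPullback.of_hasPullback t p).flip W]
  change _ = ⊥
  refine le_bot_iff.mp (Ideal.mul_le.mpr fun x hx y hy => ?_)
  rw [Ideal.mem_comap] at hx hy
  have hxy : (p.appIso W).inv.hom x * (p.appIso W).inv.hom y ∈
      (t.ker * t.ker).ideal ⟨p ''ᵁ W, W.2.image_of_isOpenImmersion _⟩ := by
    rw [Scheme.IdealSheafData.ideal_mul, Pi.mul_apply]
    exact Ideal.mul_mem_mul hx hy
  rw [ht.2] at hxy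
  have h0 : (p.appIso W).inv.hom (x * y) = 0 := by
    rw [map_mul]
    exact hxy
  have hinj : Function.Injective (p.appIso W).inv.hom :=
    (ConcreteCategory.bijective_of_isIso (p.appIso W).inv).1
  rw [Submodule.mem_bot]
  exact hinj (h0.trans (map_zero _).symm)


/-- **Gluing local lifts.**  Let `f : X ⟶ S` be formally unramified and `t : T ⟶ T'` a first order
thickening with a lifting problem `(a, b)`.  If `T'` is covered by opens `W' i` over which the
lifting problem has solutions `l i`, then it has a unique global solution. -/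
theorem existsUnique_lift_of_local_lifts {X S : Scheme.{u}} (f : X ⟶ S) [FormallyUnramified f]
    {T T' : Scheme.{u}} (t : T ⟶ T') (ht : MoreMor.IsFirstOrderThickening t) (a : T ⟶ X)
    (b : T' ⟶ S) {ι : Type*} (W' : ι → T'.Opens) (hW' : ⨆ i, W' i = ⊤)
    (l : ∀ i, (W' i).toScheme ⟶ X)
    (hl1 : ∀ i, (t ∣_ W' i) ≫ l i = (t ⁻¹ᵁ W' i).ι ≫ a)
    (hl2 : ∀ i, l i ≫ f = (W' i).ι ≫ b) :
    ∃! L : T' ⟶ X, t ≫ L = a ∧ L ≫ f = b := by
  haveI : IsClosedImmersion t := ht.1.1
  have hnil := isNilpotent_ker_of_firstOrder t ht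
  have huniq : ∀ l₁ l₂ : T' ⟶ X, t ≫ l₁ = a → l₁ ≫ f = b → t ≫ l₂ = a → l₂ ≫ f = b → l₁ = l₂ :=
    fun l₁ l₂ h1 h1' h2 h2' =>
      FormallyUnramified.hom_ext t hnil f (h1.trans h2.symm) (h1'.trans h2'.symm)
  let 𝒰 : T'.OpenCover := T'.openCoverOfIsOpenCover W' hW'
  have hglue : ∀ x y : ι,
      pullback.fst (W' x).ι (W' y).ι ≫ l x = pullback.snd (W' x).ι (W' y).ι ≫ l y := by
    intro x y
    let p : pullback (W' x).ι (W' y).ι ⟶ T' := pullback.fst (W' x).ι (W' y).ι ≫ (W' x).ι
    haveI : IsOpenImmersion p := inferInstance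
    have hnilP := isNilpotent_ker_pullback_snd t ht p
    have key : ∀ (z : ι) (r : pullback (W' x).ι (W' y).ι ⟶ (W' z).toScheme)
        (hr : r ≫ (W' z).ι = p), pullback.snd t p ≫ r ≫ l z = pullback.fst t p ≫ a := by
      intro z r hr
      let q : pullback t p ⟶ (t ⁻¹ᵁ W' z).toScheme :=
        (isPullback_morphismRestrict t (W' z)).lift (pullback.snd t p ≫ r) (pullback.fst t p)
          (by rw [Category.assoc, hr, pullback.condition])
      have hq1 : q ≫ (t ∣_ W' z) = pullback.snd t p ≫ r := IsPullback.lift_fst _ _ _ _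
      have hq2 : q ≫ (t ⁻¹ᵁ W' z).ι = pullback.fst t p := IsPullback.lift_snd _ _ _ _
      rw [← Category.assoc, ← hq1, Category.assoc, hl1, ← Category.assoc, hq2]
    refine FormallyUnramified.hom_ext (pullback.snd t p) hnilP f ?_ ?_
    · exact (key x (pullback.fst _ _) rfl).trans
        (key y (pullback.snd _ _) pullback.condition.symm).symm
    · rw [Category.assoc, Category.assoc, hl2, hl2]
      exact pullback.condition_assoc _
  have hL : ∀ x : ι, (W' x).ι ≫ 𝒰.glueMorphisms l hglue = l x :=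
    fun x => 𝒰.ι_glueMorphisms l hglue x
  have hcovT : TopologicalSpace.IsOpenCover (fun i : ι => t ⁻¹ᵁ W' i) := by
    change ⨆ i : ι, t ⁻¹ᵁ W' i = ⊤
    rw [← Scheme.Hom.preimage_iSup, hW']
    rfl
  have hLa : t ≫ 𝒰.glueMorphisms l hglue = a := by
    refine Scheme.Cover.hom_ext (T.openCoverOfIsOpenCover _ hcovT) _ _ fun x => ?_
    change (t ⁻¹ᵁ W' x).ι ≫ t ≫ 𝒰.glueMorphisms l hglue = (t ⁻¹ᵁ W' x).ι ≫ a
    rw [← Category.assoc, ← morphismRestrict_ι, Category.assoc, hL, hl1]
  have hLf : 𝒰.glueMorphisms l hglue ≫ f = b := by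
    refine Scheme.Cover.hom_ext 𝒰 _ _ fun x => ?_
    change (W' x).ι ≫ 𝒰.glueMorphisms l hglue ≫ f = (W' x).ι ≫ b
    rw [← Category.assoc, hL, hl2]
  exact ⟨𝒰.glueMorphisms l hglue, ⟨hLa, hLf⟩, fun l' ⟨h1, h2⟩ => huniq l' _ h1 h2 hLa hLf⟩

end Groth.Agent.H22.ThickLift
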