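import Mathlib

/-!
# Formal unramifiedness can be checked on field-valued (dual number) points / on fibres
-/

universe u

open CategoryTheory CategoryTheory.Limits AlgebraicGeometry TensorProduct TrivSqZeroExt

namespace Groth.Agent.H22.UnramFibre

noncomputable section

/-- the ring hom `b ↦ π b + D b ε` into the dual numbers attached to a `π`-derivation `D` -/
def phiD {B L : Type u} [CommRing B] [Field L] (π : B →+* L) (D : B →+ L)
    (hD : ∀ x y, D (x * y) = π x * D y + π y * D x) : B →+* DualNumber L where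
  toFun b := inl (π b) + inr (D b)
  map_one' := by
    have h1 : D 1 = 0 := by
      have := hD 1 1
      simp at this
      exact this
    simp [h1]
  map_mul' x y := by
    ext <;> simp [hD]
    ring
  map_zero' := by simp
  map_add' x y := by
    ext <;> simp

/-- Pointwise ring-level criterion: if `π : B → L` is a field-valued point with kernel `q` all of
whose `A`-constant infinitesimal deformations are trivial, then `q` is not in the support of
`Ω[B⁄A]`. -/
theorem notMem_support_of_dualNumber_point {A B : Type u} [CommRing A] [CommRing B]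
    [Algebra A B] [Algebra.FiniteType A B] (q : PrimeSpectrum B) {L : Type u} [Field L]
    (π : B →+* L) (hker : RingHom.ker π = q.asIdeal)
    (Hφ : ∀ φ : B →+* DualNumber L, (∀ b, (φ b).fst = π b) →
        (∀ a, φ (algebraMap A B a) = inl (π (algebraMap A B a))) → ∀ b, φ b = inl (π b)) :
    q ∉ Module.support B Ω[B⁄A] := by
  intro hq
  rw [Module.mem_support_iff_nontrivial_residueField_tensorProduct] at hq
  have hf₁ : q.asIdeal ≤ RingHom.ker π := hker.ge
  have hf₂ : q.asIdeal.primeCompl ≤ (IsUnit.submonoid L).comap π := by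
    intro b hb
    change IsUnit (π b)
    rw [isUnit_iff_ne_zero]
    intro h0
    exact hb (hker.le h0)
  let ι : q.asIdeal.ResidueField →+* L := Ideal.ResidueField.lift q.asIdeal π hf₁ hf₂
  have hι : ∀ b, ι (algebraMap B _ b) = π b := Ideal.ResidueField.lift_algebraMap _ _ hf₁ hf₂
  obtain ⟨v, hv⟩ := exists_ne (0 : q.asIdeal.ResidueField ⊗[B] Ω[B⁄A])
  obtain ⟨ψ, hψ⟩ : ∃ ψ : Module.Dual q.asIdeal.ResidueField (q.asIdeal.ResidueField ⊗[B] Ω[B⁄A]),
      ψ v ≠ 0 := by
    by_contra hall
    push_neg at hall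
    exact hv ((Module.forall_dual_apply_eq_zero_iff q.asIdeal.ResidueField v).mp hall)
  -- the derivation
  let D : B →+ L :=
    { toFun := fun b => ι (ψ ((1 : q.asIdeal.ResidueField) ⊗ₜ[B] KaehlerDifferential.D A B b))
      map_zero' := by simp
      map_add' := fun x y => by simp [TensorProduct.tmul_add] }
  have hsm : ∀ (x : B) (w : q.asIdeal.ResidueField ⊗[B] Ω[B⁄A]),
      ψ (x • w) = algebraMap B q.asIdeal.ResidueField x * ψ w := by
    intro x w
    rw [← algebraMap_smul q.asIdeal.ResidueField x w, map_smul, smul_eq_mul]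
  have hD : ∀ x y, D (x * y) = π x * D y + π y * D x := by
    intro x y
    change ι (ψ ((1 : q.asIdeal.ResidueField) ⊗ₜ[B] KaehlerDifferential.D A B (x * y))) =
      π x * ι (ψ ((1 : q.asIdeal.ResidueField) ⊗ₜ[B] KaehlerDifferential.D A B y)) +
      π y * ι (ψ ((1 : q.asIdeal.ResidueField) ⊗ₜ[B] KaehlerDifferential.D A B x))
    rw [Derivation.leibniz, TensorProduct.tmul_add, TensorProduct.tmul_smul,
      TensorProduct.tmul_smul, map_add, map_add,
      ← hι x, ← hι y, ← map_mul, ← map_mul]
    rw [hsm, hsm]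
  have hDA : ∀ a, D (algebraMap A B a) = 0 := by
    intro a
    change ι (ψ ((1 : q.asIdeal.ResidueField) ⊗ₜ[B] KaehlerDifferential.D A B (algebraMap A B a))) = 0
    rw [Derivation.map_algebraMap, TensorProduct.tmul_zero, map_zero, map_zero]
  have hφ := Hφ (phiD π D hD) (fun b => by simp [phiD]) (fun a => by
    change inl (π (algebraMap A B a)) + inr (D (algebraMap A B a)) = _
    rw [hDA, inr_zero, add_zero])
  have hD0 : ∀ b, ψ ((1 : q.asIdeal.ResidueField) ⊗ₜ[B] KaehlerDifferential.D A B b) = 0 := by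
    intro b
    have h1 := congrArg TrivSqZeroExt.snd (hφ b)
    have h2 : D b = 0 := by simpa [phiD] using h1
    exact (map_eq_zero ι).mp h2
  -- ψ vanishes on everything
  apply hψ
  have hω : ∀ ω : Ω[B⁄A], ψ ((1 : q.asIdeal.ResidueField) ⊗ₜ[B] ω) = 0 := by
    intro ω
    have hmem : ω ∈ Submodule.span B (Set.range (KaehlerDifferential.D A B)) := by
      rw [KaehlerDifferential.span_range_derivation]; trivial
    induction hmem using Submodule.span_induction with
    | mem x hx =>
      obtain ⟨b, rfl⟩ := hx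
      exact hD0 b
    | zero => simp
    | add x y _ _ hx hy => rw [TensorProduct.tmul_add, map_add, hx, hy, add_zero]
    | smul b x _ hx =>
      rw [TensorProduct.tmul_smul, hsm, hx, mul_zero]
  have hall : ∀ w : q.asIdeal.ResidueField ⊗[B] Ω[B⁄A], ψ w = 0 := by
    intro w
    induction w using TensorProduct.induction_on with
    | zero => simp
    | tmul c ω =>
      have : c ⊗ₜ[B] ω = c • ((1 : q.asIdeal.ResidueField) ⊗ₜ[B] ω) := by
        rw [TensorProduct.smul_tmul', smul_eq_mul, mul_one]
      rw [this, map_smul, hω, smul_zero]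
    | add x y hx hy => rw [map_add, hx, hy, add_zero]
  exact hall v

/-- Ring-level criterion: a finite type algebra `B` over `A` is formally unramified as soon as
for every prime `q` of `B` there is a field-valued point `π : B → L` with kernel `q` all of whose
`A`-constant infinitesimal deformations `B → L[ε]` are trivial. -/
theorem formallyUnramified_of_dualNumber_points {A B : Type u} [CommRing A] [CommRing B]
    [Algebra A B] [Algebra.FiniteType A B]
    (H : ∀ q : PrimeSpectrum B, ∃ (L : Type u) (_ : Field L) (π : B →+* L),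
      RingHom.ker π = q.asIdeal ∧
      ∀ φ : B →+* DualNumber L, (∀ b, (φ b).fst = π b) →
        (∀ a, φ (algebraMap A B a) = inl (π (algebraMap A B a))) → ∀ b, φ b = inl (π b)) :
    Algebra.FormallyUnramified A B := by
  rw [Algebra.formallyUnramified_iff]
  by_contra hne
  rw [← Module.support_eq_empty_iff (R := B), ← ne_eq, ← Set.nonempty_iff_ne_empty] at hne
  obtain ⟨q, hq⟩ := hne
  obtain ⟨L, _, π, hker, Hφ⟩ := H q
  exact notMem_support_of_dualNumber_point q π hker Hφ hq

theorem isNilpotent_ker_SpecMap {A B : Type u} [CommRing A] [CommRing B] (ρ : A →+* B)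
    (hker : ∀ x y, ρ x = 0 → ρ y = 0 → x * y = 0) :
    IsNilpotent (Spec.map (CommRingCat.ofHom ρ)).ker := by
  refine ⟨2, ?_⟩
  rw [pow_two]
  apply Scheme.IdealSheafData.ext_of_isAffine
  rw [Scheme.IdealSheafData.ideal_mul, Pi.mul_apply, Scheme.Hom.ker_apply]
  change _ = ⊥
  refine le_bot_iff.mp (Ideal.mul_le.mpr fun x hx y hy => ?_)
  rw [RingHom.mem_ker] at hx hy
  have hnat := Scheme.ΓSpecIso_naturality (CommRingCat.ofHom ρ)
  have hx' : ρ ((Scheme.ΓSpecIso (.of A)).hom x) = 0 := by
    refine (congr($hnat x)).symm.trans ?_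
    change (Scheme.ΓSpecIso (.of B)).hom ((Spec.map (CommRingCat.ofHom ρ)).appTop x) = 0
    rw [show (Spec.map (CommRingCat.ofHom ρ)).appTop x = 0 from hx, map_zero]
  have hy' : ρ ((Scheme.ΓSpecIso (.of A)).hom y) = 0 := by
    refine (congr($hnat y)).symm.trans ?_
    change (Scheme.ΓSpecIso (.of B)).hom ((Spec.map (CommRingCat.ofHom ρ)).appTop y) = 0
    rw [show (Spec.map (CommRingCat.ofHom ρ)).appTop y = 0 from hy, map_zero]
  have hxy := hker _ _ hx' hy'
  rw [← map_mul] at hxy
  have hinj : Function.Injective (Scheme.ΓSpecIso (.of A)).hom :=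
    (ConcreteCategory.bijective_of_isIso (Scheme.ΓSpecIso (.of A)).hom).1
  rw [Submodule.mem_bot]
  exact hinj (hxy.trans (map_zero _).symm)

theorem surjective_SpecMap_of_sqzero {A B : Type u} [CommRing A] [CommRing B] (ρ : A →+* B)
    (hρ : Function.Surjective ρ) (hker : ∀ x y, ρ x = 0 → ρ y = 0 → x * y = 0) :
    Function.Surjective (Spec.map (CommRingCat.ofHom ρ)) := by
  intro p
  have hr := range_comap_of_surjective _ ρ hρ
  have hp : p ∈ PrimeSpectrum.zeroLocus (RingHom.ker ρ : Set A) := by
    intro x hx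
    have : x * x = 0 := hker x x hx hx
    have h0 : x * x ∈ p.asIdeal := this ▸ p.asIdeal.zero_mem
    exact (p.isPrime.mem_or_mem h0).elim id id
  rw [← hr] at hp
  obtain ⟨q, hq⟩ := hp
  exact ⟨q, hq⟩

set_option backward.isDefEq.respectTransparency false in
theorem exists_point_data {X Y : Scheme.{u}} (f : X ⟶ Y) {U : Y.Opens} (hU : IsAffineOpen U)
    {V : X.Opens} (hV : IsAffineOpen V) (e : V ≤ f ⁻¹ᵁ U) (q : Spec Γ(X, V))
    {T : Scheme.{u}} (g : T ⟶ Y) (W : (pullback f g).Opens) (z : ↑(pullback f g)) (hzW : z ∈ W)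
    (hzx : pullback.fst f g z = hV.fromSpec q)
    [FormallyUnramified (W.ι ≫ pullback.snd f g)] :
    ∃ (L : Type u) (_ : Field L) (π : Γ(X, V) →+* L),
      RingHom.ker π = q.asIdeal ∧
      ∀ φ : Γ(X, V) →+* DualNumber L, (∀ b, (φ b).fst = π b) →
        (∀ a, φ ((f.appLE U V e).hom a) = inl (π ((f.appLE U V e).hom a))) →
        ∀ b, φ b = inl (π b) := by
  let σ : Spec ((pullback f g).residueField z) ⟶ X :=
    (pullback f g).fromSpecResidueField z ≫ pullback.fst f g
  have hσpt : ∀ p, σ p = hV.fromSpec q := by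
    intro p
    rw [Scheme.Hom.comp_apply, Scheme.fromSpecResidueField_apply, hzx]
  have hσV : Set.range σ ⊆ Set.range V.ι := by
    rintro _ ⟨p, rfl⟩
    rw [hσpt, Scheme.Opens.range_ι, ← hV.range_fromSpec]
    exact ⟨q, rfl⟩
  let σ' : Spec ((pullback f g).residueField z) ⟶ V.toScheme := IsOpenImmersion.lift V.ι σ hσV
  let π₀ : Γ(X, V) ⟶ (pullback f g).residueField z := Spec.preimage (σ' ≫ hV.isoSpec.hom)
  have hπ₀ : Spec.map π₀ ≫ hV.fromSpec = σ := by
    rw [Spec.map_preimage, Category.assoc, hV.isoSpec_hom_fromSpec, IsOpenImmersion.lift_fac]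
  refine ⟨(pullback f g).residueField z, inferInstance, π₀.hom, ?_, ?_⟩
  · let pt : Spec ((pullback f g).residueField z) := default
    have h1 : hV.fromSpec (Spec.map π₀ pt) = hV.fromSpec q := by
      rw [← Scheme.Hom.comp_apply, hπ₀]
      exact hσpt pt
    have h2 : Spec.map π₀ pt = q := hV.fromSpec.isOpenEmbedding.injective h1
    have h3 : pt.asIdeal = ⊥ := by
      rcases Ideal.eq_bot_or_top pt.asIdeal with h | h
      · exact h
      · exact absurd h pt.isPrime.ne_top
    rw [← h2]
    change RingHom.ker π₀.hom = Ideal.comap π₀.hom pt.asIdeal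
    rw [h3]
    rfl
  · intro φ hφ1 hφ2
    let DK : CommRingCat.{u} := .of (DualNumber ((pullback f g).residueField z))
    let cR : DK ⟶ (pullback f g).residueField z :=
      CommRingCat.ofHom (fstHom ((pullback f g).residueField z) ((pullback f g).residueField z)
        ((pullback f g).residueField z)).toRingHom
    let rR : (pullback f g).residueField z ⟶ DK :=
      CommRingCat.ofHom (inlHom ((pullback f g).residueField z) ((pullback f g).residueField z))
    have hrc : rR ≫ cR = 𝟙 _ := by
      ext x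
      rfl
    let c : Spec ((pullback f g).residueField z) ⟶ Spec DK := Spec.map cR
    let r : Spec DK ⟶ Spec ((pullback f g).residueField z) := Spec.map rR
    have hcr : c ≫ r = 𝟙 _ := by
      simp only [c, r]
      rw [← Spec.map_comp, hrc, Spec.map_id]
    have hcsurjR : Function.Surjective cR.hom := fun x => ⟨inl x, rfl⟩
    have hsq : ∀ x y : DualNumber ((pullback f g).residueField z),
        cR.hom x = 0 → cR.hom y = 0 → x * y = 0 := by
      intro x y hx hy
      have hx' : x.fst = 0 := hx
      have hy' : y.fst = 0 := hy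
      ext <;> simp [hx', hy']
    haveI : IsClosedImmersion c := IsClosedImmersion.spec_of_surjective _ hcsurjR
    have hnil : IsNilpotent c.ker := isNilpotent_ker_SpecMap cR.hom hsq
    have hcsurj : Function.Surjective c := surjective_SpecMap_of_sqzero cR.hom hcsurjR hsq
    let τ : Spec DK ⟶ T := r ≫ (pullback f g).fromSpecResidueField z ≫ pullback.snd f g
    have key : ∀ ψ : Γ(X, V) →+* DualNumber ((pullback f g).residueField z),
        (∀ b, (ψ b).fst = π₀.hom b) →
        (∀ a, ψ ((f.appLE U V e).hom a) = inl (π₀.hom ((f.appLE U V e).hom a))) →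
        ∃ ℓ : Spec DK ⟶ W.toScheme,
          c ≫ ℓ ≫ W.ι = (pullback f g).fromSpecResidueField z ∧
          ℓ ≫ W.ι ≫ pullback.snd f g = τ ∧
          ℓ ≫ W.ι ≫ pullback.fst f g =
            Spec.map (CommRingCat.ofHom ψ : Γ(X, V) ⟶ DK) ≫ hV.fromSpec := by
      intro ψ h1 h2
      let t : Spec DK ⟶ X := Spec.map (CommRingCat.ofHom ψ : Γ(X, V) ⟶ DK) ≫ hV.fromSpec
      have hct : c ≫ t = σ := by
        simp only [c, t]
        rw [← Spec.map_comp_assoc, ← hπ₀]
        congr 2
        ext b
        exact h1 b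
      have htf : t ≫ f = r ≫ σ ≫ f := by
        simp only [t, r, Category.assoc]
        rw [← hπ₀, Category.assoc, ← hU.SpecMap_appLE_fromSpec f hV e, ← Spec.map_comp_assoc,
          ← Spec.map_comp_assoc, ← Spec.map_comp_assoc]
        congr 2
        refine CommRingCat.hom_ext (RingHom.ext fun a => ?_)
        exact h2 a
      have hcond : t ≫ f = τ ≫ g := by
        rw [htf]
        simp only [τ, σ, Category.assoc]
        rw [pullback.condition]
      let ℓ₀ : Spec DK ⟶ pullback f g := pullback.lift t τ hcond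
      have hcℓ₀ : c ≫ ℓ₀ = (pullback f g).fromSpecResidueField z := by
        apply pullback.hom_ext
        · rw [Category.assoc, pullback.lift_fst, hct]
        · rw [Category.assoc, pullback.lift_snd]
          simp only [τ]
          rw [← Category.assoc c r, hcr, Category.id_comp]
      have hrange : Set.range ℓ₀ ⊆ Set.range W.ι := by
        rintro _ ⟨p, rfl⟩
        obtain ⟨p', rfl⟩ := hcsurj p
        rw [← Scheme.Hom.comp_apply, hcℓ₀, Scheme.fromSpecResidueField_apply,
          Scheme.Opens.range_ι]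
        exact hzW
      refine ⟨IsOpenImmersion.lift W.ι ℓ₀ hrange, ?_, ?_, ?_⟩
      · rw [IsOpenImmersion.lift_fac, hcℓ₀]
      · rw [IsOpenImmersion.lift_fac_assoc, pullback.lift_snd]
      · rw [IsOpenImmersion.lift_fac_assoc, pullback.lift_fst]
    obtain ⟨ℓ₁, h11, h12, h13⟩ := key φ hφ1 hφ2
    obtain ⟨ℓ₂, h21, h22, h23⟩ := key ((inlHom ((pullback f g).residueField z)
      ((pullback f g).residueField z)).comp π₀.hom) (fun b => rfl) (fun a => rfl)
    have hℓ : ℓ₁ = ℓ₂ := FormallyUnramified.hom_ext c hnil (W.ι ≫ pullback.snd f g)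
      (by rw [← cancel_mono W.ι, Category.assoc, Category.assoc, h11, h21]) (by rw [h12, h22])
    have ht := h13.symm.trans ((congrArg (· ≫ W.ι ≫ pullback.fst f g) hℓ).trans h23)
    rw [cancel_mono, Spec.map_inj] at ht
    intro b
    exact congr($ht b)

/-- **Unramifiedness is detected on (opens of) arbitrary base changes covering the source.**
Let `f : X ⟶ Y` be locally of finite type.  If every point `x` of `X` is the image of a point `z`
of some base change `X ×_Y T` having an open neighbourhood `W` which is formally unramified over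
`T`, then `f` is formally unramified. -/
theorem formallyUnramified_of_pullback_opens {X Y : Scheme.{u}} (f : X ⟶ Y)
    [LocallyOfFiniteType f]
    (H : ∀ x : X, ∃ (T : Scheme.{u}) (g : T ⟶ Y) (W : (pullback f g).Opens)
      (z : ↑(pullback f g)), z ∈ W ∧ pullback.fst f g z = x ∧
        FormallyUnramified (W.ι ≫ pullback.snd f g)) :
    FormallyUnramified f := by
  refine ⟨fun {U} hU {V} hV e => ?_⟩
  have hft := f.finiteType_appLE hU hV e
  algebraize [(f.appLE U V e).hom]
  rw [RingHom.FormallyUnramified]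
  apply formallyUnramified_of_dualNumber_points
  intro q
  obtain ⟨T, g, W, z, hzW, hzx, hunr⟩ := H (hV.fromSpec q)
  haveI := hunr
  exact exists_point_data f hU hV e q g W z hzW hzx

/-- Global version: base changes `X ×_Y T_x ⟶ T_x` which are formally unramified and whose
projections to `X` are jointly surjective. -/
theorem formallyUnramified_of_jointly_surjective {X Y : Scheme.{u}} (f : X ⟶ Y)
    [LocallyOfFiniteType f]
    (H : ∀ x : X, ∃ (T : Scheme.{u}) (g : T ⟶ Y), x ∈ Set.range (pullback.fst f g) ∧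
        FormallyUnramified (pullback.snd f g)) :
    FormallyUnramified f := by
  apply formallyUnramified_of_pullback_opens
  intro x
  obtain ⟨T, g, ⟨z, hz⟩, hunr⟩ := H x
  haveI := hunr
  refine ⟨T, g, ⊤, z, trivial, hz, ?_⟩
  exact MorphismProperty.comp_mem (W := @FormallyUnramified) _ _ inferInstance hunr

/-- Pointwise version: if a point `x` of `X` is the image of a point `z` of a base change
`X ×_Y T` having an open neighbourhood formally unramified over `T`, then `f` is formally
unramified on an open neighbourhood of `x`. -/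
theorem exists_open_formallyUnramified_of_pullback_open {X Y : Scheme.{u}} (f : X ⟶ Y)
    [LocallyOfFiniteType f] (x : X) {T : Scheme.{u}} (g : T ⟶ Y) (W : (pullback f g).Opens)
    (z : ↑(pullback f g)) (hzW : z ∈ W) (hzx : pullback.fst f g z = x)
    [FormallyUnramified (W.ι ≫ pullback.snd f g)] :
    ∃ U : X.Opens, x ∈ U ∧ FormallyUnramified (U.ι ≫ f) := by
  obtain ⟨_, ⟨U₀, hU₀, rfl⟩, hxU₀, -⟩ :=
    Y.isBasis_affineOpens.exists_subset_of_mem_open (Set.mem_univ (f x)) isOpen_univ
  obtain ⟨_, ⟨V, hV, rfl⟩, hxV, e : V ≤ f ⁻¹ᵁ U₀⟩ :=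
    X.isBasis_affineOpens.exists_subset_of_mem_open hxU₀ (f ⁻¹ᵁ U₀).isOpen
  have hft := f.finiteType_appLE hU₀ hV e
  algebraize [(f.appLE U₀ V e).hom]
  let q : PrimeSpectrum Γ(X, V) := hV.primeIdealOf ⟨x, hxV⟩
  have hq : hV.fromSpec q = x := hV.fromSpec_primeIdealOf ⟨x, hxV⟩
  obtain ⟨L, _, π, hker, Hφ⟩ := exists_point_data f hU₀ hV e q g W z hzW (hzx.trans hq.symm)
  have hns := notMem_support_of_dualNumber_point (A := Γ(Y, U₀)) q π hker Hφ
  haveI : Algebra.IsUnramifiedAt Γ(Y, U₀) q.asIdeal := by
    have : q ∈ Algebra.unramifiedLocus Γ(Y, U₀) Γ(X, V) := by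
      rw [Algebra.unramifiedLocus_eq_compl_support]
      exact hns
    exact this
  obtain ⟨s, hsq, hs⟩ :=
    Algebra.exists_formallyUnramified_of_isUnramifiedAt (R := Γ(Y, U₀)) q.asIdeal
  let jS : Spec (.of (Localization.Away s)) ⟶ X :=
    Spec.map (CommRingCat.ofHom (algebraMap Γ(X, V) (Localization.Away s))) ≫ hV.fromSpec
  haveI : IsOpenImmersion jS := inferInstance
  have hjf : jS ≫ f = Spec.map (CommRingCat.ofHom (algebraMap Γ(Y, U₀) (Localization.Away s))) ≫
      hU₀.fromSpec := by
    simp only [jS, Category.assoc]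
    rw [← hU₀.SpecMap_appLE_fromSpec f hV e, ← Spec.map_comp_assoc]
    congr 2
  refine ⟨jS.opensRange, ?_, ?_⟩
  · obtain ⟨q', hq'⟩ : ∃ q' : Spec (.of (Localization.Away s)),
        Spec.map (CommRingCat.ofHom (algebraMap Γ(X, V) (Localization.Away s))) q' = q := by
      have hr := PrimeSpectrum.localization_away_comap_range (Localization.Away s) s
      have hqs : q ∈ (PrimeSpectrum.basicOpen s : Set (PrimeSpectrum Γ(X, V))) := hsq
      rw [← hr] at hqs
      obtain ⟨q', hq'⟩ := hqs
      exact ⟨q', hq'⟩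
    refine ⟨q', ?_⟩
    simp only [jS, Scheme.Hom.comp_apply]
    rw [hq', hq]
  · have h1 : jS.opensRange.ι ≫ f = jS.isoOpensRange.inv ≫ jS ≫ f := by
      rw [← Category.assoc, Scheme.Hom.isoOpensRange_inv_comp]
    rw [h1, hjf]
    haveI : FormallyUnramified
        (Spec.map (CommRingCat.ofHom (algebraMap Γ(Y, U₀) (Localization.Away s)))) := by
      rw [HasRingHomProperty.Spec_iff (P := @FormallyUnramified)]
      exact RingHom.formallyUnramified_algebraMap.mpr hs
    exact MorphismProperty.comp_mem (W := @FormallyUnramified) _ _ inferInstance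
      (MorphismProperty.comp_mem (W := @FormallyUnramified) _ _ inferInstance inferInstance)

/-- The closed point `Spec K ⟶ Spec K[ε]`. -/
abbrev dualClosedPt (K : Type u) [Field K] :
    Spec (CommRingCat.of K) ⟶ Spec (CommRingCat.of (DualNumber K)) :=
  Spec.map (CommRingCat.ofHom (fstHom K K K).toRingHom)

/-- The retraction `Spec K[ε] ⟶ Spec K`. -/
abbrev dualRetract (K : Type u) [Field K] :
    Spec (CommRingCat.of (DualNumber K)) ⟶ Spec (CommRingCat.of K) :=
  Spec.map (CommRingCat.ofHom (inlHom K K))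

theorem dualClosedPt_retract (K : Type u) [Field K] :
    dualClosedPt K ≫ dualRetract K = 𝟙 _ := by
  rw [← Spec.map_comp, ← Spec.map_id]
  congr 1

instance (K : Type u) [Field K] : IsClosedImmersion (dualClosedPt K) :=
  IsClosedImmersion.spec_of_surjective _ (fun x => ⟨inl x, rfl⟩)

theorem dualNumber_sq_zero (K : Type u) [Field K] (x y : DualNumber K)
    (hx : (fstHom K K K).toRingHom x = 0) (hy : (fstHom K K K).toRingHom y = 0) : x * y = 0 := by
  have hx' : x.fst = 0 := hx
  have hy' : y.fst = 0 := hy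
  ext <;> simp [hx', hy']

theorem isNilpotent_ker_dualClosedPt (K : Type u) [Field K] :
    IsNilpotent (dualClosedPt K).ker :=
  isNilpotent_ker_SpecMap _ (dualNumber_sq_zero K)

theorem dualClosedPt_surjective (K : Type u) [Field K] :
    Function.Surjective (dualClosedPt K) :=
  surjective_SpecMap_of_sqzero _ (fun x => ⟨inl x, rfl⟩) (dualNumber_sq_zero K)

/-- **Dual number criterion at a point.**  Let `f : X ⟶ Y` be locally of finite type and
`σ : Spec K ⟶ X` a field-valued point with image `x`.  If the only morphism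
`γ : Spec K[ε] ⟶ X` extending `σ` and constant over `Y` is the constant one, then `f` is formally
unramified on an open neighbourhood of `x`. -/
theorem exists_open_formallyUnramified_of_dualNumber_lifts {X Y : Scheme.{u}} (f : X ⟶ Y)
    [LocallyOfFiniteType f] (K : Type u) [Field K] (σ : Spec (CommRingCat.of K) ⟶ X)
    (H : ∀ γ : Spec (CommRingCat.of (DualNumber K)) ⟶ X, dualClosedPt K ≫ γ = σ →
      γ ≫ f = dualRetract K ≫ σ ≫ f → γ = dualRetract K ≫ σ) :
    ∃ U : X.Opens, Set.range σ ⊆ U ∧ FormallyUnramified (U.ι ≫ f) := by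
  let pt : Spec (CommRingCat.of K) := default
  obtain ⟨_, ⟨U₀ : Y.Opens, hU₀, rfl⟩, hxU₀, -⟩ :=
    Y.isBasis_affineOpens.exists_subset_of_mem_open (Set.mem_univ (f (σ pt))) isOpen_univ
  obtain ⟨_, ⟨V : X.Opens, hV, rfl⟩, hxV, e : V ≤ f ⁻¹ᵁ U₀⟩ :=
    X.isBasis_affineOpens.exists_subset_of_mem_open hxU₀ (f ⁻¹ᵁ U₀).isOpen
  have hft := f.finiteType_appLE hU₀ hV e
  algebraize [(f.appLE U₀ V e).hom]
  let q : PrimeSpectrum Γ(X, V) := hV.primeIdealOf ⟨σ pt, hxV⟩
  have hq : hV.fromSpec q = σ pt := hV.fromSpec_primeIdealOf ⟨σ pt, hxV⟩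
  have hσV : Set.range σ ⊆ Set.range V.ι := by
    rintro _ ⟨p, rfl⟩
    rw [Subsingleton.elim p pt, Scheme.Opens.range_ι]
    exact hxV
  let σ' : Spec (CommRingCat.of K) ⟶ V.toScheme := IsOpenImmersion.lift V.ι σ hσV
  let π₀ : Γ(X, V) ⟶ CommRingCat.of K := Spec.preimage (σ' ≫ hV.isoSpec.hom)
  have hπ₀ : Spec.map π₀ ≫ hV.fromSpec = σ := by
    rw [Spec.map_preimage, Category.assoc, hV.isoSpec_hom_fromSpec, IsOpenImmersion.lift_fac]
  have hker : RingHom.ker π₀.hom = q.asIdeal := by
    have h1 : hV.fromSpec (Spec.map π₀ pt) = hV.fromSpec q := by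
      rw [← Scheme.Hom.comp_apply, hπ₀, hq]
    have h2 : Spec.map π₀ pt = q := hV.fromSpec.isOpenEmbedding.injective h1
    have h3 : pt.asIdeal = ⊥ := by
      rcases Ideal.eq_bot_or_top pt.asIdeal with h | h
      · exact h
      · exact absurd h pt.isPrime.ne_top
    rw [← h2]
    change RingHom.ker π₀.hom = Ideal.comap π₀.hom pt.asIdeal
    rw [h3]
    rfl
  have Hφ : ∀ φ : Γ(X, V) →+* DualNumber K, (∀ b, (φ b).fst = π₀.hom b) →
      (∀ a, φ (algebraMap Γ(Y, U₀) Γ(X, V) a) = inl (π₀.hom (algebraMap Γ(Y, U₀) Γ(X, V) a))) →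
      ∀ b, φ b = inl (π₀.hom b) := by
    intro φ h1 h2
    let γ : Spec (CommRingCat.of (DualNumber K)) ⟶ X :=
      Spec.map (CommRingCat.ofHom φ : Γ(X, V) ⟶ CommRingCat.of (DualNumber K)) ≫ hV.fromSpec
    have hcγ : dualClosedPt K ≫ γ = σ := by
      simp only [γ, dualClosedPt]
      rw [← Spec.map_comp_assoc, ← hπ₀]
      congr 2
      ext b
      exact h1 b
    have hγf : γ ≫ f = dualRetract K ≫ σ ≫ f := by
      simp only [γ, dualRetract, Category.assoc]
      rw [← hπ₀, Category.assoc, ← hU₀.SpecMap_appLE_fromSpec f hV e, ← Spec.map_comp_assoc,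
        ← Spec.map_comp_assoc, ← Spec.map_comp_assoc]
      congr 2
      refine CommRingCat.hom_ext (RingHom.ext fun a => ?_)
      exact h2 a
    have hγ := H γ hcγ hγf
    rw [← hπ₀, ← Category.assoc] at hγ
    simp only [γ, dualRetract] at hγ
    rw [← Spec.map_comp, cancel_mono, Spec.map_inj] at hγ
    intro b
    exact congr($hγ b)
  have hns := notMem_support_of_dualNumber_point (A := Γ(Y, U₀)) q π₀.hom hker Hφ
  haveI : Algebra.IsUnramifiedAt Γ(Y, U₀) q.asIdeal := by
    have : q ∈ Algebra.unramifiedLocus Γ(Y, U₀) Γ(X, V) := by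
      rw [Algebra.unramifiedLocus_eq_compl_support]
      exact hns
    exact this
  obtain ⟨s, hsq, hs⟩ :=
    Algebra.exists_formallyUnramified_of_isUnramifiedAt (R := Γ(Y, U₀)) q.asIdeal
  let jS : Spec (.of (Localization.Away s)) ⟶ X :=
    Spec.map (CommRingCat.ofHom (algebraMap Γ(X, V) (Localization.Away s))) ≫ hV.fromSpec
  haveI : IsOpenImmersion jS := inferInstance
  have hjf : jS ≫ f = Spec.map (CommRingCat.ofHom (algebraMap Γ(Y, U₀) (Localization.Away s))) ≫
      hU₀.fromSpec := by
    simp only [jS, Category.assoc]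
    rw [← hU₀.SpecMap_appLE_fromSpec f hV e, ← Spec.map_comp_assoc]
    congr 2
  refine ⟨jS.opensRange, ?_, ?_⟩
  · obtain ⟨q', hq'⟩ : ∃ q' : Spec (.of (Localization.Away s)),
        Spec.map (CommRingCat.ofHom (algebraMap Γ(X, V) (Localization.Away s))) q' = q := by
      have hr := PrimeSpectrum.localization_away_comap_range (Localization.Away s) s
      have hqs : q ∈ (PrimeSpectrum.basicOpen s : Set (PrimeSpectrum Γ(X, V))) := hsq
      rw [← hr] at hqs
      obtain ⟨q', hq'⟩ := hqs
      exact ⟨q', hq'⟩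
    rintro _ ⟨p, rfl⟩
    rw [Subsingleton.elim p pt]
    refine ⟨q', ?_⟩
    simp only [jS, Scheme.Hom.comp_apply]
    rw [hq', hq]
  · have h1 : jS.opensRange.ι ≫ f = jS.isoOpensRange.inv ≫ jS ≫ f := by
      rw [← Category.assoc, Scheme.Hom.isoOpensRange_inv_comp]
    rw [h1, hjf]
    haveI : FormallyUnramified
        (Spec.map (CommRingCat.ofHom (algebraMap Γ(Y, U₀) (Localization.Away s)))) := by
      rw [HasRingHomProperty.Spec_iff (P := @FormallyUnramified)]
      exact RingHom.formallyUnramified_algebraMap.mpr hs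
    exact MorphismProperty.comp_mem (W := @FormallyUnramified) _ _ inferInstance
      (MorphismProperty.comp_mem (W := @FormallyUnramified) _ _ inferInstance inferInstance)

/-- Version of `exists_open_formallyUnramified_of_pullback_open` for an arbitrary pullback
square. -/
theorem exists_open_formallyUnramified_of_isPullback {X Y T P : Scheme.{u}} (f : X ⟶ Y)
    [LocallyOfFiniteType f] (x : X) (g : T ⟶ Y) (p₁ : P ⟶ X) (p₂ : P ⟶ T)
    (hP : IsPullback p₁ p₂ f g) (W : P.Opens) (z : P) (hzW : z ∈ W) (hzx : p₁ z = x)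
    [FormallyUnramified (W.ι ≫ p₂)] :
    ∃ U : X.Opens, x ∈ U ∧ FormallyUnramified (U.ι ≫ f) := by
  let e : P ≅ pullback f g := hP.isoPullback
  have he1 : e.hom ≫ pullback.fst f g = p₁ := hP.isoPullback_hom_fst
  have he2 : e.hom ≫ pullback.snd f g = p₂ := hP.isoPullback_hom_snd
  let W' : (pullback f g).Opens := e.inv ⁻¹ᵁ W
  have hz' : e.hom z ∈ W' := by
    change e.inv (e.hom z) ∈ W
    rw [← Scheme.Hom.comp_apply, e.hom_inv_id]
    exact hzW
  have hz'x : pullback.fst f g (e.hom z) = x := by
    rw [← Scheme.Hom.comp_apply, he1, hzx]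
  haveI : FormallyUnramified (W'.ι ≫ pullback.snd f g) := by
    have h1 : W'.ι ≫ pullback.snd f g = (e.inv ∣_ W) ≫ W.ι ≫ p₂ := by
      rw [← Category.assoc, morphismRestrict_ι, Category.assoc, ← he2, Iso.inv_hom_id_assoc]
    rw [h1]
    exact MorphismProperty.comp_mem (W := @FormallyUnramified) _ _ inferInstance inferInstance
  exact exists_open_formallyUnramified_of_pullback_open f x g W' (e.hom z) hz' hz'x

/-- Formal unramifiedness descends along a base change whose projection to the source is
surjective (e.g. a surjective base change): if `f'` is locally of finite type, the square is a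
pullback, `iX` is surjective and `f` is formally unramified, then so is `f'`. -/
theorem formallyUnramified_of_isPullback_of_surjective {X X' Y Y' : Scheme.{u}} (iX : X ⟶ X')
    (iY : Y ⟶ Y') (f : X ⟶ Y) (f' : X' ⟶ Y') (hc : IsPullback iX f f' iY)
    [LocallyOfFiniteType f'] (hiX : Function.Surjective iX) [FormallyUnramified f] :
    FormallyUnramified f' := by
  have H : ∀ x' : X', ∃ U : X'.Opens, x' ∈ U ∧ FormallyUnramified (U.ι ≫ f') := by
    intro x'
    obtain ⟨x, hx⟩ := hiX x'
    haveI : FormallyUnramified ((⊤ : X.Opens).ι ≫ f) :=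
      MorphismProperty.comp_mem (W := @FormallyUnramified) _ _ inferInstance inferInstance
    exact exists_open_formallyUnramified_of_isPullback f' x' iY iX f hc ⊤ x trivial hx
  choose U hxU hU using H
  refine IsZariskiLocalAtSource.of_iSup_eq_top (P := @FormallyUnramified) U ?_ hU
  exact top_le_iff.mp fun x _ => TopologicalSpace.Opens.mem_iSup.mpr ⟨x, hxU x⟩

end

end Groth.Agent.H22.UnramFibre
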