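import Mathlib

/-!
# Smooth finite-type models of formally smooth fields

If `K` is a field which is formally smooth over a Noetherian ring `R` and is the field of
fractions of a finitely generated subalgebra, then it is the field of fractions of a
smooth finitely generated subalgebra.
-/

set_option autoImplicit false
universe u v

namespace Groth.Agent.H22.SmoothModel

open Algebra

theorem exists_smooth_subalgebra (R : Type u) (K : Type v) [CommRing R] [IsNoetherianRing R]
    [Field K] [Algebra R K] [Algebra.FormallySmooth R K] (s : Finset K)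
    (hfrac : ∀ z : K, ∃ x ∈ Algebra.adjoin R (s : Set K), ∃ y ∈ Algebra.adjoin R (s : Set K),
      z = x / y) :
    ∃ A : Subalgebra R K, Algebra.FiniteType R A ∧ Algebra.Smooth R A ∧
      Algebra.adjoin R (s : Set K) ≤ A := by
  classical
  set A₀ : Subalgebra R K := Algebra.adjoin R (s : Set K) with hA₀
  haveI hft : Algebra.FiniteType R A₀ := .adjoin_of_finite s.finite_toSet
  haveI hfp : Algebra.FinitePresentation R A₀ := Algebra.FinitePresentation.of_finiteType.1 hft
  haveI hfr : IsFractionRing A₀ K := by
    apply IsFractionRing.of_field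
    intro z
    obtain ⟨x, hx, y, hy, rfl⟩ := hfrac z
    exact ⟨⟨x, hx⟩, ⟨y, hy⟩, rfl⟩
  haveI : (⊥ : Ideal A₀).IsPrime := Ideal.isPrime_bot
  haveI hloc : IsLocalization (⊥ : Ideal A₀).primeCompl K := by
    rw [Ideal.primeCompl_bot]; exact hfr
  let e₀ : K ≃ₐ[A₀] Localization.AtPrime (⊥ : Ideal A₀) :=
    IsLocalization.algEquiv (⊥ : Ideal A₀).primeCompl K (Localization.AtPrime (⊥ : Ideal A₀))
  let e : K ≃ₐ[R] Localization.AtPrime (⊥ : Ideal A₀) := e₀.restrictScalars R
  haveI : Algebra.IsSmoothAt R (⊥ : Ideal A₀) := Algebra.FormallySmooth.of_equiv e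
  obtain ⟨f, hf, hsm⟩ := Algebra.IsSmoothAt.exists_notMem_smooth R (⊥ : Ideal A₀)
  have hf0 : f ≠ 0 := fun h => hf (by rw [h]; exact Ideal.zero_mem _)
  have hunit : ∀ y : Submonoid.powers f, IsUnit (A₀.val (y : A₀)) := by
    rintro ⟨y, n, rfl⟩
    rw [map_pow]
    apply IsUnit.pow
    rw [isUnit_iff_ne_zero]
    intro h
    exact hf0 (Subtype.ext h)
  let φ : Localization.Away f →ₐ[R] K := IsLocalization.liftAlgHom (M := Submonoid.powers f) hunit
  have hφ : Function.Injective φ := by
    change Function.Injective (IsLocalization.lift hunit)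
    rw [IsLocalization.lift_injective_iff]
    intro x y
    have hinj : Function.Injective (algebraMap A₀ (Localization.Away f)) :=
      IsLocalization.injective _ (powers_le_nonZeroDivisors_of_noZeroDivisors hf0)
    constructor
    · intro h; rw [hinj h]
    · intro h
      have : x = y := Subtype.ext h
      rw [this]
  let ε : Localization.Away f ≃ₐ[R] φ.range := AlgEquiv.ofInjective φ hφ
  refine ⟨φ.range, ?_, ?_, ?_⟩
  · haveI : Algebra.FiniteType R (Localization.Away f) := inferInstance
    exact Algebra.FiniteType.equiv inferInstance ε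
  · exact Algebra.Smooth.of_equiv ε
  · intro x hx
    refine ⟨algebraMap A₀ (Localization.Away f) ⟨x, hx⟩, ?_⟩
    change IsLocalization.lift hunit (algebraMap A₀ (Localization.Away f) ⟨x, hx⟩) = x
    rw [IsLocalization.lift_eq]
    rfl

end Groth.Agent.H22.SmoothModel
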