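import Mathlib

namespace Groth.Agent.Lib.helper22.TorsionFreeEmbed

open nonZeroDivisors

/-- A finitely generated torsion-free module over a domain embeds into a free module of finite
rank. -/
theorem exists_injective_to_free (O : Type*) [CommRing O] [IsDomain O] (M : Type*) [AddCommGroup M]
    [Module O M] [Module.Finite O M] [NoZeroSMulDivisors O M] :
    ∃ (n : ℕ) (χ : M →ₗ[O] (Fin n → O)), Function.Injective χ := by
  classical
  let K := FractionRing O
  let V := LocalizedModule O⁰ M
  let φ : M →ₗ[O] V := LocalizedModule.mkLinearMap O⁰ M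
  have hφ : Function.Injective φ := by
    rw [← LinearMap.ker_eq_bot, eq_bot_iff]
    intro m hm
    obtain ⟨r, hr, hrm⟩ := LocalizedModule.mem_ker_mkLinearMap_iff.1 hm
    rcases smul_eq_zero.1 hrm with h | h
    · exact absurd h (nonZeroDivisors.ne_zero hr)
    · exact h
  haveI : Module.Finite K V := inferInstance
  let n := Module.finrank K V
  let b : Module.Basis (Fin n) K V := Module.finBasis K V
  let ψ : M →ₗ[O] (Fin n → K) := (b.equivFun.toLinearMap.restrictScalars O) ∘ₗ φ
  have hψ : Function.Injective ψ := by
    intro x y hxy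
    apply hφ
    exact b.equivFun.injective hxy
  -- common denominator
  obtain ⟨s, hs⟩ := (Module.Finite.fg_top (R := O) (M := M))
  let T : Finset K := (s ×ˢ (Finset.univ : Finset (Fin n))).image fun p => ψ p.1 p.2
  obtain ⟨d, hd⟩ := IsLocalization.exist_integer_multiples_of_finset O⁰ T
  let ι : (Fin n → O) →ₗ[O] (Fin n → K) := (Algebra.linearMap O K).compLeft (Fin n)
  have hι : Function.Injective ι := by
    intro x y hxy
    funext i
    have := congrFun hxy i
    exact IsFractionRing.injective O K this
  have hrange : ∀ m : M, (d : O) • ψ m ∈ LinearMap.range ι := by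
    intro m
    have hm : m ∈ Submodule.span O (s : Set M) := by rw [hs]; trivial
    induction hm using Submodule.span_induction with
    | mem x hx =>
      have : ∀ i, ∃ o : O, algebraMap O K o = (d : O) • ψ x i := by
        intro i
        have := hd (ψ x i) (Finset.mem_image.2 ⟨(x, i), Finset.mem_product.2 ⟨hx, Finset.mem_univ i⟩, rfl⟩)
        exact this
      choose o ho using this
      refine ⟨o, ?_⟩
      funext i
      exact ho i
    | zero => rw [map_zero, smul_zero]; exact Submodule.zero_mem _
    | add x y _ _ hx hy => rw [map_add, smul_add]; exact Submodule.add_mem _ hx hy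
    | smul a x _ hx => rw [map_smul, smul_comm]; exact Submodule.smul_mem _ a hx
  let ψd : M →ₗ[O] (Fin n → K) := (d : O) • ψ
  let χ₀ : M →ₗ[O] LinearMap.range ι := LinearMap.codRestrict (LinearMap.range ι) ψd hrange
  refine ⟨n, (LinearEquiv.ofInjective ι hι).symm.toLinearMap ∘ₗ χ₀, ?_⟩
  intro x y hxy
  have h1 : χ₀ x = χ₀ y := (LinearEquiv.ofInjective ι hι).symm.injective hxy
  have h2 : (d : O) • ψ x = (d : O) • ψ y := congrArg Subtype.val h1
  have hd0 : (d : O) ≠ 0 := nonZeroDivisors.ne_zero d.2
  apply hψ
  funext i
  have := congrFun h2 i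
  simp only [Pi.smul_apply, Algebra.smul_def] at this
  exact mul_left_cancel₀ (by
    intro h
    exact hd0 (IsFractionRing.injective O K (by rw [h, map_zero]))) this

end Groth.Agent.Lib.helper22.TorsionFreeEmbed
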