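import Mathlib

/-! Descent of vanishing / bijectivity along a jointly surjective family of flat algebras
(no quasi-compactness needed). helper22. -/

set_option autoImplicit false
universe u

open CategoryTheory CategoryTheory.Limits AlgebraicGeometry TensorProduct

namespace Groth.Agent.H22.FlatCover

/-- A module is zero if it dies after tensoring with a family of flat algebras jointly
covering all maximal ideals. -/
theorem subsingleton_of_flat_cover {A : Type u} [CommRing A] (M : Type u) [AddCommGroup M]
    [Module A M]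
    (H : ∀ p : Ideal A, p.IsMaximal → ∃ (A' : Type u) (_ : CommRing A') (_ : Algebra A A'),
      Module.Flat A A' ∧ (∃ q : Ideal A', q ≠ ⊤ ∧ p ≤ q.comap (algebraMap A A')) ∧
        Subsingleton (M ⊗[A] A')) :
    Subsingleton M := by
  by_contra hM
  rw [not_subsingleton_iff_nontrivial] at hM
  obtain ⟨m, hm⟩ := exists_ne (0 : M)
  set I : Ideal A := LinearMap.ker (LinearMap.toSpanSingleton A M m) with hI
  have hI1 : I ≠ ⊤ := by
    intro h
    have : (1 : A) ∈ I := h ▸ Submodule.mem_top
    rw [hI, LinearMap.mem_ker, LinearMap.toSpanSingleton_apply, one_smul] at this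
    exact hm this
  obtain ⟨p, hp, hIp⟩ := Ideal.exists_le_maximal I hI1
  obtain ⟨A', _, _, hflat, ⟨q, hq, hpq⟩, hsub⟩ := H p hp
  let ι : (A ⧸ I) →ₗ[A] M := I.liftQ (LinearMap.toSpanSingleton A M m) le_rfl
  have hι : Function.Injective ι := by
    rw [← LinearMap.ker_eq_bot]
    exact Submodule.ker_liftQ_eq_bot _ _ _ le_rfl
  have hinj := Module.Flat.rTensor_preserves_injective_linearMap (M := A') ι hι
  have hsub2 : Subsingleton ((A ⧸ I) ⊗[A] A') := hinj.subsingleton
  have hsub3 : Subsingleton (A' ⧸ (I • (⊤ : Submodule A A'))) :=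
    (TensorProduct.quotTensorEquivQuotSMul A' I).symm.injective.subsingleton
  rw [Submodule.Quotient.subsingleton_iff] at hsub3
  have h1 : (1 : A') ∈ I • (⊤ : Submodule A A') := by rw [hsub3]; exact Submodule.mem_top
  have hle : I • (⊤ : Submodule A A') ≤ q.restrictScalars A := by
    rw [Submodule.smul_le]
    intro r hr n _
    change r • n ∈ q
    rw [Algebra.smul_def]
    exact q.mul_mem_right _ (hpq (hIp hr))
  exact hq ((Ideal.eq_top_iff_one q).2 (hle h1))

/-- A ring map is bijective if it becomes so after tensoring with a family of flat algebras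
jointly covering all maximal ideals. -/
theorem bijective_of_flat_cover {A B : Type u} [CommRing A] [CommRing B] [Algebra A B]
    (H : ∀ p : Ideal A, p.IsMaximal → ∃ (A' : Type u) (_ : CommRing A') (_ : Algebra A A'),
      Module.Flat A A' ∧ (∃ q : Ideal A', q ≠ ⊤ ∧ p ≤ q.comap (algebraMap A A')) ∧
        Function.Bijective (Algebra.TensorProduct.includeRight : A' →ₐ[A] B ⊗[A] A')) :
    Function.Bijective (algebraMap A B) := by
  set φ : A →ₗ[A] B := Algebra.linearMap A B with hφ
  have key : ∀ (A' : Type u) [CommRing A'] [Algebra A A'],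
      Function.Bijective (Algebra.TensorProduct.includeRight : A' →ₐ[A] B ⊗[A] A') →
      Function.Bijective (φ.rTensor A') := by
    intro A' _ _ hb
    have : (φ.rTensor A' : A ⊗[A] A' → B ⊗[A] A') =
        (Algebra.TensorProduct.includeRight : A' →ₐ[A] B ⊗[A] A') ∘ (TensorProduct.lid A A') := by
      ext x
      induction x using TensorProduct.induction_on with
      | zero => simp
      | tmul a a' =>
        simp only [LinearMap.rTensor_tmul, Function.comp_apply, TensorProduct.lid_tmul,
          Algebra.TensorProduct.includeRight_apply, hφ, Algebra.linearMap_apply]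
        rw [Algebra.algebraMap_eq_smul_one, TensorProduct.smul_tmul]
      | add x y hx hy => simp only [map_add, hx, hy, Function.comp_apply]
    rw [this]
    exact hb.comp (TensorProduct.lid A A').bijective
  have hK : Subsingleton (LinearMap.ker φ) := by
    apply subsingleton_of_flat_cover (A := A)
    intro p hp
    obtain ⟨A', _, _, hflat, hq, hb⟩ := H p hp
    refine ⟨A', _, _, hflat, hq, ?_⟩
    have hinj := Module.Flat.rTensor_preserves_injective_linearMap (M := A')
      (LinearMap.ker φ).subtype (Submodule.injective_subtype _)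
    have hzero : (φ.rTensor A') ∘ₗ ((LinearMap.ker φ).subtype.rTensor A') = 0 := by
      rw [← LinearMap.rTensor_comp]
      have : φ ∘ₗ (LinearMap.ker φ).subtype = 0 := by
        ext x; exact x.2
      rw [this, LinearMap.rTensor_zero]
    refine ⟨fun a b => hinj ((key A' hb).1 ?_)⟩
    have ha := LinearMap.congr_fun hzero a
    have hb' := LinearMap.congr_fun hzero b
    simp only [LinearMap.comp_apply, LinearMap.zero_apply] at ha hb'
    rw [ha, hb']
  have hC : Subsingleton (B ⧸ LinearMap.range φ) := by
    apply subsingleton_of_flat_cover (A := A)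
    intro p hp
    obtain ⟨A', _, _, hflat, hq, hb⟩ := H p hp
    refine ⟨A', _, _, hflat, hq, ?_⟩
    have hsurj : Function.Surjective ((LinearMap.range φ).mkQ.rTensor A') :=
      LinearMap.rTensor_surjective A' (Submodule.mkQ_surjective _)
    have hzero : ((LinearMap.range φ).mkQ.rTensor A') ∘ₗ (φ.rTensor A') = 0 := by
      rw [← LinearMap.rTensor_comp]
      have : (LinearMap.range φ).mkQ ∘ₗ φ = 0 := by
        ext x
        simp
      rw [this, LinearMap.rTensor_zero]
    have hall : ∀ z, z = (0 : (B ⧸ LinearMap.range φ) ⊗[A] A') := by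
      intro z
      obtain ⟨w, rfl⟩ := hsurj z
      obtain ⟨v, rfl⟩ := (key A' hb).2 w
      exact LinearMap.congr_fun hzero v
    exact ⟨fun a b => (hall a).trans (hall b).symm⟩
  constructor
  · have : LinearMap.ker φ = ⊥ := by
      rw [Submodule.eq_bot_iff]
      intro x hx
      have := Subsingleton.elim (⟨x, hx⟩ : LinearMap.ker φ) 0
      exact congrArg Subtype.val this
    exact LinearMap.ker_eq_bot.1 this
  · rw [Submodule.Quotient.subsingleton_iff, LinearMap.range_eq_top] at hC
    exact hC


theorem bijective_of_flat_cover' {A B : CommRingCat.{u}} (φ : A ⟶ B)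
    (H : ∀ p : PrimeSpectrum A, ∃ (A' Q : CommRingCat.{u}) (ψ : A ⟶ A') (β : B ⟶ Q) (α : A' ⟶ Q),
      IsPushout φ ψ β α ∧ ψ.hom.Flat ∧ (∃ q : PrimeSpectrum A', q.comap ψ.hom = p) ∧
        Function.Bijective α.hom) : Function.Bijective φ.hom := by
  algebraize [φ.hom]
  refine bijective_of_flat_cover (A := A) (B := B) ?_
  intro p hp
  obtain ⟨A', Q, ψ, β, α, hpo, hflat, ⟨q, hq⟩, hα⟩ := H ⟨p, hp.isPrime⟩
  algebraize [ψ.hom]
  refine ⟨A', inferInstance, inferInstance, hflat, ⟨q.asIdeal, q.2.ne_top, ?_⟩, ?_⟩
  · have := congrArg PrimeSpectrum.asIdeal hq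
    simp only [PrimeSpectrum.comap_asIdeal] at this
    rw [RingHom.algebraMap_toAlgebra, this]
  · let e := ((CommRingCat.isPushout_tensorProduct A B A').isoIsPushout B A' hpo)
    have h1 : (CommRingCat.ofHom (Algebra.TensorProduct.includeRight : A' →ₐ[A] B ⊗[A] A').toRingHom)
        ≫ e.hom = α := IsPushout.inr_isoIsPushout_hom _ _ _ _
    have h2 : ∀ x, e.hom.hom ((Algebra.TensorProduct.includeRight : A' →ₐ[A] B ⊗[A] A') x) =
        α.hom x := fun x => by rw [← h1]; rfl
    have he : Function.Bijective e.hom.hom :=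
      (ConcreteCategory.isIso_iff_bijective e.hom).1 inferInstance
    constructor
    · intro x y hxy
      apply hα.1
      rw [← h2, ← h2, hxy]
    · intro z
      obtain ⟨x, hx⟩ := hα.2 (e.hom.hom z)
      exact ⟨x, he.1 (by rw [h2, hx])⟩

end Groth.Agent.H22.FlatCover
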