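import Mathlib
import Groth.Agent.Lib.helper22.FlatCover

/-! Descent of homeomorphisms / isomorphisms along a jointly surjective family of flat morphisms
(no quasi-compactness on the covering family), for a quasi-compact morphism `f`. helper22. -/

set_option autoImplicit false
universe u

open CategoryTheory CategoryTheory.Limits AlgebraicGeometry TensorProduct

namespace Groth.Agent.H22.FlatCover

theorem comm_pt {X Y Y' : Scheme.{u}} (f : X ⟶ Y) (g : Y' ⟶ Y) (z : ↑(pullback f g)) :
    f.base ((pullback.fst f g).base z) = g.base ((pullback.snd f g).base z) := by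
  have := congrArg (fun φ : pullback f g ⟶ Y => φ.base z) (pullback.condition (f := f) (g := g))
  simpa using this

section family

variable {X Y : Scheme.{u}} (f : X ⟶ Y) {ι : Type*} (T : ι → Scheme.{u}) (g : ∀ i, T i ⟶ Y)

theorem injective_of_family (hsurj : ∀ y : Y, ∃ i, ∃ t : T i, (g i).base t = y)
    (h : ∀ i, Function.Injective (pullback.snd f (g i)).base) : Function.Injective f.base := by
  intro x1 x2 hx
  obtain ⟨i, y', hy'⟩ := hsurj (f.base x1)
  obtain ⟨z1, hz1, hz1'⟩ :=
    Scheme.Pullback.exists_preimage_pullback (f := f) (g := g i) x1 y' hy'.symm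
  obtain ⟨z2, hz2, hz2'⟩ :=
    Scheme.Pullback.exists_preimage_pullback (f := f) (g := g i) x2 y' (hx ▸ hy'.symm)
  have : z1 = z2 := h i (hz1'.trans hz2'.symm)
  rw [← hz1, ← hz2, this]

theorem surjective_of_family (hsurj : ∀ y : Y, ∃ i, ∃ t : T i, (g i).base t = y)
    (h : ∀ i, Function.Surjective (pullback.snd f (g i)).base) : Function.Surjective f.base := by
  intro y
  obtain ⟨i, y', hy'⟩ := hsurj y
  obtain ⟨z, hz⟩ := h i y'
  exact ⟨(pullback.fst f (g i)).base z, by rw [comm_pt, hz, hy']⟩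

theorem specializing_of_family [∀ i, Flat (g i)]
    (hsurj : ∀ y : Y, ∃ i, ∃ t : T i, (g i).base t = y)
    (h : ∀ i, IsHomeomorph (pullback.snd f (g i)).base) : SpecializingMap f.base := by
  intro x y hxy
  change f.base x ⤳ y at hxy
  obtain ⟨i, y', hy'⟩ := hsurj y
  obtain ⟨η', hη', hgη'⟩ := Flat.generalizingMap (g i) (a := y') (b := f.base x)
    (by rw [hy']; exact hxy)
  obtain ⟨z, hz1, hz2⟩ :=
    Scheme.Pullback.exists_preimage_pullback (f := f) (g := g i) x η' hgη'.symm
  obtain ⟨z', hz'⟩ := (h i).surjective y'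
  have hzz : z ⤳ z' := ((h i).isInducing.specializes_iff).1 (by rw [hz2, hz']; exact hη')
  refine ⟨(pullback.fst f (g i)).base z', ?_, ?_⟩
  · change x ⤳ _
    rw [← hz1]; exact hzz.map (pullback.fst f (g i)).continuous
  · rw [comm_pt, hz', hy']

/-- Homeomorphisms descend along jointly surjective flat families (source morphism quasi-compact). -/
theorem isHomeomorph_of_family [QuasiCompact f] [∀ i, Flat (g i)]
    (hsurj : ∀ y : Y, ∃ i, ∃ t : T i, (g i).base t = y)
    (h : ∀ i, IsHomeomorph (pullback.snd f (g i)).base) : IsHomeomorph f.base := by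
  have hclosed : IsClosedMap f.base :=
    (isClosedMap_iff_specializingMap f).2 (specializing_of_family f T g hsurj h)
  exact isHomeomorph_iff_continuous_isClosedMap_bijective.2
    ⟨f.continuous, hclosed, injective_of_family f T g hsurj (fun i => (h i).injective),
      surjective_of_family f T g hsurj (fun i => (h i).surjective)⟩

theorem isIso_app_of_family [IsAffineHom f] [∀ i, Flat (g i)]
    (hsurj : ∀ y : Y, ∃ i, ∃ t : T i, (g i).base t = y)
    (h : ∀ i, IsIso (pullback.snd f (g i))) {V : Y.Opens} (hV : IsAffineOpen V) :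
    IsIso (f.app V) := by
  rw [ConcreteCategory.isIso_iff_bijective]
  apply bijective_of_flat_cover'
  intro p
  obtain ⟨y, hy⟩ : ∃ y : V, hV.primeIdealOf y = p :=
    ⟨hV.isoSpec.inv p, by simp [IsAffineOpen.primeIdealOf]⟩
  obtain ⟨i, y', hy'⟩ := hsurj y.1
  have hy'V : y' ∈ (g i) ⁻¹ᵁ V := by
    change (g i) y' ∈ V
    rw [hy']; exact y.2
  obtain ⟨_, ⟨W', hW', rfl⟩, hy'W, hWV⟩ :=
    (T i).isBasis_affineOpens.exists_subset_of_mem_open hy'V ((g i) ⁻¹ᵁ V).isOpen
  have hWV' : W' ≤ (g i) ⁻¹ᵁ V := hWV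
  have hU : IsAffineOpen (f ⁻¹ᵁ V) := hV.preimage f
  have H : IsPullback (pullback.fst f (g i)) (pullback.snd f (g i)) f (g i) :=
    IsPullback.of_hasPullback f (g i)
  have hpo := (isIso_pushoutSection_iff H hWV' (le_refl (f ⁻¹ᵁ V)) rfl).1
    (isIso_pushoutSection_of_isAffineOpen H hWV' (le_refl (f ⁻¹ᵁ V)) rfl hV hW' hU)
  refine ⟨Γ(T i, W'), Γ(pullback f (g i),
      pullback.fst f (g i) ⁻¹ᵁ (f ⁻¹ᵁ V) ⊓ pullback.snd f (g i) ⁻¹ᵁ W'),
    (g i).appLE V W' hWV',
    (pullback.fst f (g i)).appLE (f ⁻¹ᵁ V)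
      (pullback.fst f (g i) ⁻¹ᵁ (f ⁻¹ᵁ V) ⊓ pullback.snd f (g i) ⁻¹ᵁ W') inf_le_left,
    (pullback.snd f (g i)).appLE W'
      (pullback.fst f (g i) ⁻¹ᵁ (f ⁻¹ᵁ V) ⊓ pullback.snd f (g i) ⁻¹ᵁ W') inf_le_right,
    ?_, ?_, ?_, ?_⟩
  · rw [Scheme.Hom.app_eq_appLE]
    exact hpo
  · exact HasRingHomProperty.appLE (P := @Flat) (g i) inferInstance ⟨V, hV⟩ ⟨W', hW'⟩ hWV'
  · refine ⟨hW'.primeIdealOf ⟨y', hy'W⟩, ?_⟩
    rw [IsAffineOpen.comap_primeIdealOf_appLE V hV W' hW' hWV' hy'W, ← hy]
    congr 1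
    exact Subtype.ext hy'
  · rw [← ConcreteCategory.isIso_iff_bijective]
    have heq : (pullback.fst f (g i) ⁻¹ᵁ (f ⁻¹ᵁ V) ⊓ pullback.snd f (g i) ⁻¹ᵁ W') =
        pullback.snd f (g i) ⁻¹ᵁ W' := by
      apply le_antisymm inf_le_right
      refine le_inf ?_ le_rfl
      intro z hz
      change f ((pullback.fst f (g i)) z) ∈ V
      rw [show f ((pullback.fst f (g i)) z) = (g i) ((pullback.snd f (g i)) z) from comm_pt f (g i) z]
      exact hWV' hz
    rw [Scheme.Hom.appLE]
    have : IsIso (homOfLE (show (pullback.fst f (g i) ⁻¹ᵁ (f ⁻¹ᵁ V) ⊓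
        pullback.snd f (g i) ⁻¹ᵁ W') ≤ pullback.snd f (g i) ⁻¹ᵁ W' from inf_le_right)) := by
      rw [show homOfLE _ = eqToHom heq from Subsingleton.elim _ _]
      infer_instance
    have := h i
    infer_instance

/-- Isomorphisms descend along jointly surjective flat families (source morphism quasi-compact). -/
theorem isIso_of_family [QuasiCompact f] [∀ i, Flat (g i)]
    (hsurj : ∀ y : Y, ∃ i, ∃ t : T i, (g i).base t = y)
    (h : ∀ i, IsIso (pullback.snd f (g i))) : IsIso f := by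
  have hhomeo : IsHomeomorph f.base :=
    isHomeomorph_of_family f T g hsurj
      (fun i => have := h i; (pullback.snd f (g i)).homeomorph.isHomeomorph)
  have : IsAffineHom f := isAffineHom_of_isInducing f hhomeo.isInducing
    (by rw [hhomeo.surjective.range_eq]; exact isClosed_univ)
  refine IsZariskiLocalAtTarget.of_iSup_eq_top (P := MorphismProperty.isomorphisms Scheme)
    (fun U : Y.affineOpens => U.1) (iSup_affineOpens_eq_top Y) (fun U => ?_)
  rw [MorphismProperty.isomorphisms.iff, isIso_morphismRestrict_iff_isIso_app f U.2]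
  exact isIso_app_of_family f T g hsurj h U.2

end family

end Groth.Agent.H22.FlatCover
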