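import Mathlib
import Groth.Agent.Lib.helper22.FlatCoverSch

set_option autoImplicit false
universe u

open CategoryTheory CategoryTheory.Limits AlgebraicGeometry TensorProduct

namespace Groth.Agent.H22.FlatCover

theorem appLE_top_top {X Y : Scheme.{u}} (f : X ⟶ Y) (e : (⊤ : X.Opens) ≤ f ⁻¹ᵁ ⊤) :
    f.appLE ⊤ ⊤ e = f.appTop := by
  simp [Scheme.Hom.appLE, Scheme.Hom.appTop]

theorem isPushout_of_comp_iso {C : Type*} [Category C] {Z X X' Y P : C} {a : Z ⟶ X'} {e : X' ⟶ X}
    {b : Z ⟶ Y} {l : X ⟶ P} {r : Y ⟶ P} [IsIso e] (h : IsPushout (a ≫ e) b l r) :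
    IsPushout a b (e ≫ l) r :=
  IsPushout.of_iso h (Iso.refl _) (asIso e).symm (Iso.refl _) (Iso.refl _)
    (by simp) (by simp) (by simp) (by simp)

/-- Affineness descends along a jointly surjective flat family of affine schemes
(over an affine base, for a qcqs scheme). -/
theorem isAffine_of_flat_family {X S : Scheme.{u}} [IsAffine S] [CompactSpace X]
    [QuasiSeparatedSpace X] (f : X ⟶ S) {ι : Type*} (T : ι → Scheme.{u}) [∀ i, IsAffine (T i)]
    (g : ∀ i, T i ⟶ S) [∀ i, Flat (g i)] (hsurj : ∀ y : S, ∃ i, ∃ t : T i, (g i).base t = y)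
    (h : ∀ i, IsAffine (pullback f (g i))) : IsAffine X := by
  obtain ⟨s, rfl⟩ : ∃ s : Spec Γ(X, ⊤) ⟶ S, X.toSpecΓ ≫ s = f :=
    ⟨Spec.map f.appTop ≫ inv S.toSpecΓ, by
      rw [← Scheme.toSpecΓ_naturality_assoc, IsIso.hom_inv_id, Category.comp_id]⟩
  set c := X.toSpecΓ with hc
  refine ⟨?_⟩
  refine isIso_of_family c (fun i => pullback s (g i)) (fun i => pullback.fst s (g i)) ?_ ?_
  · intro q
    obtain ⟨i, t, ht⟩ := hsurj (s.base q)
    obtain ⟨z, hz, -⟩ := Scheme.Pullback.exists_preimage_pullback (f := s) (g := g i) q t ht.symm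
    exact ⟨i, z, hz⟩
  · intro i
    let θ := pullbackRightPullbackFstIso s (g i) c
    let m : pullback (c ≫ s) (g i) ⟶ pullback s (g i) :=
      pullback.map (c ≫ s) (g i) s (g i) c (𝟙 _) (𝟙 _) (by simp) (by simp)
    have hm : pullback.snd c (pullback.fst s (g i)) = θ.hom ≫ m := by
      apply pullback.hom_ext
      · rw [← pullback.condition]
        simp only [θ, m, pullback.map]
        rw [Category.assoc, pullback.lift_fst, pullbackRightPullbackFstIso_hom_fst_assoc]
      · simp only [θ, m, pullback.map]
        rw [Category.assoc, pullback.lift_snd, Category.comp_id, pullbackRightPullbackFstIso_hom_snd]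
    rw [hm]
    suffices IsIso m from inferInstance
    have hA1 : IsAffine (pullback (c ≫ s) (g i)) := h i
    have hA2 : IsAffine (pullback s (g i)) := inferInstance
    have : IsIso m.appTop := by
      have PO1 := isPushout_appTop_of_isPullback (IsPullback.of_hasPullback s (g i))
      have H2 := IsPullback.of_hasPullback (c ≫ s) (g i)
      have hiso := isIso_pushoutSection_of_isQuasiSeparated_of_flat_right H2
        (US := ⊤) (UT := ⊤) (UX := ⊤) (UY := ⊤) (by simp) (by simp) (by simp)
        (isAffineOpen_top S) (isAffineOpen_top (T i)) isCompact_univ isQuasiSeparated_univ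
      have PO2 := (isIso_pushoutSection_iff _ _ _ _).1 hiso
      simp only [appLE_top_top] at PO2
      rw [Scheme.Hom.comp_appTop] at PO2
      have hciso : IsIso c.appTop := by
        rw [hc, Scheme.toSpecΓ_appTop]; infer_instance
      have PO2' := isPushout_of_comp_iso PO2
      have hm1 : (pullback.fst s (g i)).appTop ≫ m.appTop =
          c.appTop ≫ (pullback.fst (c ≫ s) (g i)).appTop := by
        rw [← Scheme.Hom.comp_appTop, ← Scheme.Hom.comp_appTop]
        congr 1
        simp only [m, pullback.map]
        rw [pullback.lift_fst]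
      have hm2 : (pullback.snd s (g i)).appTop ≫ m.appTop =
          (pullback.snd (c ≫ s) (g i)).appTop := by
        rw [← Scheme.Hom.comp_appTop]
        congr 1
        simp only [m, pullback.map]
        rw [pullback.lift_snd, Category.comp_id]
      have : m.appTop = (PO1.isoIsPushout _ _ PO2').hom := by
        apply PO1.hom_ext
        · rw [hm1, IsPushout.inl_isoIsPushout_hom]
        · rw [hm2, IsPushout.inr_isoIsPushout_hom]
      rw [this]
      infer_instance
    exact (HasAffineProperty.iff_of_isAffine (P := MorphismProperty.isomorphisms Scheme)).2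
      ⟨hA1, this⟩

end Groth.Agent.H22.FlatCover
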