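import Mathlib
open TensorProduct

namespace Groth.Agent.H22.CartierFlat

universe u v
variable {A : Type u} {B : Type v} [CommRing A] [CommRing B] [Algebra A B]

/-- step 1: an element in the kernel is killed by something outside `q` if `B_q` is flat. -/
theorem exists_smul_eq_zero_of_flat_atPrime (q : Ideal B) [q.IsPrime]
    (hq : Module.Flat A (Localization.AtPrime q))
    {P : Type u} [AddCommMonoid P] [Module A P] (N : Submodule A P)
    (z : B ⊗[A] N) (hz : N.subtype.lTensor B z = 0) : ∃ s : B, s ∉ q ∧ s • z = 0 := by
  let g : B →ₗ[B] Localization.AtPrime q := Algebra.linearMap B (Localization.AtPrime q)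
  haveI : IsLocalizedModule q.primeCompl g := by
    unfold g; infer_instance
  have hloc : IsLocalizedModule q.primeCompl (AlgebraTensorModule.rTensor A N g) := inferInstance
  have hinj : Function.Injective (N.subtype.lTensor (Localization.AtPrime q)) :=
    Module.Flat.lTensor_preserves_injective_linearMap _ N.injective_subtype
  have hcomm : ∀ z : B ⊗[A] N,
      N.subtype.lTensor (Localization.AtPrime q) ((AlgebraTensorModule.rTensor A N g) z)
      = (g.restrictScalars A).rTensor P (N.subtype.lTensor B z) := by
    intro z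
    induction z using TensorProduct.induction_on with
    | zero => simp
    | tmul b n => simp
    | add x y hx hy => simp only [map_add, hx, hy]
  replace hcomm := hcomm z
  rw [hz, map_zero] at hcomm
  have h0 : (AlgebraTensorModule.rTensor A N g) z = 0 := hinj (by rw [hcomm, map_zero])
  obtain ⟨c, hc⟩ := (IsLocalizedModule.eq_zero_iff q.primeCompl _).mp h0
  exact ⟨c.1, c.2, hc⟩

/-- step 3: multiplication by a nonzerodivisor `t` with `B/t` flat is injective on `B ⊗ N`. -/
theorem smul_injective_of_flat_quot (t : B) (ht : t ∈ nonZeroDivisors B)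
    (h1 : Module.Flat A (B ⧸ Ideal.span {t}))
    {N : Type*} [AddCommMonoid N] [Module A N] (z : B ⊗[A] N) (hz : t • z = 0) : z = 0 := by
  letI : AddCommGroup N := Module.addCommMonoidToAddCommGroup A
  let g : B →ₗ[A] B := LinearMap.mulLeft A t
  let f : B →ₗ[A] (B ⧸ Ideal.span {t}) := (Ideal.Quotient.mkₐ A (Ideal.span {t})).toLinearMap
  have hf : Function.Surjective f := Ideal.Quotient.mk_surjective
  have hg : Function.Injective g := by
    intro a b hab
    have : t * (a - b) = 0 := by
      simp only [g, LinearMap.mulLeft_apply] at hab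
      rw [mul_sub, hab, sub_self]
    have := (mem_nonZeroDivisors_iff.mp ht).1 _ this
    exact sub_eq_zero.mp this
  have hex : Function.Exact g f := by
    intro y
    simp only [f, g, AlgHom.toLinearMap_apply, Ideal.Quotient.mkₐ_eq_mk,
      Ideal.Quotient.eq_zero_iff_mem, Ideal.mem_span_singleton', Set.mem_range,
      LinearMap.mulLeft_apply]
    constructor
    · rintro ⟨a, rfl⟩; exact ⟨a, mul_comm _ _⟩
    · rintro ⟨a, rfl⟩; exact ⟨a, mul_comm _ _⟩
  have hinj := LinearMap.lTensor_injective_of_exact_of_flat f hf g hg hex N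
  rw [LinearMap.lTensor_inj_iff_rTensor_inj] at hinj
  have key : ∀ z : B ⊗[A] N, LinearMap.rTensor N g z = t • z := by
    intro z
    induction z using TensorProduct.induction_on with
    | zero => simp
    | tmul b n => simp [g, TensorProduct.smul_tmul']
    | add x y hx hy => simp only [map_add, smul_add, hx, hy]
  apply hinj
  rw [map_zero, key, hz]

theorem flat_of_nzd_of_flat_quot (t : B) (ht : t ∈ nonZeroDivisors B)
    (h1 : Module.Flat A (B ⧸ Ideal.span {t}))
    (h2 : ∀ (q : Ideal B) [q.IsPrime], t ∉ q → Module.Flat A (Localization.AtPrime q)) :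
    Module.Flat A B := by
  rw [Module.Flat.iff_lTensor_injectiveₛ]
  intro P _ _ N
  rw [injective_iff_map_eq_zero]
  intro z hz
  -- step 2: a power of t kills z
  have hpow : ∃ n : ℕ, t ^ n • z = 0 := by
    by_contra hcon
    push_neg at hcon
    let I : Ideal B := LinearMap.ker (LinearMap.toSpanSingleton B (B ⊗[A] N) z)
    have hI : ∀ b, b ∈ I ↔ b • z = 0 := fun b => by
      simp [I, LinearMap.mem_ker, LinearMap.toSpanSingleton_apply]
    have hdisj : Disjoint (I : Set B) (Submonoid.powers t : Set B) := by
      rw [Set.disjoint_right]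
      rintro _ ⟨n, rfl⟩ hn
      exact hcon n ((hI _).mp hn)
    obtain ⟨q, hqp, hIq, hqd⟩ := Ideal.exists_le_prime_disjoint I (Submonoid.powers t) hdisj
    have htq : t ∉ q := fun h => Set.disjoint_left.mp hqd h (Submonoid.mem_powers t)
    haveI := hqp
    have hfl : Module.Flat A (Localization.AtPrime q) := h2 q htq
    obtain ⟨s, hs, hsz⟩ := exists_smul_eq_zero_of_flat_atPrime (A := A) q hfl N z hz
    exact hs (hIq ((hI s).mpr hsz))
  obtain ⟨n, hn⟩ := hpow
  induction n with
  | zero => simpa using hn
  | succ n ih =>
    apply ih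
    apply smul_injective_of_flat_quot t ht h1
    rw [smul_smul, ← pow_succ']
    exact hn

/-- transfer of the hypothesis on the quotient along a surjection with principal kernel. -/
theorem flat_quot_of_surjective {C : Type*} [CommRing C] (ψ : B →+* C)
    (hψ : Function.Surjective ψ) (t : B) (hker : RingHom.ker ψ = Ideal.span {t})
    (hfl : (ψ.comp (algebraMap A B)).Flat) : Module.Flat A (B ⧸ Ideal.span {t}) := by
  letI : Algebra A C := (ψ.comp (algebraMap A B)).toAlgebra
  have hfl' : Module.Flat A C := hfl
  let ψ' : B →ₐ[A] C := { ψ with commutes' := fun a => rfl }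
  have hψ' : Function.Surjective ψ' := hψ
  have hk : RingHom.ker ψ' = Ideal.span {t} := hker
  let e : (B ⧸ Ideal.span {t}) ≃ₐ[A] C :=
    (Ideal.quotientEquivAlgOfEq A hk.symm).trans (Ideal.quotientKerAlgEquivOfSurjective hψ')
  exact Module.Flat.of_linearEquiv e.toLinearEquiv

end Groth.Agent.H22.CartierFlat
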