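import Mathlib
import Groth.Agent.Lib.helper24.NilFlat

/-!
# Algebra for deformations across nilpotent thickenings (helper22)
-/

universe u

open TensorProduct Function

namespace Groth.Agent.H22.DeformAlg

section T

variable {C' B' A' : Type u} [CommRing C'] [CommRing B'] [CommRing A'] [Algebra C' B']
  [Algebra B' A'] [Algebra C' A'] [IsScalarTower C' B' A']

/-- The comparison map `J ⊗[C'] A' → (J B') ⊗[B'] A'`. -/
noncomputable def theta (J : Ideal C') :
    J ⊗[C'] A' →ₗ[C'] (J.map (algebraMap C' B') : Ideal B') ⊗[B'] A' :=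
  (TensorProduct.mapOfCompatibleSMul B' C' C' (J.map (algebraMap C' B') : Ideal B') A') ∘ₗ
    (LinearMap.rTensor A'
      ({ toFun := fun c => ⟨algebraMap C' B' c.1, Ideal.mem_map_of_mem _ c.2⟩
         map_add' := fun x y => by ext; simp
         map_smul' := fun r x => by ext; simp [Algebra.smul_def] } :
        J →ₗ[C'] (J.map (algebraMap C' B') : Ideal B')))

theorem theta_tmul (J : Ideal C') (c : J) (a : A') :
    theta (B' := B') J (c ⊗ₜ a) = ⟨algebraMap C' B' c.1, Ideal.mem_map_of_mem _ c.2⟩ ⊗ₜ a := rfl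

theorem theta_surjective (J : Ideal C') : Surjective (theta (B' := B') (A' := A') J) := by
  intro x
  induction x using TensorProduct.induction_on with
  | zero => exact ⟨0, map_zero _⟩
  | add x y hx hy =>
    obtain ⟨x', rfl⟩ := hx
    obtain ⟨y', rfl⟩ := hy
    exact ⟨x' + y', map_add _ _ _⟩
  | tmul i a =>
    obtain ⟨i, hi⟩ := i
    have key : ∀ (i : B') (hi : i ∈ (J.map (algebraMap C' B') : Ideal B')) (a : A'),
        ∃ y, theta (B' := B') (A' := A') J y = (⟨i, hi⟩ : (J.map (algebraMap C' B') : Ideal B')) ⊗ₜ a := by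
      intro i hi
      refine Submodule.span_induction (p := fun i hi => ∀ a : A', ∃ y,
        theta (B' := B') (A' := A') J y =
          (⟨i, hi⟩ : (J.map (algebraMap C' B') : Ideal B')) ⊗ₜ a) ?_ ?_ ?_ ?_ hi
      · rintro x ⟨c, hc, rfl⟩ a
        exact ⟨(⟨c, hc⟩ : J) ⊗ₜ a, rfl⟩
      · intro a
        refine ⟨0, ?_⟩
        rw [map_zero]
        exact (TensorProduct.zero_tmul _ a).symm
      · intro x y hx hy ihx ihy a
        obtain ⟨x', hx'⟩ := ihx a
        obtain ⟨y', hy'⟩ := ihy a
        refine ⟨x' + y', ?_⟩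
        rw [map_add, hx', hy', ← TensorProduct.add_tmul]
        rfl
      · intro b x hx ih a
        obtain ⟨y, hy⟩ := ih (b • a)
        refine ⟨y, ?_⟩
        rw [hy]
        exact (TensorProduct.smul_tmul b _ a).symm
    exact key i hi a

/-- (T): if `A'` is flat over `C'`, then `(J B') ⊗[B'] A' → B' ⊗[B'] A'` is injective. -/
theorem rTensor_subtype_injective [Module.Flat C' A'] (J : Ideal C') :
    Injective ((J.map (algebraMap C' B') : Ideal B').subtype.rTensor A') := by
  set I : Ideal B' := J.map (algebraMap C' B') with hI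
  have hJ : Injective (J.subtype.rTensor A') :=
    Module.Flat.rTensor_preserves_injective_linearMap _ Subtype.val_injective
  have hcompat : ∀ y : J ⊗[C'] A',
      TensorProduct.lid B' A' ((I.subtype.rTensor A') (theta (B' := B') J y)) =
        TensorProduct.lid C' A' ((J.subtype.rTensor A') y) := by
    intro y
    induction y using TensorProduct.induction_on with
    | zero => simp
    | add x y hx hy => simp only [map_add, hx, hy]
    | tmul c a =>
      rw [theta_tmul]
      simp [hI]
  rw [injective_iff_map_eq_zero]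
  intro x hx
  obtain ⟨y, rfl⟩ := theta_surjective (B' := B') (A' := A') J x
  have h1 := hcompat y
  rw [hx, map_zero] at h1
  have h2 : (J.subtype.rTensor A') y = 0 :=
    (TensorProduct.lid C' A').injective (by rw [← h1, map_zero])
  have h3 : y = 0 := hJ (by rw [h2, map_zero])
  rw [h3, map_zero]

end T

end Groth.Agent.H22.DeformAlg

namespace Groth.Agent.H22.Deform

/-- Ring-level deformation data: `C' → B' → A'` with `A'` flat over `C'`, `J ⊆ C'` nilpotent,
`B = B'/JB'`, `A = A'/JA'` and `φ : B → A` the induced map. -/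
structure DeformData {C' B' A' B A : Type u} [CommRing C'] [CommRing B'] [CommRing A']
    [CommRing B] [CommRing A] (γ : C' →+* B') (φ' : B' →+* A') (πB : B' →+* B) (πA : A' →+* A)
    (φ : B →+* A) (J : Ideal C') : Prop where
  surjB : Function.Surjective πB
  surjA : Function.Surjective πA
  nilp : IsNilpotent J
  kerB : RingHom.ker πB = J.map γ
  kerA : RingHom.ker πA = J.map (φ'.comp γ)
  comm : φ.comp πB = πA.comp φ'
  flat : (φ'.comp γ).Flat

open Groth.Agent.H22.DeformAlg

section Data

variable {C' B' A' B A : Type u} [CommRing C'] [CommRing B'] [CommRing A']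
    [CommRing B] [CommRing A] {γ : C' →+* B'} {φ' : B' →+* A'} {πB : B' →+* B} {πA : A' →+* A}
    {φ : B →+* A} {J : Ideal C'}

theorem DeformData.isNilpotent_map (h : DeformData γ φ' πB πA φ J) : IsNilpotent (J.map γ) := by
  obtain ⟨n, hn⟩ := h.nilp
  exact ⟨n, by rw [← Ideal.map_pow, hn]; exact Ideal.map_bot⟩

theorem DeformData.kerA' (h : DeformData γ φ' πB πA φ J) :
    RingHom.ker πA = (J.map γ).map φ' := by
  rw [h.kerA, Ideal.map_map]

/-- the identification `B' ⧸ J B' ≃ B`. -/
noncomputable def DeformData.eB (h : DeformData γ φ' πB πA φ J) : (B' ⧸ J.map γ) ≃+* B :=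
  (Ideal.quotEquivOfEq h.kerB.symm).trans (RingHom.quotientKerEquivOfSurjective h.surjB)

/-- the identification `A' ⧸ J A' ≃ A`. -/
noncomputable def DeformData.eA (h : DeformData γ φ' πB πA φ J) :
    (A' ⧸ (J.map γ).map φ') ≃+* A :=
  (Ideal.quotEquivOfEq h.kerA'.symm).trans (RingHom.quotientKerEquivOfSurjective h.surjA)

theorem DeformData.eB_mk (h : DeformData γ φ' πB πA φ J) (b : B') :
    h.eB (Ideal.Quotient.mk _ b) = πB b := rfl

theorem DeformData.eA_mk (h : DeformData γ φ' πB πA φ J) (a : A') :
    h.eA (Ideal.Quotient.mk _ a) = πA a := rfl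

theorem DeformData.comm_quot (h : DeformData γ φ' πB πA φ J) :
    φ.comp (h.eB : (B' ⧸ J.map γ) →+* B) =
      (h.eA : (A' ⧸ (J.map γ).map φ') →+* A).comp
        (Ideal.quotientMap ((J.map γ).map φ') φ' Ideal.le_comap_map) := by
  apply Ideal.Quotient.ringHom_ext
  ext b
  simp only [RingHom.comp_apply, RingHom.coe_coe, Ideal.quotientMap_mk]
  rw [h.eB_mk, h.eA_mk]
  exact congr($(h.comm) b)

/-- Transfer of a ring hom property respecting isomorphisms from `φ` to the quotient map. -/
theorem DeformData.quotientMap_of {Q : ∀ {R S : Type u} [CommRing R] [CommRing S], (R →+* S) → Prop}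
    (hQ : RingHom.RespectsIso Q) (h : DeformData γ φ' πB πA φ J) (hφ : Q φ) :
    Q (Ideal.quotientMap ((J.map γ).map φ') φ' Ideal.le_comap_map) := by
  have h1 : Q (φ.comp (h.eB : (B' ⧸ J.map γ) →+* B)) := hQ.2 φ h.eB hφ
  rw [h.comm_quot] at h1
  have h2 := hQ.1 _ h.eA.symm h1
  convert h2 using 1
  ext x
  simp

/-- **Flatness deforms**: in the situation of `DeformData`, if `φ` is flat then so is `φ'`. -/
theorem flat_of_deformData (h : DeformData γ φ' πB πA φ J) (hφ : φ.Flat) : φ'.Flat := by
  letI := γ.toAlgebra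
  letI := φ'.toAlgebra
  letI : Algebra C' A' := (φ'.comp γ).toAlgebra
  haveI : IsScalarTower C' B' A' := IsScalarTower.of_algebraMap_eq (fun _ => rfl)
  haveI : Module.Flat C' A' := h.flat
  set I : Ideal B' := J.map (algebraMap C' B') with hI
  have hT : Injective (I.subtype.rTensor A') := rTensor_subtype_injective (B' := B') (A' := A') J
  have hInil : IsNilpotent I := h.isNilpotent_map
  have hq : (algebraMap (B' ⧸ I) (A' ⧸ I.map (algebraMap B' A'))).Flat :=
    h.quotientMap_of RingHom.Flat.respectsIso hφ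
  rw [RingHom.flat_algebraMap_iff] at hq
  haveI : Module.Flat (B' ⧸ I) ((B' ⧸ I) ⊗[B'] A') :=
    Module.Flat.of_linearEquiv
      (Algebra.TensorProduct.quotIdealMapEquivQuotTensor A' I).symm.toLinearEquiv
  exact Groth.Agent.Lib.helper24.NilFlat.flat_of_isNilpotent I A' hInil hT

end Data

end Groth.Agent.H22.Deform
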