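import Mathlib
import Groth.Prelude.Def_MoreMor

universe u

open CategoryTheory CategoryTheory.Limits AlgebraicGeometry

namespace Groth.Agent.H22.ThickBC

/-- Kernel of the base change of a closed immersion is contained in the extension of the kernel,
on compatible affine opens. -/
theorem ker_ideal_le_map_of_isPullback {Z P W W' : Scheme.{u}} (i' : Z ⟶ P) (f : Z ⟶ W)
    (s : P ⟶ W') (j : W ⟶ W') (hc : IsPullback i' f s j) [IsClosedImmersion j]
    (U : P.Opens) (hU : IsAffineOpen U) (V' : W'.Opens) (hV' : IsAffineOpen V')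
    (e : U ≤ s ⁻¹ᵁ V') :
    i'.ker.ideal ⟨U, hU⟩ ≤ Ideal.map (s.appLE V' U e).hom (j.ker.ideal ⟨V', hV'⟩) := by
  haveI : IsClosedImmersion i' := MorphismProperty.of_isPullback (P := @IsClosedImmersion) hc.flip
    inferInstance
  have hW : IsAffineOpen (j ⁻¹ᵁ V') := hV'.preimage j
  have hD : IsAffineOpen (i' ⁻¹ᵁ U) := hU.preimage i'
  rw [Scheme.Hom.ker_apply, Scheme.Hom.ker_apply]
  set K : Ideal Γ(W', V') := RingHom.ker (j.app V').hom with hK
  set φ := s.appLE V' U e with hφ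
  let Q := Γ(P, U) ⧸ K.map φ.hom
  let q : Γ(P, U) →+* Q := Ideal.Quotient.mk _
  have hψ : Function.Surjective (j.app V').hom := j.app_surjective V' hV'
  have hle : RingHom.ker (j.app V').hom ≤ RingHom.ker (q.comp φ.hom) := by
    intro b hb
    rw [RingHom.mem_ker, RingHom.comp_apply, Ideal.Quotient.eq_zero_iff_mem]
    exact Ideal.mem_map_of_mem _ hb
  let ρ : Γ(W, j ⁻¹ᵁ V') →+* Q := RingHom.liftOfSurjective (j.app V').hom hψ ⟨q.comp φ.hom, hle⟩
  have hρ : ρ.comp (j.app V').hom = q.comp φ.hom :=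
    RingHom.liftOfRightInverse_comp _ _ _ _
  let u : Spec (CommRingCat.of Q) ⟶ P := Spec.map (CommRingCat.ofHom q) ≫ hU.fromSpec
  let v : Spec (CommRingCat.of Q) ⟶ W := Spec.map (CommRingCat.ofHom ρ) ≫ hW.fromSpec
  have huv : u ≫ s = v ≫ j := by
    have happ : j.app V' = j.appLE V' (j ⁻¹ᵁ V') le_rfl := Scheme.Hom.app_eq_appLE _
    simp only [u, v, Category.assoc]
    rw [← hV'.SpecMap_appLE_fromSpec s hU e, ← hV'.SpecMap_appLE_fromSpec j hW le_rfl,
      ← Spec.map_comp_assoc, ← Spec.map_comp_assoc, ← happ]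
    congr 2
    ext b
    exact (congr($hρ b)).symm
  let l : Spec (CommRingCat.of Q) ⟶ Z := hc.lift u v huv
  have hl1 : l ≫ i' = u := hc.lift_fst _ _ _
  have hrange : Set.range l ⊆ Set.range (i' ⁻¹ᵁ U).ι := by
    rintro _ ⟨p, rfl⟩
    rw [Scheme.Opens.range_ι]
    change i' (l p) ∈ U
    rw [← Scheme.Hom.comp_apply, hl1, Scheme.Hom.comp_apply]
    have : hU.fromSpec (Spec.map (CommRingCat.ofHom q) p) ∈ Set.range hU.fromSpec := ⟨_, rfl⟩
    rw [hU.range_fromSpec] at this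
    exact this
  let l' : Spec (CommRingCat.of Q) ⟶ (i' ⁻¹ᵁ U).toScheme :=
    IsOpenImmersion.lift (i' ⁻¹ᵁ U).ι l hrange
  have hl' : l' ≫ (i' ⁻¹ᵁ U).ι = l := IsOpenImmersion.lift_fac _ _ _
  let θ : Γ(Z, i' ⁻¹ᵁ U) ⟶ CommRingCat.of Q := Spec.preimage (l' ≫ hD.isoSpec.hom)
  have hθ : Spec.map θ ≫ hD.fromSpec = l := by
    rw [Spec.map_preimage, Category.assoc, hD.isoSpec_hom_fromSpec, hl']
  have hqθ : CommRingCat.ofHom q = i'.app U ≫ θ := by
    apply Spec.map_injective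
    rw [← cancel_mono hU.fromSpec, Spec.map_comp, Category.assoc,
      Scheme.Hom.app_eq_appLE, hU.SpecMap_appLE_fromSpec i' hD le_rfl, ← Category.assoc, hθ, hl1]
  intro x hx
  rw [RingHom.mem_ker] at hx
  have : q x = 0 := by
    have := congr($hqθ x)
    rw [CommRingCat.comp_apply, hx, map_zero] at this
    exact this
  rwa [Ideal.Quotient.eq_zero_iff_mem] at this


/-- Nilpotency order of the kernel is preserved by base change of a closed immersion. -/
theorem ker_pow_eq_bot_of_isPullback {Z P W W' : Scheme.{u}} (i' : Z ⟶ P) (f : Z ⟶ W)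
    (s : P ⟶ W') (j : W ⟶ W') (hc : IsPullback i' f s j) [IsClosedImmersion j] (n : ℕ)
    (hn : j.ker ^ n = ⊥) : i'.ker ^ n = ⊥ := by
  refine le_bot_iff.mp ?_
  -- cover `P` by affine opens mapping into affine opens of `W'`
  have hcov : ∀ p : P, ∃ (U : P.affineOpens), p ∈ U.1 ∧
      ∃ (V' : W'.Opens) (_ : IsAffineOpen V'), U.1 ≤ s ⁻¹ᵁ V' := by
    intro p
    obtain ⟨_, ⟨V' : W'.Opens, hV', rfl⟩, hpV, -⟩ :=
      W'.isBasis_affineOpens.exists_subset_of_mem_open (Set.mem_univ (s p)) isOpen_univ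
    obtain ⟨_, ⟨U : P.Opens, hU, rfl⟩, hpU, hUV : U ≤ s ⁻¹ᵁ V'⟩ :=
      P.isBasis_affineOpens.exists_subset_of_mem_open hpV (s ⁻¹ᵁ V').isOpen
    exact ⟨⟨U, hU⟩, hpU, V', hV', hUV⟩
  choose U hpU V' hV' hUV using hcov
  refine Scheme.IdealSheafData.le_of_iSup_eq_top U
    (top_le_iff.mp fun p _ => TopologicalSpace.Opens.mem_iSup.mpr ⟨p, hpU p⟩) (fun p => ?_)
  rw [Scheme.IdealSheafData.ideal_pow, Pi.pow_apply, Scheme.IdealSheafData.ideal_bot,
    Pi.bot_apply]
  have h1 := ker_ideal_le_map_of_isPullback i' f s j hc (U p).1 (U p).2 (V' p) (hV' p) (hUV p)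
  have h2 : (j.ker.ideal ⟨V' p, hV' p⟩) ^ n = ⊥ := by
    have := congr(($hn).ideal ⟨V' p, hV' p⟩)
    rw [Scheme.IdealSheafData.ideal_pow, Pi.pow_apply] at this
    exact this
  calc (i'.ker.ideal (U p)) ^ n
      ≤ (Ideal.map (s.appLE (V' p) (U p).1 (hUV p)).hom (j.ker.ideal ⟨V' p, hV' p⟩)) ^ n :=
        Ideal.pow_right_mono h1 n
    _ = ⊥ := by rw [← Ideal.map_pow, h2, Ideal.map_bot]

theorem isThickening_of_isPullback {Z P W W' : Scheme.{u}} (i' : Z ⟶ P) (f : Z ⟶ W)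
    (s : P ⟶ W') (j : W ⟶ W') (hc : IsPullback i' f s j) (hj : MoreMor.IsThickening j) :
    MoreMor.IsThickening i' := by
  haveI := hj.1
  haveI := hj.2
  exact ⟨MorphismProperty.of_isPullback (P := @IsClosedImmersion) hc.flip inferInstance,
    MorphismProperty.of_isPullback (P := @Surjective) hc.flip inferInstance⟩

theorem firstOrder_of_isPullback {Z P W W' : Scheme.{u}} (i' : Z ⟶ P) (f : Z ⟶ W)
    (s : P ⟶ W') (j : W ⟶ W') (hc : IsPullback i' f s j)
    (hj : MoreMor.IsFirstOrderThickening j) : MoreMor.IsFirstOrderThickening i' := by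
  haveI := hj.1.1
  refine ⟨isThickening_of_isPullback i' f s j hc hj.1, ?_⟩
  have := ker_pow_eq_bot_of_isPullback i' f s j hc 2 (by rw [pow_two]; exact hj.2)
  rwa [pow_two] at this

theorem finiteOrder_of_isPullback {Z P W W' : Scheme.{u}} (i' : Z ⟶ P) (f : Z ⟶ W)
    (s : P ⟶ W') (j : W ⟶ W') (hc : IsPullback i' f s j)
    (hj : MoreMor.IsFiniteOrderThickening j) : MoreMor.IsFiniteOrderThickening i' := by
  haveI := hj.1.1
  obtain ⟨n, hn⟩ := hj.2
  exact ⟨isThickening_of_isPullback i' f s j hc hj.1, n,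
    ker_pow_eq_bot_of_isPullback i' f s j hc n hn⟩

end Groth.Agent.H22.ThickBC
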