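import Mathlib
import Groth.Prelude.Def_MoreMor
import Groth.Agent.Lib.helper22.ThickBC
import Groth.Agent.Lib.helper22.DeformAlg

/-!
# Deformation set-up across a finite order thickening (helper22)

For a diagram `X ⟶ Y ⟶ S` obtained by base change along a thickening `iS : S ⟶ S'` from
`X' ⟶ Y' ⟶ S'`, we give the affine-local ring-level description.
-/

universe u

open CategoryTheory CategoryTheory.Limits AlgebraicGeometry

namespace Groth.Agent.H22.Deform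

/-- The left square of the two-square diagram is a pullback. -/
theorem isPullback_left {X X' Y Y' S S' : Scheme.{u}} (iX : X ⟶ X') (iY : Y ⟶ Y') (iS : S ⟶ S')
    (f : X ⟶ Y) (f' : X' ⟶ Y') (g : Y ⟶ S) (g' : Y' ⟶ S')
    (hcX : IsPullback iX (f ≫ g) (f' ≫ g') iS) (hcY : IsPullback iY g g' iS)
    (w : iX ≫ f' = f ≫ iY) : IsPullback iX f f' iY :=
  (IsPullback.of_right hcX.flip w.symm hcY.flip).flip

/-- Kernel of the base change of a closed immersion is the extension of the kernel,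
on compatible affine opens. -/
theorem ker_app_eq_map {Z P W W' : Scheme.{u}} (i' : Z ⟶ P) (f : Z ⟶ W)
    (s : P ⟶ W') (j : W ⟶ W') (hc : IsPullback i' f s j) [IsClosedImmersion j]
    (U : P.Opens) (hU : IsAffineOpen U) (V' : W'.Opens) (hV' : IsAffineOpen V')
    (e : U ≤ s ⁻¹ᵁ V') :
    RingHom.ker (i'.app U).hom = Ideal.map (s.appLE V' U e).hom (RingHom.ker (j.app V').hom) := by
  haveI : IsClosedImmersion i' := MorphismProperty.of_isPullback (P := @IsClosedImmersion) hc.flip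
    inferInstance
  apply le_antisymm
  · have := ThickBC.ker_ideal_le_map_of_isPullback i' f s j hc U hU V' hV' e
    rwa [Scheme.Hom.ker_apply, Scheme.Hom.ker_apply] at this
  · rw [Ideal.map_le_iff_le_comap]
    intro c hc'
    rw [RingHom.mem_ker] at hc'
    rw [Ideal.mem_comap, RingHom.mem_ker]
    have hle : i' ⁻¹ᵁ U ≤ (i' ≫ s) ⁻¹ᵁ V' := fun y hy => e hy
    have h1 : s.appLE V' U e ≫ i'.app U = (i' ≫ s).appLE V' (i' ⁻¹ᵁ U) hle := by
      rw [Scheme.Hom.app_eq_appLE, Scheme.Hom.appLE_comp_appLE]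
    have hle2 : i' ⁻¹ᵁ U ≤ (f ≫ j) ⁻¹ᵁ V' := by rw [← hc.w]; exact hle
    have h2 : (i' ≫ s).appLE V' (i' ⁻¹ᵁ U) hle = (f ≫ j).appLE V' (i' ⁻¹ᵁ U) hle2 := by
      congr 1; exact hc.w
    have hle3 : i' ⁻¹ᵁ U ≤ f ⁻¹ᵁ (j ⁻¹ᵁ V') := hle2
    have h3 : (f ≫ j).appLE V' (i' ⁻¹ᵁ U) hle2 = j.app V' ≫ f.appLE (j ⁻¹ᵁ V') (i' ⁻¹ᵁ U) hle3 := by
      rw [Scheme.Hom.app_eq_appLE, Scheme.Hom.appLE_comp_appLE]
    have := congr($(h1.trans (h2.trans h3)) c)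
    rw [CommRingCat.comp_apply, CommRingCat.comp_apply, hc', map_zero] at this
    exact this

section Geom

variable {X X' Y Y' S S' : Scheme.{u}} (iX : X ⟶ X') (iY : Y ⟶ Y') (iS : S ⟶ S')
    (f : X ⟶ Y) (f' : X' ⟶ Y') (g : Y ⟶ S) (g' : Y' ⟶ S')

theorem exists_affine_triple (x' : X') : ∃ (W : S'.affineOpens) (U : Y'.affineOpens)
    (V : X'.affineOpens), x' ∈ V.1 ∧ U.1 ≤ g' ⁻¹ᵁ W.1 ∧ V.1 ≤ f' ⁻¹ᵁ U.1 := by
  obtain ⟨_, ⟨W : S'.Opens, hW, rfl⟩, hpW, -⟩ :=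
    S'.isBasis_affineOpens.exists_subset_of_mem_open (Set.mem_univ (g' (f' x'))) isOpen_univ
  obtain ⟨_, ⟨U : Y'.Opens, hU, rfl⟩, hpU, hUW : U ≤ g' ⁻¹ᵁ W⟩ :=
    Y'.isBasis_affineOpens.exists_subset_of_mem_open hpW (g' ⁻¹ᵁ W).isOpen
  obtain ⟨_, ⟨V : X'.Opens, hV, rfl⟩, hpV, hVU : V ≤ f' ⁻¹ᵁ U⟩ :=
    X'.isBasis_affineOpens.exists_subset_of_mem_open hpU (f' ⁻¹ᵁ U).isOpen
  exact ⟨⟨W, hW⟩, ⟨U, hU⟩, ⟨V, hV⟩, hpV, hUW, hVU⟩

variable {iX iY iS f f' g g'}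

theorem deformData (hS : MoreMor.IsFiniteOrderThickening iS)
    (hcX : IsPullback iX (f ≫ g) (f' ≫ g') iS) (hcY : IsPullback iY g g' iS)
    (w : iX ≫ f' = f ≫ iY) [Flat (f' ≫ g')]
    {W : S'.Opens} (hW : IsAffineOpen W) {U : Y'.Opens} (hU : IsAffineOpen U)
    {V : X'.Opens} (hV : IsAffineOpen V) (eU : U ≤ g' ⁻¹ᵁ W) (eV : V ≤ f' ⁻¹ᵁ U)
    (e' : iX ⁻¹ᵁ V ≤ f ⁻¹ᵁ (iY ⁻¹ᵁ U)) :
    DeformData (g'.appLE W U eU).hom (f'.appLE U V eV).hom (iY.app U).hom (iX.app V).hom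
      (f.appLE (iY ⁻¹ᵁ U) (iX ⁻¹ᵁ V) e').hom (RingHom.ker (iS.app W).hom) := by
  haveI : IsClosedImmersion iS := hS.1.1
  haveI : IsClosedImmersion iY :=
    MorphismProperty.of_isPullback (P := @IsClosedImmersion) hcY.flip inferInstance
  haveI : IsClosedImmersion iX :=
    MorphismProperty.of_isPullback (P := @IsClosedImmersion) hcX.flip inferInstance
  have eW : V ≤ (f' ≫ g') ⁻¹ᵁ W := fun y hy => eU (eV hy)
  have hcomp : (f' ≫ g').appLE W V eW = g'.appLE W U eU ≫ f'.appLE U V eV := by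
    rw [Scheme.Hom.appLE_comp_appLE]
  refine ⟨iY.app_surjective U hU, iX.app_surjective V hV, ?_, ?_, ?_, ?_, ?_⟩
  · obtain ⟨n, hn⟩ := hS.2
    refine ⟨n, ?_⟩
    have := congrArg (fun J : S'.IdealSheafData => J.ideal ⟨W, hW⟩) hn
    simpa [Scheme.IdealSheafData.ideal_pow, Scheme.Hom.ker_apply] using this
  · exact ker_app_eq_map iY g g' iS hcY U hU W hW eU
  · have := ker_app_eq_map iX (f ≫ g) (f' ≫ g') iS hcX V hV W hW eW
    rw [this, hcomp]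
    rfl
  · have hle : iX ⁻¹ᵁ V ≤ (iX ≫ f') ⁻¹ᵁ U := fun y hy => eV hy
    have h1 : f'.appLE U V eV ≫ iX.app V = (iX ≫ f').appLE U (iX ⁻¹ᵁ V) hle := by
      rw [Scheme.Hom.app_eq_appLE, Scheme.Hom.appLE_comp_appLE]
    have hle2 : iX ⁻¹ᵁ V ≤ (f ≫ iY) ⁻¹ᵁ U := by rw [← w]; exact hle
    have h2 : (iX ≫ f').appLE U (iX ⁻¹ᵁ V) hle = (f ≫ iY).appLE U (iX ⁻¹ᵁ V) hle2 := by
      congr 1
    have h3 : (f ≫ iY).appLE U (iX ⁻¹ᵁ V) hle2 = iY.app U ≫ f.appLE (iY ⁻¹ᵁ U) (iX ⁻¹ᵁ V) e' := by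
      rw [Scheme.Hom.app_eq_appLE, Scheme.Hom.appLE_comp_appLE]
    have := h1.trans (h2.trans h3)
    ext b
    exact (congr($this b)).symm
  · have := HasRingHomProperty.appLE @Flat (f' ≫ g') inferInstance ⟨W, hW⟩ ⟨V, hV⟩ eW
    rw [hcomp] at this
    exact this

/-- Generic lifting of an affine-local property across a finite order thickening, given the
ring-level statement. -/
theorem lift_of_hasRingHomProperty {P : MorphismProperty Scheme.{u}}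
    {Q : ∀ {R S : Type u} [CommRing R] [CommRing S], (R →+* S) → Prop}
    [HasRingHomProperty P Q] (hQ : RingHom.StableUnderCompositionWithLocalizationAwaySource Q)
    (halg : ∀ {C' B' A' B A : Type u} [CommRing C'] [CommRing B'] [CommRing A']
      [CommRing B] [CommRing A] (γ : C' →+* B') (φ' : B' →+* A') (πB : B' →+* B) (πA : A' →+* A)
      (φ : B →+* A) (J : Ideal C'), DeformData γ φ' πB πA φ J → Q φ → Q φ')
    (hS : MoreMor.IsFiniteOrderThickening iS)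
    (hcX : IsPullback iX (f ≫ g) (f' ≫ g') iS) (hcY : IsPullback iY g g' iS)
    (w : iX ≫ f' = f ≫ iY) [Flat (f' ≫ g')] (hf : P f) : P f' := by
  haveI : IsClosedImmersion iS := hS.1.1
  haveI : IsClosedImmersion iY :=
    MorphismProperty.of_isPullback (P := @IsClosedImmersion) hcY.flip inferInstance
  haveI : IsClosedImmersion iX :=
    MorphismProperty.of_isPullback (P := @IsClosedImmersion) hcX.flip inferInstance
  rw [HasRingHomProperty.iff_exists_appLE (P := P) hQ]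
  intro x'
  obtain ⟨W, U, V, hx, eU, eV⟩ := exists_affine_triple f' g' x'
  refine ⟨U, V, hx, eV, ?_⟩
  have e' : iX ⁻¹ᵁ V.1 ≤ f ⁻¹ᵁ (iY ⁻¹ᵁ U.1) := by
    intro y hy
    change iY (f y) ∈ U.1
    rw [← Scheme.Hom.comp_apply, ← w, Scheme.Hom.comp_apply]
    exact eV hy
  refine halg _ _ _ _ _ _ (deformData hS hcX hcY w W.2 U.2 V.2 eU eV e') ?_
  exact HasRingHomProperty.appLE P f hf ⟨iY ⁻¹ᵁ U.1, U.2.preimage iY⟩
    ⟨iX ⁻¹ᵁ V.1, V.2.preimage iX⟩ e'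

end Geom

end Groth.Agent.H22.Deform
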