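import Mathlib
open TensorProduct Algebra

namespace Groth.Agent.H22.SmoothDescent
universe u

section L1
variable (R S T : Type u) [CommRing R] [CommRing S] [CommRing T] [Algebra R S] [Algebra R T]

attribute [local instance] Algebra.TensorProduct.rightAlgebra

lemma smul_map_eq [Module.Flat R T] (x : H1Cotangent R S) (z : T ⊗[R] S) :
    tensorH1CotangentOfFlat R S T
      ((LinearMap.lTensor T ((LinearMap.toSpanSingleton S _ x).restrictScalars R)) z) =
      z • H1Cotangent.map R T S (T ⊗[R] S) x := by
  induction z using TensorProduct.induction_on with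
  | zero => simp
  | tmul t s =>
    rw [LinearMap.lTensor_tmul, tensorH1CotangentOfFlat_tmul]
    simp only [LinearMap.coe_restrictScalars, LinearMap.toSpanSingleton_apply, map_smul]
    rw [← algebraMap_smul (T ⊗[R] S) s, ← algebraMap_smul (T ⊗[R] S) t, smul_smul]
    congr 1
    simp [RingHom.algebraMap_toAlgebra, Algebra.TensorProduct.algebraMap_apply]
  | add a b ha hb => rw [map_add, map_add, ha, hb, add_smul]


lemma notMem_support_H1Cotangent [Module.Flat R T] (q' : PrimeSpectrum (T ⊗[R] S))
    (h : q' ∉ Module.support (T ⊗[R] S) (H1Cotangent T (T ⊗[R] S))) :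
    PrimeSpectrum.comap (algebraMap S (T ⊗[R] S)) q' ∉ Module.support S (H1Cotangent R S) := by
  intro hq
  rw [Module.mem_support_iff'] at hq
  obtain ⟨x, hx⟩ := hq
  rw [Module.notMem_support_iff'] at h
  obtain ⟨z, hz, hz0⟩ := h (H1Cotangent.map R T S (T ⊗[R] S) x)
  set ρ : S →ₗ[R] H1Cotangent R S := (LinearMap.toSpanSingleton S _ x).restrictScalars R with hρ
  have h0 : (LinearMap.lTensor T ρ) z = 0 :=
    (tensorH1CotangentOfFlat R S T).injective (by rw [smul_map_eq, hz0, map_zero])
  have hex : Function.Exact (LinearMap.lTensor T (LinearMap.ker ρ).subtype) (LinearMap.lTensor T ρ) :=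
    Module.Flat.lTensor_exact T (LinearMap.exact_subtype_ker_map ρ)
  obtain ⟨w, hw⟩ := (hex z).mp h0
  apply hz
  rw [← hw]
  clear hw h0 hz0 hz
  induction w using TensorProduct.induction_on with
  | zero => simp
  | tmul t a =>
    rw [LinearMap.lTensor_tmul]
    have ha : a.1 ∈ (PrimeSpectrum.comap (algebraMap S (T ⊗[R] S)) q').asIdeal := by
      by_contra hcon
      exact hx a.1 hcon (LinearMap.mem_ker.mp a.2)
    have h1 : t ⊗ₜ[R] (a.1 : S) = (t ⊗ₜ[R] (1 : S)) * algebraMap S (T ⊗[R] S) a.1 := by
      simp [RingHom.algebraMap_toAlgebra]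
    simp only [Submodule.subtype_apply]
    rw [h1]
    exact Ideal.mul_mem_left _ _ ha
  | add a b ha hb => rw [map_add]; exact Ideal.add_mem _ ha hb

end L1
section L2

/-- For `S → S'` flat and `q'` over `q`, `S'_{q'}` is faithfully flat over `S_q`. -/
lemma faithfullyFlat_localization {S S' : Type u} [CommRing S] [CommRing S'] [Algebra S S']
    [Module.Flat S S'] (q : Ideal S) [q.IsPrime] (q' : Ideal S') [q'.IsPrime] [q'.LiesOver q] :
    letI := Localization.AtPrime.algebraOfLiesOver q q'
    Module.FaithfullyFlat (Localization.AtPrime q) (Localization.AtPrime q') := by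
  let := Localization.AtPrime.algebraOfLiesOver q q'
  haveI : Module.Flat S (Localization.AtPrime q') := Module.Flat.trans S S' _
  haveI : Module.Flat (Localization.AtPrime q) (Localization.AtPrime q') := by
    rw [Module.flat_iff_of_isLocalization (Localization.AtPrime q) q.primeCompl]
    infer_instance
  haveI : IsLocalHom (algebraMap (Localization.AtPrime q) (Localization.AtPrime q')) := by
    rw [RingHom.algebraMap_toAlgebra]
    exact Localization.isLocalHom_localRingHom _ _ _ Ideal.LiesOver.over
  exact Module.FaithfullyFlat.of_flat_of_isLocalHom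

lemma mem_freeLocus_of_flat {S S' : Type u} [CommRing S] [CommRing S'] [Algebra S S']
    [Module.Flat S S'] (M : Type u) [AddCommGroup M] [Module S M] [Module.FinitePresentation S M]
    (q' : PrimeSpectrum S') (h : q' ∈ Module.freeLocus S' (S' ⊗[S] M)) :
    PrimeSpectrum.comap (algebraMap S S') q' ∈ Module.freeLocus S M := by
  set q := PrimeSpectrum.comap (algebraMap S S') q' with hq
  haveI : q'.asIdeal.LiesOver q.asIdeal := ⟨rfl⟩
  letI := Localization.AtPrime.algebraOfLiesOver q.asIdeal q'.asIdeal
  haveI := faithfullyFlat_localization q.asIdeal q'.asIdeal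
  rw [Module.mem_freeLocus_iff_tensor _ (Localization.AtPrime q'.asIdeal)] at h
  rw [Module.mem_freeLocus_iff_tensor _ (Localization.AtPrime q.asIdeal)]
  haveI : Module.Flat (Localization.AtPrime q'.asIdeal)
      (Localization.AtPrime q'.asIdeal ⊗[S'] (S' ⊗[S] M)) := inferInstance
  haveI : Module.Flat (Localization.AtPrime q'.asIdeal)
      (Localization.AtPrime q'.asIdeal ⊗[Localization.AtPrime q.asIdeal]
        (Localization.AtPrime q.asIdeal ⊗[S] M)) :=
    Module.Flat.of_linearEquiv
      ((AlgebraTensorModule.cancelBaseChange S (Localization.AtPrime q.asIdeal)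
        (Localization.AtPrime q'.asIdeal) (Localization.AtPrime q'.asIdeal) M).trans
      (AlgebraTensorModule.cancelBaseChange S S'
        (Localization.AtPrime q'.asIdeal) (Localization.AtPrime q'.asIdeal) M).symm)
  haveI : Module.Flat (Localization.AtPrime q.asIdeal) (Localization.AtPrime q.asIdeal ⊗[S] M) :=
    Module.Flat.of_flat_tensorProduct _ _ (Localization.AtPrime q'.asIdeal)
  exact Module.free_of_flat_of_isLocalRing

end L2

end Groth.Agent.H22.SmoothDescent
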