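import Mathlib
import Groth.Agent.Lib.helper22.SmoothDescent0

/-!
# Pointwise descent of smoothness / unramifiedness along (flat) base change (ring level)

* `mem_smoothLocus_of_tensorProduct`: `T` flat over `R`, `S` f.p. over `R`, `q'` a prime of `T ⊗ S`
  in the smooth locus over `T`; then `q' ∩ S` is in the smooth locus over `R`.
* `mem_unramifiedLocus_of_tensorProduct`: same for the unramified locus (no flatness needed).
* `mem_smoothLocus_of_isPushout`, `mem_unramifiedLocus_of_isPushout`, `mem_etaleLocus_of_isPushout`: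
  versions for an abstract pushout square.
-/

open TensorProduct Algebra

namespace Groth.Agent.H22.SmoothDescent
universe u

section L3
variable (R S T : Type u) [CommRing R] [CommRing S] [CommRing T] [Algebra R S] [Algebra R T]

attribute [local instance] Algebra.TensorProduct.rightAlgebra

lemma flat_right [Module.Flat R T] : Module.Flat S (T ⊗[R] S) := by
  let e : S ⊗[R] T ≃ₐ[S] T ⊗[R] S :=
    .ofRingEquiv (f := Algebra.TensorProduct.comm R S T) <| by simp [RingHom.algebraMap_toAlgebra]
  exact Module.Flat.of_linearEquiv e.symm.toLinearEquiv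

theorem mem_smoothLocus_of_tensorProduct [Algebra.FinitePresentation R S] [Module.Flat R T]
    (q' : PrimeSpectrum (T ⊗[R] S)) (h : q' ∈ Algebra.smoothLocus T (T ⊗[R] S)) :
    PrimeSpectrum.comap (algebraMap S (T ⊗[R] S)) q' ∈ Algebra.smoothLocus R S := by
  rw [Algebra.smoothLocus_eq_compl_support_inter] at h ⊢
  refine ⟨notMem_support_H1Cotangent R S T q' h.1, ?_⟩
  haveI := flat_right R S T
  refine mem_freeLocus_of_flat (S := S) (S' := T ⊗[R] S) Ω[S⁄R] q' ?_
  rw [Module.freeLocus_congr (KaehlerDifferential.tensorKaehlerEquiv R T S (T ⊗[R] S))]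
  exact h.2

lemma mem_support_baseChange {S S' : Type u} [CommRing S] [CommRing S'] [Algebra S S']
    (M : Type u) [AddCommGroup M] [Module S M] [Module.Finite S M]
    (q' : PrimeSpectrum S')
    (h : PrimeSpectrum.comap (algebraMap S S') q' ∈ Module.support S M) :
    q' ∈ Module.support S' (S' ⊗[S] M) := by
  set q := PrimeSpectrum.comap (algebraMap S S') q' with hq
  haveI : q'.asIdeal.LiesOver q.asIdeal := ⟨rfl⟩
  letI := Localization.AtPrime.algebraOfLiesOver q.asIdeal q'.asIdeal
  rw [Module.mem_support_iff_nontrivial_residueField_tensorProduct] at h ⊢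
  let e1 := AlgebraTensorModule.cancelBaseChange S S' q'.asIdeal.ResidueField
    q'.asIdeal.ResidueField M
  let e2 := AlgebraTensorModule.cancelBaseChange S q.asIdeal.ResidueField q'.asIdeal.ResidueField
    q'.asIdeal.ResidueField M
  have : Nontrivial (q'.asIdeal.ResidueField ⊗[q.asIdeal.ResidueField]
      (q.asIdeal.ResidueField ⊗[S] M)) := inferInstance
  exact (e1.trans e2.symm).toEquiv.nontrivial

theorem mem_unramifiedLocus_of_tensorProduct [Algebra.FiniteType R S]
    (q' : PrimeSpectrum (T ⊗[R] S)) (h : q' ∈ Algebra.unramifiedLocus T (T ⊗[R] S)) :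
    PrimeSpectrum.comap (algebraMap S (T ⊗[R] S)) q' ∈ Algebra.unramifiedLocus R S := by
  rw [Algebra.unramifiedLocus_eq_compl_support] at h ⊢
  intro hq
  apply h
  have := mem_support_baseChange (S := S) (S' := T ⊗[R] S) Ω[S⁄R] q' hq
  rwa [LinearEquiv.support_eq (KaehlerDifferential.tensorKaehlerEquiv R T S (T ⊗[R] S))] at this

end L3

section L5
variable (R S T S' : Type u) [CommRing R] [CommRing S] [CommRing T] [CommRing S']
  [Algebra R S] [Algebra R T] [Algebra R S'] [Algebra S S'] [Algebra T S']
  [IsScalarTower R S S'] [IsScalarTower R T S'] [Algebra.IsPushout R T S S']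

attribute [local instance] Algebra.TensorProduct.rightAlgebra

lemma comap_equiv_comap (q' : PrimeSpectrum S') :
    PrimeSpectrum.comap (algebraMap S (T ⊗[R] S))
      (PrimeSpectrum.comap (Algebra.IsPushout.equiv R T S S').toAlgHom.toRingHom q') =
      PrimeSpectrum.comap (algebraMap S S') q' := by
  ext s
  simp only [PrimeSpectrum.comap_asIdeal, Ideal.mem_comap]
  have : (Algebra.IsPushout.equiv R T S S').toAlgHom.toRingHom (algebraMap S (T ⊗[R] S) s) =
      algebraMap S S' s := by
    change (Algebra.IsPushout.equiv R T S S') ((1 : T) ⊗ₜ[R] s) = _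
    rw [Algebra.IsPushout.equiv_tmul, map_one, one_mul]
  rw [this]

theorem mem_smoothLocus_of_isPushout [Algebra.FinitePresentation R S] [Module.Flat R T]
    (q' : PrimeSpectrum S') (h : q' ∈ Algebra.smoothLocus T S') :
    PrimeSpectrum.comap (algebraMap S S') q' ∈ Algebra.smoothLocus R S := by
  rw [← comap_equiv_comap R S T S' q']
  apply mem_smoothLocus_of_tensorProduct
  set e := Algebra.IsPushout.equiv R T S S'
  have h' : Algebra.FormallySmooth T (Localization.AtPrime q'.asIdeal) := h
  exact Algebra.FormallySmooth.of_equiv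
    (Localization.localAlgEquiv (PrimeSpectrum.comap e.toAlgHom.toRingHom q').asIdeal
      q'.asIdeal e rfl).symm

theorem mem_unramifiedLocus_of_isPushout [Algebra.FiniteType R S]
    (q' : PrimeSpectrum S') (h : q' ∈ Algebra.unramifiedLocus T S') :
    PrimeSpectrum.comap (algebraMap S S') q' ∈ Algebra.unramifiedLocus R S := by
  rw [← comap_equiv_comap R S T S' q']
  apply mem_unramifiedLocus_of_tensorProduct
  set e := Algebra.IsPushout.equiv R T S S'
  have h' : Algebra.FormallyUnramified T (Localization.AtPrime q'.asIdeal) := h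
  exact Algebra.FormallyUnramified.of_equiv
    (Localization.localAlgEquiv (PrimeSpectrum.comap e.toAlgHom.toRingHom q').asIdeal
      q'.asIdeal e rfl).symm

end L5

end Groth.Agent.H22.SmoothDescent
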