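import Mathlib
import Groth.Agent.Lib.helper22.SmoothDescent
open CategoryTheory CategoryTheory.Limits AlgebraicGeometry TensorProduct

namespace Groth.Agent.H22.SmoothDescent
universe u

section G1

variable {X S X' S' : Scheme.{u}} {f : X ⟶ S} {g : S' ⟶ S} {f' : X' ⟶ S'} {g' : X' ⟶ X}

/-- Affine-local algebraic data attached to a point of a fibre product. -/
theorem exists_affine_pushout (H : IsPullback g' f' f g) (x' : X') :
    ∃ (V : S.Opens) (hV : IsAffineOpen V) (U : X.Opens) (hU : IsAffineOpen U)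
      (hUV : U ≤ f ⁻¹ᵁ V) (V' : S'.Opens) (hV' : IsAffineOpen V') (hV'V : V' ≤ g ⁻¹ᵁ V)
      (UY : X'.Opens) (hUY : IsAffineOpen UY) (h1 : UY ≤ g' ⁻¹ᵁ U) (h2 : UY ≤ f' ⁻¹ᵁ V'),
      x' ∈ UY ∧
      IsPushout (f.appLE V U hUV) (g.appLE V V' hV'V) (g'.appLE U UY h1) (f'.appLE V' UY h2) := by
  obtain ⟨_, ⟨V, hV, rfl⟩, hxV, -⟩ := S.isBasis_affineOpens.exists_subset_of_mem_open
    (Set.mem_univ (f (g' x'))) isOpen_univ
  obtain ⟨_, ⟨U, hU, rfl⟩, hxU, hUV : U ≤ f ⁻¹ᵁ V⟩ :=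
    X.isBasis_affineOpens.exists_subset_of_mem_open hxV (f ⁻¹ᵁ V).isOpen
  have hgx : g (f' x') ∈ V := by
    have : g (f' x') = f (g' x') := by
      rw [← Scheme.Hom.comp_apply, ← H.w, Scheme.Hom.comp_apply]
    rw [this]; exact hxV
  obtain ⟨_, ⟨V', hV', rfl⟩, hxV', hV'V : V' ≤ g ⁻¹ᵁ V⟩ :=
    S'.isBasis_affineOpens.exists_subset_of_mem_open hgx (g ⁻¹ᵁ V).isOpen
  have hUY : g' ⁻¹ᵁ U ⊓ f' ⁻¹ᵁ V' = g' ⁻¹ᵁ U ⊓ f' ⁻¹ᵁ V' := rfl
  have hUYa : IsAffineOpen (g' ⁻¹ᵁ U ⊓ f' ⁻¹ᵁ V') := by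
    have : IsAffine V := hV
    have : IsAffine V' := hV'
    have : IsAffine U := hU
    exact .of_isIso (Scheme.Hom.isPullback_resLE H hV'V hUV hUY).isoPullback.hom
  refine ⟨V, hV, U, hU, hUV, V', hV', hV'V, _, hUYa, inf_le_left, inf_le_right, ⟨hxU, hxV'⟩, ?_⟩
  exact (isIso_pushoutSection_iff H hV'V hUV hUY).mp
    (isIso_pushoutSection_of_isAffineOpen H hV'V hUV hUY hV hV' hU)


theorem mem_smoothLocus_of_isPullback (H : IsPullback g' f' f g) [LocallyOfFinitePresentation f]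
    [LocallyOfFinitePresentation f'] [Flat g] (x' : X') (hx' : x' ∈ f'.smoothLocus) :
    g' x' ∈ f.smoothLocus := by
  obtain ⟨V, hV, U, hU, hUV, V', hV', hV'V, UY, hUY, h1, h2, hxUY, hpo⟩ :=
    exists_affine_pushout H x'
  rw [Scheme.Hom.mem_smoothLocus, formallySmooth_stalkMap_iff V hV U hU hUV (h1 hxUY)]
  rw [Scheme.Hom.mem_smoothLocus, formallySmooth_stalkMap_iff V' hV' UY hUY h2 hxUY] at hx'
  letI := (f.appLE V U hUV).hom.toAlgebra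
  letI := (g.appLE V V' hV'V).hom.toAlgebra
  letI := (g'.appLE U UY h1).hom.toAlgebra
  letI := (f'.appLE V' UY h2).hom.toAlgebra
  letI : Algebra Γ(S, V) Γ(X', UY) := (f.appLE V U hUV ≫ g'.appLE U UY h1).hom.toAlgebra
  haveI : IsScalarTower Γ(S, V) Γ(X, U) Γ(X', UY) := IsScalarTower.of_algebraMap_eq' rfl
  haveI : IsScalarTower Γ(S, V) Γ(S', V') Γ(X', UY) := IsScalarTower.of_algebraMap_eq' (by
    show (f.appLE V U hUV ≫ g'.appLE U UY h1).hom = (g.appLE V V' hV'V ≫ f'.appLE V' UY h2).hom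
    rw [hpo.w])
  haveI : Algebra.IsPushout Γ(S, V) Γ(S', V') Γ(X, U) Γ(X', UY) :=
    (CommRingCat.isPushout_iff_isPushout (R := Γ(S, V)) (R' := Γ(S', V')) (S := Γ(X, U))
      (S' := Γ(X', UY))).mp hpo.flip
  haveI : Algebra.FinitePresentation Γ(S, V) Γ(X, U) :=
    HasRingHomProperty.appLE @LocallyOfFinitePresentation f inferInstance ⟨V, hV⟩ ⟨U, hU⟩ hUV
  haveI : Module.Flat Γ(S, V) Γ(S', V') :=
    HasRingHomProperty.appLE @Flat g inferInstance ⟨V, hV⟩ ⟨V', hV'⟩ hV'V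
  have key := mem_smoothLocus_of_isPushout Γ(S, V) Γ(X, U) Γ(S', V') Γ(X', UY)
    (hUY.primeIdealOf ⟨x', hxUY⟩) hx'
  have hc := IsAffineOpen.comap_primeIdealOf_appLE U hU UY hUY h1 hxUY
  rw [← hc]
  exact key

end G1
end Groth.Agent.H22.SmoothDescent
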