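import Mathlib
import Groth.Agent.Lib.helper22.Deform
import Groth.Agent.Lib.helper22.SmoothDescentSch0
import Groth.Agent.Lib.helper22.CartierFlat
open TensorProduct CategoryTheory CategoryTheory.Limits AlgebraicGeometry

namespace Groth.Agent.H22.CartierFlat

universe u

/-- The inverse image ideal on compatible affine charts is the extended ideal. -/
theorem comap_ideal_eq_map {X Y : Scheme.{u}} (D : Y.IdealSheafData) (h : X ⟶ Y)
    (U : X.affineOpens) (V : Y.affineOpens) (e : U.1 ≤ h ⁻¹ᵁ V.1) :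
    (D.comap h).ideal U = Ideal.map (h.appLE V.1 U.1 e).hom (D.ideal V) := by
  have hc : IsPullback (pullback.fst h D.subschemeι) (pullback.snd h D.subschemeι) h D.subschemeι :=
    IsPullback.of_hasPullback h D.subschemeι
  haveI : IsClosedImmersion (pullback.fst h D.subschemeι) :=
    MorphismProperty.of_isPullback (P := @IsClosedImmersion) hc.flip inferInstance
  have h1 := Groth.Agent.H22.Deform.ker_app_eq_map (pullback.fst h D.subschemeι)
    (pullback.snd h D.subschemeι) h D.subschemeι hc U.1 U.2 V.1 V.2 e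
  rw [D.ker_subschemeι_app V] at h1
  rw [← h1]
  exact Scheme.Hom.ker_apply _ U

section pushout
variable {X S X' S' : Scheme.{u}} {f : X ⟶ S} {g : S' ⟶ S} {f' : X' ⟶ S'} {g' : X' ⟶ X}

theorem affine_pushout_of (H : IsPullback g' f' f g) {V : S.Opens} (hV : IsAffineOpen V)
    {U : X.Opens} (hU : IsAffineOpen U) (hUV : U ≤ f ⁻¹ᵁ V) {V' : S'.Opens}
    (hV' : IsAffineOpen V') (hV'V : V' ≤ g ⁻¹ᵁ V) :
    IsAffineOpen (g' ⁻¹ᵁ U ⊓ f' ⁻¹ᵁ V') ∧
      IsPushout (f.appLE V U hUV) (g.appLE V V' hV'V)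
        (g'.appLE U (g' ⁻¹ᵁ U ⊓ f' ⁻¹ᵁ V') inf_le_left)
        (f'.appLE V' (g' ⁻¹ᵁ U ⊓ f' ⁻¹ᵁ V') inf_le_right) := by
  have hUY : g' ⁻¹ᵁ U ⊓ f' ⁻¹ᵁ V' = g' ⁻¹ᵁ U ⊓ f' ⁻¹ᵁ V' := rfl
  have hUYa : IsAffineOpen (g' ⁻¹ᵁ U ⊓ f' ⁻¹ᵁ V') := by
    have : IsAffine V := hV
    have : IsAffine V' := hV'
    have : IsAffine U := hU
    exact .of_isIso (Scheme.Hom.isPullback_resLE H hV'V hUV hUY).isoPullback.hom
  exact ⟨hUYa, (isIso_pushoutSection_iff H hV'V hUV hUY).mp
    (isIso_pushoutSection_of_isAffineOpen H hV'V hUV hUY hV hV' hU)⟩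

end pushout

section ring

/-- a nonzerodivisor with `A`-flat quotient stays a nonzerodivisor after any base change. -/
theorem nzd_of_isPushout (A A' B B' : Type u) [CommRing A] [CommRing A'] [CommRing B] [CommRing B']
    [Algebra A A'] [Algebra A B] [Algebra A B'] [Algebra A' B'] [Algebra B B']
    [IsScalarTower A A' B'] [IsScalarTower A B B'] [Algebra.IsPushout A A' B B']
    (t : B) (ht : t ∈ nonZeroDivisors B)
    (h1 : Module.Flat A (B ⧸ Ideal.span {t})) : algebraMap B B' t ∈ nonZeroDivisors B' := by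
  rw [mem_nonZeroDivisors_iff]
  suffices H : ∀ x : B', algebraMap B B' t * x = 0 → x = 0 by
    exact ⟨H, fun x hx => H x (by rw [mul_comm]; exact hx)⟩
  intro x hx
  let e := Algebra.IsPushout.equiv A A' B B'
  obtain ⟨z, rfl⟩ := e.surjective x
  suffices hz : z = 0 by rw [hz, map_zero]
  let g : B →ₗ[A] B := LinearMap.mulLeft A t
  let f : B →ₗ[A] (B ⧸ Ideal.span {t}) := (Ideal.Quotient.mkₐ A (Ideal.span {t})).toLinearMap
  have hf : Function.Surjective f := Ideal.Quotient.mk_surjective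
  have hg : Function.Injective g := by
    intro a b hab
    have : t * (a - b) = 0 := by
      simp only [g, LinearMap.mulLeft_apply] at hab
      rw [mul_sub, hab, sub_self]
    exact sub_eq_zero.mp ((mem_nonZeroDivisors_iff.mp ht).1 _ this)
  have hex : Function.Exact g f := by
    intro y
    simp only [f, g, AlgHom.toLinearMap_apply, Ideal.Quotient.mkₐ_eq_mk,
      Ideal.Quotient.eq_zero_iff_mem, Ideal.mem_span_singleton', Set.mem_range,
      LinearMap.mulLeft_apply]
    constructor
    · rintro ⟨a, rfl⟩; exact ⟨a, mul_comm _ _⟩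
    · rintro ⟨a, rfl⟩; exact ⟨a, mul_comm _ _⟩
  have hinj := LinearMap.lTensor_injective_of_exact_of_flat f hf g hg hex A'
  have key : ∀ z : A' ⊗[A] B, e (g.lTensor A' z) = algebraMap B B' t * e z := by
    intro z
    induction z using TensorProduct.induction_on with
    | zero => simp
    | tmul a b =>
      simp only [LinearMap.lTensor_tmul, g, LinearMap.mulLeft_apply, e,
        Algebra.IsPushout.equiv_tmul, map_mul]
      ring
    | add x y hx hy => simp only [map_add, mul_add, hx, hy]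
  apply hinj
  apply e.injective
  rw [key, hx, map_zero, map_zero]

end ring

end Groth.Agent.H22.CartierFlat
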