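import Mathlib
import Groth.Prelude.Def_BlowUp2
import Groth.Agent.Lib.helper22.CartierFlat
open TensorProduct CategoryTheory AlgebraicGeometry

namespace Groth.Agent.H22.CartierFlat

universe u
variable {X : Scheme.{u}} (𝓘 : X.IdealSheafData)

theorem cartier_restrict_basicOpen {U W : X.affineOpens} (hWU : W ≤ U) (g : Γ(X, U.1))
    (e : W.1 = X.basicOpen g) (t : Γ(X, U.1)) (ht : t ∈ nonZeroDivisors Γ(X, U.1))
    (hI : 𝓘.ideal U = Ideal.span {t}) :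
    (X.presheaf.map (homOfLE (show W.1 ≤ U.1 from hWU)).op).hom t ∈ nonZeroDivisors Γ(X, W.1) ∧
      𝓘.ideal W = Ideal.span {(X.presheaf.map (homOfLE (show W.1 ≤ U.1 from hWU)).op).hom t} := by
  constructor
  · letI := (X.presheaf.map (homOfLE (show W.1 ≤ U.1 from hWU)).op).hom.toAlgebra
    haveI : IsLocalization.Away g Γ(X, W.1) := U.2.isLocalization_of_eq_basicOpen g (homOfLE (show W.1 ≤ U.1 from hWU)) e
    exact IsLocalization.map_nonZeroDivisors_le (Submonoid.powers g) Γ(X, W.1)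
      (Submonoid.mem_map_of_mem _ ht)
  · rw [← 𝓘.map_ideal hWU, hI, Ideal.map_span, Set.image_singleton]
    rfl

theorem exists_basic_le (U₁ : X.affineOpens) (x : X) (hx : x ∈ U₁.1) (O : X.Opens) (hxO : x ∈ O) :
    ∃ (W : X.affineOpens) (_ : W ≤ U₁) (g₁ : Γ(X, U₁.1)),
      W.1 = X.basicOpen g₁ ∧ x ∈ W.1 ∧ W.1 ≤ O := by
  obtain ⟨g, hgle, hxg⟩ := U₁.2.exists_basicOpen_le (V := O) ⟨x, hxO⟩ hx
  exact ⟨X.affineBasicOpen g, X.affineBasicOpen_le g, g, rfl, hxg, hgle⟩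

theorem exists_good_nbhd (h𝓘 : BlowUp.IsEffCartierIdeal 𝓘) (U₁ : X.affineOpens) (x : X)
    (hx : x ∈ U₁.1) :
    ∃ (W : X.affineOpens) (_ : W ≤ U₁) (g₁ : Γ(X, U₁.1)),
      W.1 = X.basicOpen g₁ ∧ x ∈ W.1 ∧
        ∃ t ∈ nonZeroDivisors Γ(X, W.1), 𝓘.ideal W = Ideal.span {t} := by
  obtain ⟨U₂, hxU₂, t₂, ht₂, hI₂⟩ := h𝓘 x
  obtain ⟨f, g, hfg, hxf⟩ := exists_basicOpen_le_affine_inter U₁.2 U₂.2 x ⟨hx, hxU₂⟩
  have hW2 : X.affineBasicOpen f ≤ U₂ := by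
    change X.basicOpen f ≤ U₂.1
    rw [hfg]; exact X.basicOpen_le g
  obtain ⟨h1, h2⟩ := cartier_restrict_basicOpen 𝓘 (W := X.affineBasicOpen f) hW2 g hfg t₂ ht₂ hI₂
  exact ⟨X.affineBasicOpen f, X.affineBasicOpen_le f, f, rfl, hxf, _, h1, h2⟩

end Groth.Agent.H22.CartierFlat
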