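import Mathlib
import Groth.Prelude.Def_BlowUp2
import Groth.Prelude.Def_MeroSh
import Groth.Agent.Lib.helper22.CartierSch2
import Groth.Agent.Lib.helper22.CartierBC
open TensorProduct CategoryTheory CategoryTheory.Limits AlgebraicGeometry

/-! Consequences of the universal property of a blowing up (`BlowUp.IsBlowUp`): the blow-up is an
isomorphism away from the centre, regular sections pull back to regular sections, and effective
Cartier divisors pull back to effective Cartier divisors. -/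

namespace Groth.Agent.H22.BlowUpU

universe u

open Groth.Agent.H22.CartierFlat

theorem effCartier_top (Y : Scheme.{u}) : BlowUp.IsEffCartierIdeal (⊤ : Y.IdealSheafData) := by
  intro y
  obtain ⟨_, ⟨U, hU, rfl⟩, hyU, -⟩ :=
    Y.isBasis_affineOpens.exists_subset_of_mem_open (show y ∈ (⊤ : Y.Opens) from trivial)
      (⊤ : Y.Opens).isOpen
  refine ⟨⟨U, hU⟩, hyU, 1, one_mem _, ?_⟩
  rw [Scheme.IdealSheafData.ideal_top]
  simp

theorem comap_eq_top_of_forall_not_mem {X Y : Scheme.{u}} (𝓘 : X.IdealSheafData) (g : Y ⟶ X)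
    (h : ∀ y : Y, g y ∉ 𝓘.support) : 𝓘.comap g = ⊤ := by
  rw [← Scheme.IdealSheafData.support_eq_bot_iff, Scheme.IdealSheafData.support_comap]
  ext y
  simp only [TopologicalSpace.Closeds.coe_preimage, Set.mem_preimage, SetLike.mem_coe,
    TopologicalSpace.Closeds.coe_bot, Set.mem_empty_iff_false, iff_false]
  exact h y

theorem effCartier_comap_of_forall_not_mem {X Y : Scheme.{u}} (𝓘 : X.IdealSheafData) (g : Y ⟶ X)
    (h : ∀ y : Y, g y ∉ 𝓘.support) : BlowUp.IsEffCartierIdeal (𝓘.comap g) := by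
  rw [comap_eq_top_of_forall_not_mem 𝓘 g h]
  exact effCartier_top Y

/-- A blowing up is an isomorphism over any open disjoint from the centre. -/
theorem isIso_morphismRestrict_of_isBlowUp {X X' : Scheme.{u}} (𝓘 : X.IdealSheafData) (b : X' ⟶ X)
    (hb : BlowUp.IsBlowUp b 𝓘) (U : X.Opens) (hU : ∀ x ∈ U, x ∉ 𝓘.support) : IsIso (b ∣_ U) := by
  have hj : BlowUp.IsEffCartierIdeal (𝓘.comap U.ι) :=
    effCartier_comap_of_forall_not_mem 𝓘 U.ι (fun u => hU _ u.2)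
  obtain ⟨h, hh, -⟩ := hb.2 U U.ι hj
  have hrange : ∀ u : (U : Scheme.{u}), h u ∈ b ⁻¹ᵁ U := fun u => by
    show b (h u) ∈ U
    rw [← Scheme.Hom.comp_apply, hh]
    exact u.2
  let h' : (U : Scheme.{u}) ⟶ ((b ⁻¹ᵁ U : X'.Opens) : Scheme.{u}) :=
    IsOpenImmersion.lift (b ⁻¹ᵁ U).ι h (by
      rintro _ ⟨u, rfl⟩
      rw [Scheme.Opens.range_ι]
      exact hrange u)
  have hh' : h' ≫ (b ⁻¹ᵁ U).ι = h := IsOpenImmersion.lift_fac _ _ _
  have e1 : h' ≫ (b ∣_ U) = 𝟙 _ := by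
    rw [← cancel_mono U.ι, Category.assoc, morphismRestrict_ι, ← Category.assoc, hh', hh,
      Category.id_comp]
  have e2 : (b ∣_ U) ≫ h' = 𝟙 _ := by
    rw [← cancel_mono (b ⁻¹ᵁ U).ι, Category.assoc, hh', Category.id_comp]
    have hg : BlowUp.IsEffCartierIdeal (𝓘.comap ((b ⁻¹ᵁ U).ι ≫ b)) :=
      effCartier_comap_of_forall_not_mem 𝓘 _ (fun p => hU _ (by
        rw [Scheme.Hom.comp_apply]
        exact p.2))
    obtain ⟨k, hk, huniq⟩ := hb.2 _ ((b ⁻¹ᵁ U).ι ≫ b) hg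
    rw [huniq ((b ∣_ U) ≫ h) (by
        show ((b ∣_ U) ≫ h) ≫ b = _
        rw [Category.assoc, hh, morphismRestrict_ι]),
      huniq (b ⁻¹ᵁ U).ι rfl]
  exact ⟨h', e2, e1⟩

theorem isIso_stalkMap_of_isBlowUp {X X' : Scheme.{u}} (𝓘 : X.IdealSheafData) (b : X' ⟶ X)
    (hb : BlowUp.IsBlowUp b 𝓘) (p : X') (hp : b p ∉ 𝓘.support) : IsIso (b.stalkMap p) := by
  let U : X.Opens := ⟨(𝓘.support : Set X)ᶜ, 𝓘.support.isClosed.isOpen_compl⟩
  have h0 : IsIso (b ∣_ U) := isIso_morphismRestrict_of_isBlowUp 𝓘 b hb U (fun x hx => hx)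
  have e := morphismRestrictStalkMap b U ⟨p, hp⟩
  have h1 : ∀ x, IsIso ((b ∣_ U).stalkMap x) := fun x => inferInstance
  exact ((MorphismProperty.isomorphisms _).arrow_mk_iso_iff e).mp (h1 ⟨p, hp⟩)

theorem exists_rep_mul_eq_zero {X : Scheme.{u}} {O : X.Opens} (x : X) (hx : x ∈ O) (σ : Γ(X, O))
    (γ : X.presheaf.stalk x) (h : γ * X.presheaf.germ O x hx σ = 0) :
    ∃ (O₂ : X.Opens) (hO : O₂ ≤ O) (hx₂ : x ∈ O₂) (c : Γ(X, O₂)),
      X.presheaf.germ O₂ x hx₂ c = γ ∧ c * X.presheaf.map (homOfLE hO).op σ = 0 := by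
  obtain ⟨W₁, hxW₁, c₁, rfl⟩ := X.presheaf.exists_germ_eq γ
  have hxO₁ : x ∈ W₁ ⊓ O := ⟨hxW₁, hx⟩
  have h0 : X.presheaf.germ (W₁ ⊓ O) x hxO₁
      (X.presheaf.map (homOfLE (inf_le_left : W₁ ⊓ O ≤ W₁)).op c₁ *
        X.presheaf.map (homOfLE (inf_le_right : W₁ ⊓ O ≤ O)).op σ) =
      X.presheaf.germ (W₁ ⊓ O) x hxO₁ 0 := by
    rw [map_mul, TopCat.Presheaf.germ_res_apply, TopCat.Presheaf.germ_res_apply, map_zero]
    exact h
  obtain ⟨O₂, hxO₂, i₁, i₂, h3⟩ := TopCat.Presheaf.germ_eq _ x hxO₁ hxO₁ _ _ h0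
  refine ⟨O₂, i₁.le.trans inf_le_right, hxO₂,
    X.presheaf.map (homOfLE (i₁.le.trans inf_le_left)).op c₁, ?_, ?_⟩
  · exact TopCat.Presheaf.germ_res_apply X.presheaf (homOfLE (i₁.le.trans inf_le_left)) x hxO₂ c₁
  · rw [map_mul, map_zero] at h3
    rw [← h3]
    congr 1
    · rw [← ConcreteCategory.comp_apply, ← Functor.map_comp]; rfl
    · rw [← ConcreteCategory.comp_apply, ← Functor.map_comp]; rfl

theorem res_res {X : Scheme.{u}} {W O P : X.Opens} (h1 : W ≤ O) (h2 : O ≤ P) (a : Γ(X, P)) :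
    X.presheaf.map (homOfLE h1).op (X.presheaf.map (homOfLE h2).op a) =
      X.presheaf.map (homOfLE (h1.trans h2)).op a := by
  rw [← ConcreteCategory.comp_apply, ← Functor.map_comp]; rfl

theorem regSub_of_nzd_affine {X : Scheme.{u}} {U : X.Opens} (hU : IsAffineOpen U) (t : Γ(X, U))
    (ht : t ∈ nonZeroDivisors Γ(X, U)) : t ∈ Mero.regSub X U := by
  intro x
  letI := TopCat.Presheaf.algebra_section_stalk X.presheaf x
  haveI := hU.isLocalization_stalk x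
  exact IsLocalization.map_nonZeroDivisors_le (hU.primeIdealOf x).asIdeal.primeCompl
    (X.presheaf.stalk x.1) (Submonoid.mem_map_of_mem _ ht)

theorem nzd_of_regSub {X : Scheme.{u}} {U : X.Opens} (f : Γ(X, U)) (hf : f ∈ Mero.regSub X U) :
    f ∈ nonZeroDivisors Γ(X, U) := by
  rw [mem_nonZeroDivisors_iff_right]
  intro c hc
  apply TopCat.Presheaf.section_ext X.sheaf U c 0
  intro x hx
  have h1 : X.presheaf.germ U x hx c * X.presheaf.germ U x hx f = 0 := by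
    rw [← map_mul, hc, map_zero]
  have h2 := (mem_nonZeroDivisors_iff_right.mp (hf ⟨x, hx⟩)) _ h1
  rw [map_zero]
  exact h2

theorem nzd_map_of_bijective {A B : Type*} [CommRing A] [CommRing B] (φ : A →+* B)
    (hφ : Function.Bijective φ) (a : A) (ha : a ∈ nonZeroDivisors A) : φ a ∈ nonZeroDivisors B := by
  rw [mem_nonZeroDivisors_iff_right]
  intro z hz
  obtain ⟨w, rfl⟩ := hφ.2 z
  rw [← map_mul] at hz
  have h1 : w * a = 0 := hφ.1 (hz.trans (map_zero φ).symm)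
  rw [(mem_nonZeroDivisors_iff_right.mp ha) w h1, map_zero]

theorem not_mem_support_of_mem_basicOpen {X : Scheme.{u}} (𝓘 : X.IdealSheafData) (W : X.affineOpens)
    (e : Γ(X, W.1)) (hI : 𝓘.ideal W = Ideal.span {e}) (p : X) (hp : p ∈ X.basicOpen e) :
    p ∉ 𝓘.support := by
  have hpW : p ∈ W.1 := X.basicOpen_le e hp
  rw [Scheme.IdealSheafData.mem_support_iff_of_mem (U := W) hpW, hI, Scheme.zeroLocus_span,
    Scheme.zeroLocus_singleton]
  exact fun h => h hp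

theorem regSub_pullback_of_isBlowUp {X X' : Scheme.{u}} (𝓘 : X.IdealSheafData) (b : X' ⟶ X)
    (hb : BlowUp.IsBlowUp b 𝓘) (V : X.Opens) (s : Γ(X, V)) (hs : s ∈ Mero.regSub X V) :
    b.app V s ∈ Mero.regSub X' (b ⁻¹ᵁ V) := by
  rintro ⟨x', hx'⟩
  rw [mem_nonZeroDivisors_iff_right]
  intro γ hγ
  obtain ⟨O₂, hO₂, hxO₂, c₂, rfl, hc₂⟩ := exists_rep_mul_eq_zero x' hx' (b.app V s) γ hγ
  obtain ⟨W₀, hxW₀, e₀, he₀, hI₀⟩ := hb.1 x'
  obtain ⟨W, hWW₀, g, hWg, hxW, hWO₂⟩ := exists_basic_le W₀ x' hxW₀ O₂ hxO₂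
  obtain ⟨he, hI⟩ := cartier_restrict_basicOpen (𝓘.comap b) hWW₀ g hWg e₀ he₀ hI₀
  set e := (X'.presheaf.map (homOfLE (show W.1 ≤ W₀.1 from hWW₀)).op).hom e₀ with he_def
  set c := X'.presheaf.map (homOfLE hWO₂).op c₂ with hc_def
  have hcσ : c * X'.presheaf.map (homOfLE (hWO₂.trans hO₂)).op (b.app V s) = 0 := by
    have h1 := congrArg (X'.presheaf.map (homOfLE hWO₂).op) hc₂
    rw [map_mul, map_zero] at h1
    rw [← h1, res_res]
  have hc : c = 0 := by
    have hres : c |_ (X'.basicOpen e) = 0 := by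
      apply TopCat.Presheaf.section_ext X'.sheaf
      intro p hp
      refine Eq.trans ?_ (map_zero (X'.presheaf.germ (X'.basicOpen e) p hp).hom).symm
      have hpW : p ∈ W.1 := X'.basicOpen_le e hp
      have hp1 : p ∉ (𝓘.comap b).support := not_mem_support_of_mem_basicOpen _ W e hI p hp
      have hp2 : b p ∉ 𝓘.support := by
        rw [Scheme.IdealSheafData.support_comap] at hp1
        exact hp1
      have hiso : IsIso (b.stalkMap p) := isIso_stalkMap_of_isBlowUp 𝓘 b hb p hp2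
      have hpV : b p ∈ V := (hWO₂.trans hO₂) hpW
      have hnzd : X'.presheaf.germ W.1 p hpW
          (X'.presheaf.map (homOfLE (hWO₂.trans hO₂)).op (b.app V s)) ∈
          nonZeroDivisors (X'.presheaf.stalk p) := by
        rw [TopCat.Presheaf.germ_res_apply]
        have := Scheme.Hom.germ_stalkMap_apply b V p hpV s
        rw [← this]
        exact nzd_map_of_bijective (b.stalkMap p).hom
          (ConcreteCategory.bijective_of_isIso (b.stalkMap p)) _ (hs ⟨b p, hpV⟩)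
      have h2 : X'.presheaf.germ W.1 p hpW c * X'.presheaf.germ W.1 p hpW
          (X'.presheaf.map (homOfLE (hWO₂.trans hO₂)).op (b.app V s)) = 0 := by
        rw [← map_mul, hcσ, map_zero]
      have h3 := (mem_nonZeroDivisors_iff_right.mp hnzd) _ h2
      rw [← h3]
      exact TopCat.Presheaf.germ_res_apply X'.presheaf (homOfLE (X'.basicOpen_le e)) p hp c
    obtain ⟨n, hn⟩ := exists_pow_mul_eq_zero_of_res_basicOpen_eq_zero_of_isAffineOpen X' W.2 c e hres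
    exact (mem_nonZeroDivisors_iff.mp (pow_mem he n)).1 c hn
  have h4 := TopCat.Presheaf.germ_res_apply X'.presheaf (homOfLE hWO₂) x' hxW c₂
  rw [← h4]
  show X'.presheaf.germ W.1 x' hxW c = 0
  rw [hc, map_zero]

theorem effCartier_comap_of_isBlowUp {X X' : Scheme.{u}} (𝓘 : X.IdealSheafData) (b : X' ⟶ X)
    (hb : BlowUp.IsBlowUp b 𝓘) (𝓓 : X.IdealSheafData) (h𝓓 : BlowUp.IsEffCartierIdeal 𝓓) :
    BlowUp.IsEffCartierIdeal (𝓓.comap b) := by
  intro x'
  obtain ⟨V, hxV, t, ht, hI⟩ := h𝓓 (b x')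
  obtain ⟨_, ⟨W, hW, rfl⟩, hxW, hWV : W ≤ b ⁻¹ᵁ V.1⟩ :=
    X'.isBasis_affineOpens.exists_subset_of_mem_open hxV (b ⁻¹ᵁ V.1).isOpen
  refine ⟨⟨W, hW⟩, hxW, (b.appLE V.1 W hWV).hom t, ?_, ?_⟩
  · have h1 := regSub_pullback_of_isBlowUp 𝓘 b hb V.1 t (regSub_of_nzd_affine V.2 t ht)
    have h2 := Mero.regSub_res (homOfLE hWV) h1
    exact nzd_of_regSub _ h2
  · rw [comap_ideal_eq_map 𝓓 b ⟨W, hW⟩ V hWV, hI, Ideal.map_span, Set.image_singleton]

end Groth.Agent.H22.BlowUpU
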