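import Mathlib
import Groth.Prelude.Def_CurvBase
import Groth.Agent.Lib.helper22.BlowUpU
open TensorProduct CategoryTheory CategoryTheory.Limits AlgebraicGeometry TopologicalSpace

/-! Tools for blow-ups of affine schemes: division by a regular section is local, inverse images of
ideal sheaves of the form `Curv2.idealSheaf A I`, morphisms to affine schemes. -/

namespace Groth.Agent.H22.BlowUpU

universe u

open Groth.Agent.H22.CartierFlat

theorem map_map_apply {Y : Scheme.{u}} {U V W : Y.Opens} (i : V ⟶ U) (j : W ⟶ V) (k : W ⟶ U)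
    (a : Γ(Y, U)) : Y.presheaf.map j.op (Y.presheaf.map i.op a) = Y.presheaf.map k.op a := by
  rw [← ConcreteCategory.comp_apply, ← Functor.map_comp]
  rfl

theorem exists_div_of_locally {Y : Scheme.{u}} (e : Γ(Y, ⊤)) (he : e ∈ Mero.regSub Y ⊤)
    (m : Γ(Y, ⊤))
    (h : ∀ y : Y, ∃ (O : Y.Opens) (_ : y ∈ O) (c : Γ(Y, O)),
      Y.presheaf.map (homOfLE (le_top : O ≤ ⊤)).op e * c =
        Y.presheaf.map (homOfLE (le_top : O ≤ ⊤)).op m) :
    ∃ c : Γ(Y, ⊤), e * c = m := by
  choose O hyO c hc using h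
  have hcompat : TopCat.Presheaf.IsCompatible Y.sheaf.1 O c := by
    intro y y'
    have hreg : Y.presheaf.map (homOfLE (le_top : O y ⊓ O y' ≤ ⊤)).op e ∈
        Mero.regSub Y (O y ⊓ O y') := Mero.regSub_res _ he
    have hnzd := nzd_of_regSub _ hreg
    have h1 : Y.presheaf.map (homOfLE (le_top : O y ⊓ O y' ≤ ⊤)).op e *
        Y.presheaf.map (Opens.infLELeft (O y) (O y')).op (c y) =
        Y.presheaf.map (homOfLE (le_top : O y ⊓ O y' ≤ ⊤)).op m := by
      have := congrArg (Y.presheaf.map (Opens.infLELeft (O y) (O y')).op) (hc y)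
      rw [map_mul, map_map_apply _ _ (homOfLE le_top), map_map_apply _ _ (homOfLE le_top)] at this
      exact this
    have h2 : Y.presheaf.map (homOfLE (le_top : O y ⊓ O y' ≤ ⊤)).op e *
        Y.presheaf.map (Opens.infLERight (O y) (O y')).op (c y') =
        Y.presheaf.map (homOfLE (le_top : O y ⊓ O y' ≤ ⊤)).op m := by
      have := congrArg (Y.presheaf.map (Opens.infLERight (O y) (O y')).op) (hc y')
      rw [map_mul, map_map_apply _ _ (homOfLE le_top), map_map_apply _ _ (homOfLE le_top)] at this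
      exact this
    have h3 : (Y.presheaf.map (Opens.infLELeft (O y) (O y')).op (c y) -
        Y.presheaf.map (Opens.infLERight (O y) (O y')).op (c y')) *
        Y.presheaf.map (homOfLE (le_top : O y ⊓ O y' ≤ ⊤)).op e = 0 := by
      rw [sub_mul, mul_comm, h1, mul_comm, h2, sub_self]
    exact sub_eq_zero.mp ((mem_nonZeroDivisors_iff_right.mp hnzd) _ h3)
  have hcover : (⊤ : Y.Opens) ≤ iSup O := fun y _ => Opens.mem_iSup.mpr ⟨y, hyO y⟩
  obtain ⟨(s : Γ(Y, ⊤)), hs, -⟩ := Y.sheaf.existsUnique_gluing' O ⊤ (fun y => homOfLE le_top) hcover c hcompat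
  refine ⟨s, ?_⟩
  apply Y.sheaf.eq_of_locally_eq' O ⊤ (fun y => homOfLE le_top) hcover
  intro y
  have h1 : Y.presheaf.map (homOfLE (le_top : O y ≤ ⊤)).op s = c y := hs y
  show Y.presheaf.map (homOfLE (le_top : O y ≤ ⊤)).op (e * s) =
    Y.presheaf.map (homOfLE (le_top : O y ≤ ⊤)).op m
  rw [map_mul, h1]
  exact hc y

theorem map_eq_span_of_sq {A C : Type*} [CommRing A] [CommRing C] (γ : A →+* C) (I : Ideal A)
    (a₁ : A) (ha₁ : a₁ ∈ I) (hsq : I * I ≤ Ideal.span {a₁} * I) (t : C)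
    (ht : t ∈ nonZeroDivisors C) (hI : I.map γ = Ideal.span {t}) :
    γ a₁ ∈ nonZeroDivisors C ∧ I.map γ = Ideal.span {γ a₁} := by
  have h1 : I.map γ * I.map γ ≤ Ideal.span {γ a₁} * I.map γ := by
    rw [← Ideal.map_mul]
    calc (I * I).map γ ≤ (Ideal.span {a₁} * I).map γ := Ideal.map_mono hsq
      _ = Ideal.span {γ a₁} * I.map γ := by
        rw [Ideal.map_mul, Ideal.map_span, Set.image_singleton]
  rw [hI, Ideal.span_singleton_mul_span_singleton, Ideal.span_singleton_mul_span_singleton,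
    Ideal.span_singleton_le_span_singleton] at h1
  obtain ⟨c, hc⟩ := h1
  have h2 : t = γ a₁ * c := by
    have : (t - γ a₁ * c) * t = 0 := by rw [sub_mul, hc]; ring
    exact sub_eq_zero.mp ((mem_nonZeroDivisors_iff_right.mp ht) _ this)
  have h3 : γ a₁ ∈ Ideal.span {t} := hI ▸ Ideal.mem_map_of_mem γ ha₁
  obtain ⟨u, hu⟩ := Ideal.mem_span_singleton'.mp h3
  constructor
  · have huc : u * c = 1 := by
      have : (u * c - 1) * t = 0 := by
        rw [sub_mul, one_mul]
        nth_rewrite 2 [h2]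
        rw [← hu]; ring
      exact sub_eq_zero.mp ((mem_nonZeroDivisors_iff_right.mp ht) _ this)
    rw [mem_nonZeroDivisors_iff_right]
    intro z hz
    rw [← hu] at hz
    have h5 : z * u * t = 0 := by rw [mul_assoc]; exact hz
    have h4 := (mem_nonZeroDivisors_iff_right.mp ht) _ h5
    calc z = z * (u * c) := by rw [huc, mul_one]
      _ = z * u * c := by ring
      _ = 0 := by rw [h4, zero_mul]
  · rw [hI]
    apply le_antisymm
    · rw [Ideal.span_singleton_le_span_singleton]; exact ⟨c, h2⟩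
    · rw [Ideal.span_singleton_le_span_singleton]; exact ⟨u, by rw [← hu]; ring⟩

theorem eq_toSpecΓ_comp {Y : Scheme.{u}} {R : CommRingCat.{u}} (k : Y ⟶ Spec R) :
    k = Y.toSpecΓ ≫ Spec.map ((Scheme.ΓSpecIso R).inv ≫ k.appTop) := by
  have h1 := Scheme.toSpecΓ_naturality k
  rw [Spec.map_comp, ← Category.assoc, ← h1, Category.assoc, toSpecΓ_SpecMap_ΓSpecIso_inv,
    Category.comp_id]

/-- The inverse image of the ideal sheaf of `I ⊆ A` along `g : Y ⟶ Spec A` on an affine open. -/
theorem comap_idealSheaf_ideal (A : Type u) [CommRing A] (I : Ideal A) {Y : Scheme.{u}}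
    (g : Y ⟶ Spec (CommRingCat.of A)) (W : Y.affineOpens) :
    ((Curv2.idealSheaf A I).comap g).ideal W =
      I.map ((Scheme.ΓSpecIso (CommRingCat.of A)).inv ≫ g.appTop ≫
        Y.presheaf.map (homOfLE (le_top : W.1 ≤ ⊤)).op).hom := by
  rw [comap_ideal_eq_map (Curv2.idealSheaf A I) g W ⟨⊤, isAffineOpen_top _⟩ le_top]
  unfold Curv2.idealSheaf
  rw [Scheme.IdealSheafData.ofIdealTop_ideal, Ideal.map_map, Ideal.map_map]
  congr 1

end Groth.Agent.H22.BlowUpU
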