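import Mathlib
import Groth.Prelude.Def_BlowUp2
import Groth.Prelude.Def_CurvBase
import Groth.Agent.Lib.helper22.BlowUpU
import Groth.Agent.Lib.helper22.BlowUpAff
import Groth.Agent.S8902
open TensorProduct CategoryTheory CategoryTheory.Limits AlgebraicGeometry TopologicalSpace

/-! Standard charts of a blow-up of an affine scheme: algebra of the affine blow-up algebra
`A[I/a]`, flat pullback of effective Cartier ideals, local division by regular sections. -/

universe u

namespace Groth.Agent.H22.BlowUpU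

open Groth.Agent.H22.CartierFlat

section Alg

variable (A : Type u) [CommRing A] (I : Ideal A) (a : A)

/-- the generator `x/a` of the affine blow-up algebra. -/
noncomputable def quot (x : A) (hx : x ∈ I) : ↥(BlowUp.affineAlgebra A I a) :=
  ⟨IsLocalization.mk' (Localization.Away a) x ⟨a, Submonoid.mem_powers a⟩,
    Algebra.subset_adjoin ⟨x, hx, rfl⟩⟩

lemma a_mul_quot (x : A) (hx : x ∈ I) :
    algebraMap A ↥(BlowUp.affineAlgebra A I a) a * quot A I a x hx =
      algebraMap A ↥(BlowUp.affineAlgebra A I a) x := by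
  apply Subtype.ext
  show algebraMap A (Localization.Away a) a *
    IsLocalization.mk' (Localization.Away a) x ⟨a, Submonoid.mem_powers a⟩ =
    algebraMap A (Localization.Away a) x
  exact IsLocalization.mk'_spec' (Localization.Away a) x ⟨a, Submonoid.mem_powers a⟩

lemma a_nzd : algebraMap A ↥(BlowUp.affineAlgebra A I a) a ∈
    nonZeroDivisors ↥(BlowUp.affineAlgebra A I a) := by
  rw [mem_nonZeroDivisors_iff_right]
  intro c hc
  apply Subtype.ext
  have h1 : (c : Localization.Away a) * algebraMap A (Localization.Away a) a = 0 :=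
    congrArg Subtype.val hc
  have hu : IsUnit (algebraMap A (Localization.Away a) a) :=
    IsLocalization.Away.algebraMap_isUnit a
  exact (hu.mul_left_eq_zero).mp h1

lemma map_eq_span_a (ha : a ∈ I) :
    I.map (algebraMap A ↥(BlowUp.affineAlgebra A I a)) =
      Ideal.span {algebraMap A ↥(BlowUp.affineAlgebra A I a) a} := by
  apply le_antisymm
  · rw [Ideal.map_le_iff_le_comap]
    intro x hx
    rw [Ideal.mem_comap, Ideal.mem_span_singleton']
    exact ⟨quot A I a x hx, by rw [mul_comm]; exact a_mul_quot A I a x hx⟩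
  · rw [Ideal.span_singleton_le_iff_mem]
    exact Ideal.mem_map_of_mem _ ha

/-- `A`-algebra maps out of `A[I/a]` to a ring where `a` is a nonzerodivisor are unique. -/
lemma algHom_ext_of_nzd {R : Type u} [CommRing R] [Algebra A R]
    (ψ₁ ψ₂ : ↥(BlowUp.affineAlgebra A I a) →ₐ[A] R)
    (h : algebraMap A R a ∈ nonZeroDivisors R) : ψ₁ = ψ₂ := by
  apply AlgHom.adjoin_ext
  rintro _ ⟨x, hx, rfl⟩
  have key : ∀ ψ : ↥(BlowUp.affineAlgebra A I a) →ₐ[A] R,
      ψ (quot A I a x hx) * algebraMap A R a = algebraMap A R x := by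
    intro ψ
    rw [← ψ.commutes a, ← map_mul, mul_comm, a_mul_quot, ψ.commutes]
  have h1 : (ψ₁ (quot A I a x hx) - ψ₂ (quot A I a x hx)) * algebraMap A R a = 0 := by
    rw [sub_mul, key ψ₁, key ψ₂, sub_self]
  exact sub_eq_zero.mp ((mem_nonZeroDivisors_iff_right.mp h) _ h1)

/-- existence of an `A`-algebra map out of `A[I/a]`. -/
lemma exists_algHom {R : Type u} [CommRing R] [Algebra A R]
    (he : algebraMap A R a ∈ nonZeroDivisors R)
    (hdiv : ∀ x ∈ I, ∃ c : R, algebraMap A R a * c = algebraMap A R x) :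
    Nonempty (↥(BlowUp.affineAlgebra A I a) →ₐ[A] R) := by
  let L := Localization.Away (algebraMap A R a)
  let j : R →ₐ[A] L := IsScalarTower.toAlgHom A R L
  have hj : Function.Injective j := by
    apply IsLocalization.injective L (M := Submonoid.powers (algebraMap A R a))
    exact Submonoid.powers_le.mpr he
  have hunit : ∀ y : Submonoid.powers a, IsUnit ((Algebra.ofId A L) y) := by
    rintro ⟨_, n, rfl⟩
    show IsUnit (algebraMap A L (a ^ n))
    rw [map_pow]
    apply IsUnit.pow
    show IsUnit (algebraMap R L (algebraMap A R a))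
    exact IsLocalization.Away.algebraMap_isUnit (algebraMap A R a)
  let lam : Localization.Away a →ₐ[A] L := IsLocalization.liftAlgHom (M := Submonoid.powers a) hunit
  have hrange : ∀ c : ↥(BlowUp.affineAlgebra A I a), lam c.1 ∈ j.range := by
    intro c
    have h1 : (BlowUp.affineAlgebra A I a).map lam ≤ j.range := by
      unfold BlowUp.affineAlgebra
      rw [AlgHom.map_adjoin, Algebra.adjoin_le_iff]
      rintro _ ⟨_, ⟨x, hx, rfl⟩, rfl⟩
      obtain ⟨cx, hcx⟩ := hdiv x hx
      refine ⟨cx, ?_⟩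
      have hu : IsUnit (algebraMap A L a) := by
        show IsUnit (algebraMap R L (algebraMap A R a))
        exact IsLocalization.Away.algebraMap_isUnit (algebraMap A R a)
      have h2 : lam (IsLocalization.mk' (Localization.Away a) x ⟨a, Submonoid.mem_powers a⟩) *
          algebraMap A L a = algebraMap A L x := by
        rw [← lam.commutes a, ← map_mul, IsLocalization.mk'_spec (Localization.Away a) x
          ⟨a, Submonoid.mem_powers a⟩, lam.commutes]
      have h3 : j cx * algebraMap A L a = algebraMap A L x := by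
        rw [← j.commutes a, ← map_mul, mul_comm, hcx, j.commutes]
      exact hu.mul_left_injective (h3.trans h2.symm)
    exact h1 ⟨c.1, c.2, rfl⟩
  let ψ₀ : ↥(BlowUp.affineAlgebra A I a) →ₐ[A] j.range :=
    (lam.comp (BlowUp.affineAlgebra A I a).val).codRestrict j.range hrange
  exact ⟨((AlgEquiv.ofInjective j hj).symm : j.range →ₐ[A] R).comp ψ₀⟩

end Alg

theorem effCartier_comap_of_flat {X Y : Scheme.{u}} (f : Y ⟶ X) [Flat f] (𝓓 : X.IdealSheafData)
    (h𝓓 : BlowUp.IsEffCartierIdeal 𝓓) : BlowUp.IsEffCartierIdeal (𝓓.comap f) := by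
  intro y
  obtain ⟨V, hxV, t, ht, hI⟩ := h𝓓 (f y)
  obtain ⟨_, ⟨W, hW, rfl⟩, hxW, hWV : W ≤ f ⁻¹ᵁ V.1⟩ :=
    Y.isBasis_affineOpens.exists_subset_of_mem_open hxV (f ⁻¹ᵁ V.1).isOpen
  refine ⟨⟨W, hW⟩, hxW, (f.appLE V.1 W hWV).hom t, ?_, ?_⟩
  · have h1 := Groth.Agent.S8902.result f V.1 t (regSub_of_nzd_affine V.2 t ht)
    exact nzd_of_regSub _ (Mero.regSub_res (homOfLE hWV) h1)
  · rw [comap_ideal_eq_map 𝓓 f ⟨W, hW⟩ V hWV, hI, Ideal.map_span, Set.image_singleton]

/-- division by a regular section over an open is a local question. -/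
theorem exists_div_of_locally' {Y : Scheme.{u}} (G : Y.Opens) (e : Γ(Y, G))
    (he : e ∈ Mero.regSub Y G) (m : Γ(Y, G))
    (h : ∀ y ∈ G, ∃ (O : Y.Opens) (hO : O ≤ G) (_ : y ∈ O) (c : Γ(Y, O)),
      Y.presheaf.map (homOfLE hO).op e * c = Y.presheaf.map (homOfLE hO).op m) :
    ∃ c : Γ(Y, G), e * c = m := by
  have h' : ∀ y : G, ∃ (O : Y.Opens) (hO : O ≤ G) (_ : y.1 ∈ O) (c : Γ(Y, O)),
      Y.presheaf.map (homOfLE hO).op e * c = Y.presheaf.map (homOfLE hO).op m :=
    fun y => h y.1 y.2
  choose O hOG hyO c hc using h'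
  have hcompat : TopCat.Presheaf.IsCompatible Y.sheaf.1 O c := by
    intro y y'
    have hle : O y ⊓ O y' ≤ G := inf_le_left.trans (hOG y)
    have hreg : Y.presheaf.map (homOfLE hle).op e ∈ Mero.regSub Y (O y ⊓ O y') :=
      Mero.regSub_res _ he
    have hnzd := nzd_of_regSub _ hreg
    have h1 : Y.presheaf.map (homOfLE hle).op e *
        Y.presheaf.map (Opens.infLELeft (O y) (O y')).op (c y) =
        Y.presheaf.map (homOfLE hle).op m := by
      have := congrArg (Y.presheaf.map (Opens.infLELeft (O y) (O y')).op) (hc y)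
      rw [map_mul, map_map_apply _ _ (homOfLE hle), map_map_apply _ _ (homOfLE hle)] at this
      exact this
    have h2 : Y.presheaf.map (homOfLE hle).op e *
        Y.presheaf.map (Opens.infLERight (O y) (O y')).op (c y') =
        Y.presheaf.map (homOfLE hle).op m := by
      have := congrArg (Y.presheaf.map (Opens.infLERight (O y) (O y')).op) (hc y')
      rw [map_mul, map_map_apply _ _ (homOfLE hle), map_map_apply _ _ (homOfLE hle)] at this
      exact this
    have h3 : (Y.presheaf.map (Opens.infLELeft (O y) (O y')).op (c y) -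
        Y.presheaf.map (Opens.infLERight (O y) (O y')).op (c y')) *
        Y.presheaf.map (homOfLE hle).op e = 0 := by
      rw [sub_mul, mul_comm, h1, mul_comm, h2, sub_self]
    exact sub_eq_zero.mp ((mem_nonZeroDivisors_iff_right.mp hnzd) _ h3)
  have hcover : G ≤ iSup O := fun y hy => Opens.mem_iSup.mpr ⟨⟨y, hy⟩, hyO ⟨y, hy⟩⟩
  obtain ⟨(s : Γ(Y, G)), hs, -⟩ :=
    Y.sheaf.existsUnique_gluing' O G (fun y => homOfLE (hOG y)) hcover c hcompat
  refine ⟨s, ?_⟩
  apply Y.sheaf.eq_of_locally_eq' O G (fun y => homOfLE (hOG y)) hcover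
  intro y
  have h1 : Y.presheaf.map (homOfLE (hOG y)).op s = c y := hs y
  show Y.presheaf.map (homOfLE (hOG y)).op (e * s) = Y.presheaf.map (homOfLE (hOG y)).op m
  rw [map_mul, h1]
  exact hc y

/-- the inverse image of `Curv2.idealSheaf A I` along `Spec.map φ` is effective Cartier when
`I` extends to a principal ideal generated by a nonzerodivisor. -/
theorem effCartier_comap_SpecMap (A C : Type u) [CommRing A] [CommRing C] (φ : A →+* C)
    (I : Ideal A) (f : C) (hf : f ∈ nonZeroDivisors C) (hgen : I.map φ = Ideal.span {f}) :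
    BlowUp.IsEffCartierIdeal
      ((Curv2.idealSheaf A I).comap (Spec.map (CommRingCat.ofHom φ))) := by
  intro x
  refine ⟨⟨⊤, isAffineOpen_top _⟩, trivial,
    (Scheme.ΓSpecIso (CommRingCat.of C)).inv.hom f, ?_, ?_⟩
  · exact nzd_map_of_bijective _
      (ConcreteCategory.bijective_of_isIso (Scheme.ΓSpecIso (CommRingCat.of C)).inv) f hf
  · rw [comap_idealSheaf_ideal]
    have h1 : (Scheme.ΓSpecIso (CommRingCat.of A)).inv ≫
        (Spec.map (CommRingCat.ofHom φ)).appTop ≫
        (Spec (CommRingCat.of C)).presheaf.map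
          (homOfLE (le_top : (⊤ : (Spec (CommRingCat.of C)).Opens) ≤ ⊤)).op =
        CommRingCat.ofHom φ ≫ (Scheme.ΓSpecIso (CommRingCat.of C)).inv := by
      rw [Scheme.ΓSpecIso_inv_naturality]
      have : (Spec (CommRingCat.of C)).presheaf.map
          (homOfLE (le_top : (⊤ : (Spec (CommRingCat.of C)).Opens) ≤ ⊤)).op = 𝟙 _ :=
        (Spec (CommRingCat.of C)).presheaf.map_id _
      rw [this, Category.comp_id]
    rw [h1, CommRingCat.hom_comp, ← Ideal.map_map, CommRingCat.hom_ofHom, hgen, Ideal.map_span,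
      Set.image_singleton]

end Groth.Agent.H22.BlowUpU
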