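import Mathlib
import Groth.Prelude.Def_BlowUp2
import Groth.Agent.Lib.helper22.BlowUpU
import Groth.Agent.Lib.helper22.BlowUpChart
import Groth.Agent.Lib.helper22.BlowUpAff
open CategoryTheory CategoryTheory.Limits AlgebraicGeometry
open Groth.Agent.H22.CartierFlat

/-! Being a blowing up (`BlowUp.IsBlowUp`) is local on the base, and is invariant under isomorphisms
of arrows. -/

namespace Groth.Agent.H22.BlowUpU

universe u

/-- Being effective Cartier is local: it suffices to check it after restricting to opens covering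
the scheme. -/
theorem effCartier_of_forall_exists_open {X : Scheme.{u}} (𝓙 : X.IdealSheafData)
    (H : ∀ x : X, ∃ V : X.Opens, x ∈ V ∧ BlowUp.IsEffCartierIdeal (𝓙.comap V.ι)) :
    BlowUp.IsEffCartierIdeal 𝓙 := by
  intro x
  obtain ⟨V, hxV, hV⟩ := H x
  obtain ⟨W, hxW, t, ht, hI⟩ := hV ⟨x, hxV⟩
  have hW' : IsAffineOpen (V.ι ''ᵁ W.1) := W.2.image_of_isOpenImmersion V.ι
  have hle : W.1 ≤ V.ι ⁻¹ᵁ (V.ι ''ᵁ W.1) := (Scheme.Hom.preimage_image_eq V.ι W.1).ge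
  have h1 := comap_ideal_eq_map 𝓙 V.ι W ⟨V.ι ''ᵁ W.1, hW'⟩ hle
  have h2 : V.ι.appLE (V.ι ''ᵁ W.1) W.1 hle = (V.ι.appIso W.1).hom :=
    (Scheme.Hom.appIso_hom' V.ι W.1).symm
  rw [h2, hI] at h1
  refine ⟨⟨V.ι ''ᵁ W.1, hW'⟩, ⟨⟨x, hxV⟩, hxW, rfl⟩, (V.ι.appIso W.1).inv.hom t, ?_, ?_⟩
  · exact nzd_map_of_bijective (V.ι.appIso W.1).inv.hom
      (ConcreteCategory.bijective_of_isIso (V.ι.appIso W.1).inv) t ht
  · have h3 := congrArg (Ideal.map (V.ι.appIso W.1).inv.hom) h1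
    rw [Ideal.map_map, ← CommRingCat.hom_comp, Iso.hom_inv_id, CommRingCat.hom_id, Ideal.map_id,
      Ideal.map_span, Set.image_singleton] at h3
    exact h3.symm

/-- Uniqueness of lifts to `X'` of a morphism landing in an open `U` of the base over which `b` is
a blowing up. -/
theorem hom_ext_of_isBlowUp_restrict {X X' : Scheme.{u}} (b : X' ⟶ X) (𝓘 : X.IdealSheafData)
    (U : X.Opens) (hU : BlowUp.IsBlowUp (b ∣_ U) (𝓘.comap U.ι)) {Z : Scheme.{u}}
    (m₁ m₂ : Z ⟶ X') (h12 : m₁ ≫ b = m₂ ≫ b) (hr : ∀ z : Z, b (m₁ z) ∈ U)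
    (hc : BlowUp.IsEffCartierIdeal (𝓘.comap (m₁ ≫ b))) : m₁ = m₂ := by
  have hr1 : Set.range m₁ ⊆ Set.range (b ⁻¹ᵁ U).ι := by
    rintro _ ⟨z, rfl⟩
    rw [Scheme.Opens.range_ι]
    exact hr z
  have hr2 : Set.range m₂ ⊆ Set.range (b ⁻¹ᵁ U).ι := by
    rintro _ ⟨z, rfl⟩
    rw [Scheme.Opens.range_ι]
    show b (m₂ z) ∈ U
    have : b (m₂ z) = b (m₁ z) := by
      rw [← Scheme.Hom.comp_apply, ← Scheme.Hom.comp_apply, h12]
    rw [this]
    exact hr z
  have e1 : IsOpenImmersion.lift (b ⁻¹ᵁ U).ι m₁ hr1 ≫ (b ⁻¹ᵁ U).ι = m₁ :=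
    IsOpenImmersion.lift_fac _ _ _
  have e2 : IsOpenImmersion.lift (b ⁻¹ᵁ U).ι m₂ hr2 ≫ (b ⁻¹ᵁ U).ι = m₂ :=
    IsOpenImmersion.lift_fac _ _ _
  have key : IsOpenImmersion.lift (b ⁻¹ᵁ U).ι m₁ hr1 ≫ (b ∣_ U) =
      IsOpenImmersion.lift (b ⁻¹ᵁ U).ι m₂ hr2 ≫ (b ∣_ U) := by
    rw [← cancel_mono U.ι, Category.assoc, Category.assoc, morphismRestrict_ι, ← Category.assoc,
      ← Category.assoc, e1, e2, h12]
  have hc' : BlowUp.IsEffCartierIdeal
      ((𝓘.comap U.ι).comap (IsOpenImmersion.lift (b ⁻¹ᵁ U).ι m₁ hr1 ≫ (b ∣_ U))) := by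
    rw [← Scheme.IdealSheafData.comap_comp, Category.assoc, morphismRestrict_ι, ← Category.assoc, e1]
    exact hc
  obtain ⟨h, _, huniq⟩ := hU.2 Z _ hc'
  have h3 := (huniq _ rfl).trans (huniq _ key.symm).symm
  rw [← e1, ← e2, h3]

/-- **Being a blowing up is local on the base.** -/
theorem isBlowUp_of_forall_exists_open {X X' : Scheme.{u}} (b : X' ⟶ X) (𝓘 : X.IdealSheafData)
    (H : ∀ x : X, ∃ U : X.Opens, x ∈ U ∧ BlowUp.IsBlowUp (b ∣_ U) (𝓘.comap U.ι)) :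
    BlowUp.IsBlowUp b 𝓘 := by
  choose U hxU hU using H
  refine ⟨?_, ?_⟩
  · apply effCartier_of_forall_exists_open
    intro x'
    refine ⟨b ⁻¹ᵁ U (b x'), hxU (b x'), ?_⟩
    have h1 := (hU (b x')).1
    rw [← Scheme.IdealSheafData.comap_comp, morphismRestrict_ι,
      Scheme.IdealSheafData.comap_comp] at h1
    exact h1
  · intro T g hg
    have hloc : ∀ t : T, ∃ k : (g ⁻¹ᵁ U (g t) : Scheme.{u}) ⟶ X',
        k ≫ b = (g ⁻¹ᵁ U (g t)).ι ≫ g := by
      intro t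
      have hc : BlowUp.IsEffCartierIdeal ((𝓘.comap (U (g t)).ι).comap (g ∣_ U (g t))) := by
        rw [← Scheme.IdealSheafData.comap_comp, morphismRestrict_ι,
          Scheme.IdealSheafData.comap_comp]
        exact effCartier_comap_of_flat _ _ hg
      obtain ⟨h, hh, -⟩ := (hU (g t)).2 _ (g ∣_ U (g t)) hc
      have hh' : h ≫ (b ∣_ U (g t)) = g ∣_ U (g t) := hh
      refine ⟨h ≫ (b ⁻¹ᵁ U (g t)).ι, ?_⟩
      rw [Category.assoc, ← morphismRestrict_ι, ← Category.assoc, hh', morphismRestrict_ι]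
    choose k hk using hloc
    let 𝒰 : T.OpenCover := {
      I₀ := T, X t := (g ⁻¹ᵁ U (g t)), f t := (g ⁻¹ᵁ U (g t)).ι,
      mem₀ := by
        rw [Scheme.presieve₀_mem_precoverage_iff]
        refine ⟨fun x ↦ ⟨x, by simpa using hxU (g x)⟩, inferInstance⟩ }
    have hcompat : ∀ s t, pullback.fst (𝒰.f s) (𝒰.f t) ≫ k s = pullback.snd _ _ ≫ k t := by
      intro s t
      apply hom_ext_of_isBlowUp_restrict b 𝓘 (U (g s)) (hU (g s))
      · rw [Category.assoc, Category.assoc, hk, hk, ← Category.assoc, ← Category.assoc,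
          pullback.condition]
      · intro z
        have h1 : b ((pullback.fst (𝒰.f s) (𝒰.f t) ≫ k s) z) =
            g ((g ⁻¹ᵁ U (g s)).ι (pullback.fst (𝒰.f s) (𝒰.f t) z)) := by
          rw [← Scheme.Hom.comp_apply, Category.assoc, hk]
          rfl
        show b ((pullback.fst (𝒰.f s) (𝒰.f t) ≫ k s) z) ∈ U (g s)
        rw [h1]
        exact (pullback.fst (𝒰.f s) (𝒰.f t) z).2
      · rw [Category.assoc, hk, ← Category.assoc, Scheme.IdealSheafData.comap_comp]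
        exact effCartier_comap_of_flat _ _ hg
    refine ⟨𝒰.glueMorphisms k hcompat, ?_, ?_⟩
    · apply 𝒰.hom_ext
      intro t
      rw [← Category.assoc, 𝒰.ι_glueMorphisms]
      exact hk t
    · intro h' hh'
      have hh'' : h' ≫ b = g := hh'
      apply 𝒰.hom_ext
      intro t
      rw [𝒰.ι_glueMorphisms]
      apply hom_ext_of_isBlowUp_restrict b 𝓘 (U (g t)) (hU (g t))
      · rw [Category.assoc, hh'', hk]
      · intro z
        have h1 : b ((𝒰.f t ≫ h') z) = g ((g ⁻¹ᵁ U (g t)).ι z) := by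
          rw [← Scheme.Hom.comp_apply, Category.assoc, hh'']
          rfl
        rw [h1]
        exact z.2
      · rw [Category.assoc, hh'', Scheme.IdealSheafData.comap_comp]
        exact effCartier_comap_of_flat _ _ hg

/-- Being a blowing up is invariant under isomorphisms of arrows. -/
theorem isBlowUp_of_arrow_iso {X X' X₂ X₂' : Scheme.{u}} (b : X' ⟶ X) (𝓘 : X.IdealSheafData)
    (b₂ : X₂' ⟶ X₂) (𝓘₂ : X₂.IdealSheafData) (e' : X' ≅ X₂') (e : X ≅ X₂)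
    (hcomm : e'.hom ≫ b₂ = b ≫ e.hom) (h𝓘 : 𝓘 = 𝓘₂.comap e.hom)
    (h₂ : BlowUp.IsBlowUp b₂ 𝓘₂) : BlowUp.IsBlowUp b 𝓘 := by
  subst h𝓘
  refine ⟨?_, ?_⟩
  · rw [← Scheme.IdealSheafData.comap_comp, ← hcomm, Scheme.IdealSheafData.comap_comp]
    exact effCartier_comap_of_flat e'.hom _ h₂.1
  · intro T g hg
    rw [← Scheme.IdealSheafData.comap_comp] at hg
    obtain ⟨h, hh, huniq⟩ := h₂.2 T (g ≫ e.hom) hg
    have hh' : h ≫ b₂ = g ≫ e.hom := hh
    have h1 : e'.inv ≫ b = b₂ ≫ e.inv := by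
      rw [Iso.inv_comp_eq, ← Category.assoc, hcomm, Category.assoc, Iso.hom_inv_id,
        Category.comp_id]
    refine ⟨h ≫ e'.inv, ?_, ?_⟩
    · show (h ≫ e'.inv) ≫ b = g
      rw [Category.assoc, h1, ← Category.assoc, hh', Category.assoc, Iso.hom_inv_id,
        Category.comp_id]
    · intro h' hh2
      have hh2' : h' ≫ b = g := hh2
      have h3 : h' ≫ e'.hom = h := huniq _ (by
        show (h' ≫ e'.hom) ≫ b₂ = g ≫ e.hom
        rw [Category.assoc, hcomm, ← Category.assoc, hh2'])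
      rw [← h3, Category.assoc, Iso.hom_inv_id, Category.comp_id]

/-- The restriction of `f` over an affine open `U` with affine preimage is a blowing up as soon
as the induced map of spectra is. -/
theorem isBlowUp_morphismRestrict_of_affine {X Y : Scheme.{u}} (f : X ⟶ Y)
    (𝓘 : Y.IdealSheafData) (U : Y.Opens) (hU : IsAffineOpen U) (hV : IsAffineOpen (f ⁻¹ᵁ U))
    (h : BlowUp.IsBlowUp (Spec.map (f.app U))
      (Curv2.idealSheaf Γ(Y, U) (𝓘.ideal ⟨U, hU⟩))) :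
    BlowUp.IsBlowUp (f ∣_ U) (𝓘.comap U.ι) := by
  refine isBlowUp_of_arrow_iso (f ∣_ U) (𝓘.comap U.ι) (Spec.map (f.app U)) _ hV.isoSpec hU.isoSpec
    ?_ ?_ h
  · rw [← cancel_mono hU.fromSpec, Category.assoc, Category.assoc, hU.isoSpec_hom_fromSpec,
      morphismRestrict_ι, Scheme.Hom.app_eq_appLE, IsAffineOpen.SpecMap_appLE_fromSpec f hU hV,
      ← Category.assoc, hV.isoSpec_hom_fromSpec]
  · haveI : IsAffine (U : Scheme.{u}) := hU
    apply Scheme.IdealSheafData.ext_of_isAffine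
    rw [comap_ideal_eq_map 𝓘 U.ι ⟨⊤, isAffineOpen_top _⟩ ⟨U, hU⟩ (by simp),
      comap_idealSheaf_ideal]
    congr 2
    rw [hU.isoSpec_hom_appTop]
    have h1 : (Scheme.ΓSpecIso (CommRingCat.of ↑Γ(Y, U))).inv ≫
        ((Scheme.ΓSpecIso Γ(Y, U)).hom ≫ U.topIso.inv) = U.topIso.inv :=
      Iso.inv_hom_id_assoc (Scheme.ΓSpecIso Γ(Y, U)) _
    rw [← Category.assoc, h1, Scheme.Opens.ι_appLE, Scheme.Opens.topIso_inv,
      Scheme.Opens.toScheme_presheaf_map]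
    exact (congrArg Y.presheaf.map (Subsingleton.elim _ _)).trans (Y.presheaf.map_comp _ _)

end Groth.Agent.H22.BlowUpU
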