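import Mathlib
import Groth.Agent.Lib.helper22.BlowUpU
open TensorProduct CategoryTheory CategoryTheory.Limits AlgebraicGeometry

/-! The complement of an effective Cartier divisor is dense, and reducedness can be checked on it. -/

namespace Groth.Agent.H22.BlowUpU

universe u

open Groth.Agent.H22.CartierFlat

/-- The complement of an effective Cartier divisor meets every nonempty open. -/
theorem exists_mem_not_mem_support {X : Scheme.{u}} (𝓔 : X.IdealSheafData)
    (h𝓔 : BlowUp.IsEffCartierIdeal 𝓔) (O : X.Opens) (x : X) (hx : x ∈ O) :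
    ∃ p ∈ O, p ∉ 𝓔.support := by
  obtain ⟨W, hxW, e, he, hI⟩ := h𝓔 x
  obtain ⟨g, hgle, hxg⟩ := W.2.exists_basicOpen_le (V := O) ⟨x, hx⟩ hxW
  by_contra hcon
  push Not at hcon
  have hbot : X.basicOpen (g * e) = ⊥ := by
    rw [eq_bot_iff]
    intro p hp
    rw [Scheme.basicOpen_mul] at hp
    exact absurd (hcon p (hgle hp.1)) (not_mem_support_of_mem_basicOpen 𝓔 W e hI p hp.2)
  have hnil : IsNilpotent (g * e) :=
    (Scheme.isNilpotent_iff_basicOpen_eq_bot_of_isCompact W.2.isCompact (g * e)).mpr hbot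
  obtain ⟨n, hn⟩ := hnil
  rw [mul_pow] at hn
  have hg : g ^ n = 0 := (mem_nonZeroDivisors_iff_right.mp (pow_mem he n)) _ hn
  have hgb : X.basicOpen g = ⊥ :=
    (Scheme.isNilpotent_iff_basicOpen_eq_bot_of_isCompact W.2.isCompact g).mp ⟨n, hg⟩
  rw [hgb] at hxg
  exact hxg

theorem isReduced_sections_of_effCartier {X : Scheme.{u}} (W : X.affineOpens)
    (e : Γ(X, W.1)) (he : e ∈ nonZeroDivisors Γ(X, W.1))
    (hred : _root_.IsReduced Γ(X, X.basicOpen e)) : _root_.IsReduced Γ(X, W.1) := by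
  constructor
  intro a ha
  have h1 : IsNilpotent ((X.presheaf.map (homOfLE (X.basicOpen_le e)).op).hom a) := ha.map _
  have h2 : (X.presheaf.map (homOfLE (X.basicOpen_le e)).op).hom a = 0 := h1.eq_zero
  obtain ⟨n, hn⟩ := exists_pow_mul_eq_zero_of_res_basicOpen_eq_zero_of_isAffineOpen X W.2 a e h2
  exact (mem_nonZeroDivisors_iff.mp (pow_mem he n)).1 a hn

/-- A scheme is reduced if it is reduced away from an effective Cartier divisor. -/
theorem isReduced_of_effCartier {X : Scheme.{u}} (𝓔 : X.IdealSheafData)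
    (h𝓔 : BlowUp.IsEffCartierIdeal 𝓔)
    (hred : ∀ O : X.Opens, (∀ p ∈ O, p ∉ 𝓔.support) → _root_.IsReduced Γ(X, O)) : IsReduced X := by
  have hst : ∀ x : X, _root_.IsReduced (X.presheaf.stalk x) := by
    intro x
    obtain ⟨W, hxW, e, he, hI⟩ := h𝓔 x
    have h1 : _root_.IsReduced Γ(X, W.1) :=
      isReduced_sections_of_effCartier W e he
        (hred _ (fun p hp => not_mem_support_of_mem_basicOpen 𝓔 W e hI p hp))
    letI := TopCat.Presheaf.algebra_section_stalk X.presheaf ⟨x, hxW⟩
    haveI := W.2.isLocalization_stalk ⟨x, hxW⟩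
    exact isReduced_localizationPreserves (W.2.primeIdealOf ⟨x, hxW⟩).asIdeal.primeCompl
      (X.presheaf.stalk x) h1
  exact isReduced_of_isReduced_stalk X

end Groth.Agent.H22.BlowUpU
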