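import Mathlib
import Groth.Prelude.Def_BlowUp2
import Groth.Agent.Lib.helper22.CartierSch2
import Groth.Agent.Lib.helper22.CartierBC
open TensorProduct CategoryTheory CategoryTheory.Limits AlgebraicGeometry

/-! Products of quasi-coherent ideal sheaves and effective Cartier divisors: the inverse image of a
product is the product of inverse images, a product of effective Cartier ideals is effective
Cartier, and a factor of an effective Cartier ideal is effective Cartier. -/

namespace Groth.Agent.H22.BlowUpMul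

universe u

open Groth.Agent.H22.CartierFlat

theorem exists_factor_eq {A : Type*} [CommRing A] (I J : Ideal A) (f : A)
    (hf : f ∈ nonZeroDivisors A) (hIJ : I * J = Ideal.span {f}) (p : Ideal A) [p.IsPrime] :
    ∃ a ∈ I, ∃ b ∈ J, ∃ c : A, c ∉ p ∧ a * b = c * f := by
  by_contra hcon
  push Not at hcon
  -- every c with a*b = c*f lies in p
  have key : ∀ y ∈ I * J, ∃ k ∈ p, y = k * f := by
    intro y hy
    induction hy using Submodule.mul_induction_on' with
    | mem_mul_mem a ha b hb =>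
      have hab : a * b ∈ Ideal.span {f} := hIJ ▸ Ideal.mul_mem_mul ha hb
      obtain ⟨c, hc⟩ := Ideal.mem_span_singleton'.mp hab
      refine ⟨c, ?_, hc.symm⟩
      by_contra hcp
      exact hcon a ha b hb c hcp hc.symm
    | add x hx y hy hx' hy' =>
      obtain ⟨k₁, hk₁, rfl⟩ := hx'
      obtain ⟨k₂, hk₂, rfl⟩ := hy'
      exact ⟨k₁ + k₂, p.add_mem hk₁ hk₂, by ring⟩
  have hfm : f ∈ I * J := hIJ ▸ Ideal.mem_span_singleton_self f
  obtain ⟨k, hk, hkf⟩ := key f hfm
  have h1 : (k - 1) * f = 0 := by rw [sub_mul, one_mul, ← hkf, sub_self]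
  have h2 : k - 1 = 0 := (mem_nonZeroDivisors_iff_right.mp hf) _ h1
  have h3 : k = 1 := sub_eq_zero.mp h2
  rw [h3] at hk
  exact (Ideal.ne_top_iff_one p).mp (Ideal.IsPrime.ne_top inferInstance) hk

theorem map_eq_span_of_factor {A B : Type*} [CommRing A] [CommRing B] [Algebra A B]
    (I J : Ideal A) (f : A) (hf : f ∈ nonZeroDivisors A) (hIJ : I * J = Ideal.span {f})
    (a b c : A) (ha : a ∈ I) (hb : b ∈ J) (habc : a * b = c * f) [IsLocalization.Away c B] :
    I.map (algebraMap A B) = Ideal.span {algebraMap A B a} ∧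
      algebraMap A B a ∈ nonZeroDivisors B := by
  have hcu : IsUnit (algebraMap A B c) := IsLocalization.Away.algebraMap_isUnit c
  constructor
  · apply le_antisymm
    · rw [Ideal.map_le_iff_le_comap]
      intro a' ha'
      rw [Ideal.mem_comap]
      have hab : a' * b ∈ Ideal.span {f} := hIJ ▸ Ideal.mul_mem_mul ha' hb
      obtain ⟨d, hd⟩ := Ideal.mem_span_singleton'.mp hab
      have h1 : (a' * c - a * d) * f = 0 := by
        have : a' * c * f = a * d * f := by
          calc a' * c * f = a' * (c * f) := by ring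
            _ = a' * (a * b) := by rw [habc]
            _ = a * (a' * b) := by ring
            _ = a * (d * f) := by rw [hd]
            _ = a * d * f := by ring
        rw [sub_mul, this, sub_self]
      have h2 : a' * c = a * d := sub_eq_zero.mp ((mem_nonZeroDivisors_iff_right.mp hf) _ h1)
      rw [Ideal.mem_span_singleton']
      obtain ⟨u, hu⟩ := hcu
      refine ⟨algebraMap A B d * ↑u⁻¹, ?_⟩
      have h3 : algebraMap A B a' * ↑u = algebraMap A B a * algebraMap A B d := by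
        rw [hu, ← map_mul, ← map_mul, h2]
      calc algebraMap A B d * ↑u⁻¹ * algebraMap A B a
          = (algebraMap A B a * algebraMap A B d) * ↑u⁻¹ := by ring
        _ = algebraMap A B a' * ↑u * ↑u⁻¹ := by rw [h3]
        _ = algebraMap A B a' := by rw [mul_assoc, Units.mul_inv, mul_one]
    · rw [Ideal.span_singleton_le_iff_mem]
      exact Ideal.mem_map_of_mem _ ha
  · rw [mem_nonZeroDivisors_iff_right]
    intro z hz
    have hfB : algebraMap A B f ∈ nonZeroDivisors B :=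
      IsLocalization.map_nonZeroDivisors_le (Submonoid.powers c) B (Submonoid.mem_map_of_mem _ hf)
    have h1 : z * algebraMap A B c * algebraMap A B f = 0 := by
      calc z * algebraMap A B c * algebraMap A B f = z * algebraMap A B (c * f) := by
            rw [map_mul]; ring
        _ = z * algebraMap A B (a * b) := by rw [habc]
        _ = (z * algebraMap A B a) * algebraMap A B b := by rw [map_mul]; ring
        _ = 0 := by rw [hz, zero_mul]
    have h2 : z * algebraMap A B c = 0 := (mem_nonZeroDivisors_iff_right.mp hfB) _ h1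
    exact (hcu.mul_left_eq_zero).mp h2

theorem comap_mul {X Y : Scheme.{u}} (𝓘 𝓙 : X.IdealSheafData) (g : Y ⟶ X) :
    (𝓘 * 𝓙).comap g = 𝓘.comap g * 𝓙.comap g := by
  refine Scheme.IdealSheafData.ext_of_iSup_eq_top
    (ι := {p : Y.affineOpens × X.affineOpens // p.1.1 ≤ g ⁻¹ᵁ p.2.1}) (fun p => p.1.1) ?_ ?_
  · rw [eq_top_iff]
    intro y _
    obtain ⟨_, ⟨V, hV, rfl⟩, hyV, -⟩ :=
      X.isBasis_affineOpens.exists_subset_of_mem_open (show g y ∈ (⊤ : X.Opens) from trivial)
        (⊤ : X.Opens).isOpen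
    obtain ⟨_, ⟨U, hU, rfl⟩, hyU, hUV⟩ :=
      Y.isBasis_affineOpens.exists_subset_of_mem_open hyV (g ⁻¹ᵁ V).isOpen
    exact TopologicalSpace.Opens.mem_iSup.mpr ⟨⟨(⟨U, hU⟩, ⟨V, hV⟩), hUV⟩, hyU⟩
  · rintro ⟨⟨U, V⟩, e⟩
    simp only [Scheme.IdealSheafData.ideal_mul, Pi.mul_apply]
    rw [comap_ideal_eq_map _ g U V e, comap_ideal_eq_map _ g U V e, comap_ideal_eq_map _ g U V e,
      Scheme.IdealSheafData.ideal_mul, Pi.mul_apply, Ideal.map_mul]

theorem effCartier_mul {X : Scheme.{u}} (𝓘 𝓙 : X.IdealSheafData) (h𝓘 : BlowUp.IsEffCartierIdeal 𝓘)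
    (h𝓙 : BlowUp.IsEffCartierIdeal 𝓙) : BlowUp.IsEffCartierIdeal (𝓘 * 𝓙) := by
  intro x
  obtain ⟨U₁, hxU₁, t₁, ht₁, hI₁⟩ := h𝓘 x
  obtain ⟨W, hWU₁, g₁, hWg, hxW, t₂, ht₂, hI₂⟩ := exists_good_nbhd 𝓙 h𝓙 U₁ x hxU₁
  obtain ⟨h1, h2⟩ := cartier_restrict_basicOpen 𝓘 hWU₁ g₁ hWg t₁ ht₁ hI₁
  refine ⟨W, hxW, _ * t₂, mul_mem h1 ht₂, ?_⟩
  rw [Scheme.IdealSheafData.ideal_mul, Pi.mul_apply, h2, hI₂, Ideal.span_singleton_mul_span_singleton]

theorem effCartier_of_mul {X : Scheme.{u}} (𝓘 𝓙 : X.IdealSheafData)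
    (h : BlowUp.IsEffCartierIdeal (𝓘 * 𝓙)) : BlowUp.IsEffCartierIdeal 𝓘 := by
  intro x
  obtain ⟨U, hxU, f, hf, hI⟩ := h x
  rw [Scheme.IdealSheafData.ideal_mul, Pi.mul_apply] at hI
  set q := U.2.primeIdealOf ⟨x, hxU⟩ with hq
  haveI : q.asIdeal.IsPrime := q.2
  obtain ⟨a, ha, b, hb, c, hc, habc⟩ :=
    exists_factor_eq (𝓘.ideal U) (𝓙.ideal U) f hf hI q.asIdeal
  have hxc : x ∈ X.basicOpen c := by
    have h1 : U.2.fromSpec q = x := U.2.fromSpec_primeIdealOf ⟨x, hxU⟩
    have h2 : q ∈ U.2.fromSpec ⁻¹ᵁ X.basicOpen c := by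
      rw [U.2.fromSpec_preimage_basicOpen]; exact hc
    rw [← h1]; exact h2
  refine ⟨X.affineBasicOpen c, hxc, (X.presheaf.map (homOfLE (X.basicOpen_le c)).op).hom a, ?_, ?_⟩
  · letI := (X.presheaf.map (homOfLE (X.basicOpen_le c)).op).hom.toAlgebra
    haveI : IsLocalization.Away c Γ(X, X.basicOpen c) := U.2.isLocalization_basicOpen c
    exact (map_eq_span_of_factor (B := Γ(X, X.basicOpen c)) (𝓘.ideal U) (𝓙.ideal U) f hf hI
      a b c ha hb habc).2
  · letI := (X.presheaf.map (homOfLE (X.basicOpen_le c)).op).hom.toAlgebra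
    haveI : IsLocalization.Away c Γ(X, X.basicOpen c) := U.2.isLocalization_basicOpen c
    rw [← 𝓘.map_ideal_basicOpen U c]
    exact (map_eq_span_of_factor (B := Γ(X, X.basicOpen c)) (𝓘.ideal U) (𝓙.ideal U) f hf hI
      a b c ha hb habc).1

end Groth.Agent.H22.BlowUpMul
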