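import Mathlib
import Groth.Agent.Lib.helper22.CartierFlat
open TensorProduct

namespace Groth.Agent.H22.CartierFlat

universe u v
variable {A : Type u} [CommRing A]

/-- kernel of a surjection of flat modules is flat. -/
theorem flat_of_exact_left {M' M M'' : Type*} [AddCommGroup M'] [AddCommGroup M] [AddCommGroup M'']
    [Module A M'] [Module A M] [Module A M'']
    (g : M' →ₗ[A] M) (f : M →ₗ[A] M'') (hg : Function.Injective g) (hf : Function.Surjective f)
    (H : Function.Exact g f) [Module.Flat A M] [Module.Flat A M''] : Module.Flat A M' := by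
  rw [Module.Flat.iff_rTensor_injectiveₛ]
  intro P _ _ N
  letI : AddCommGroup P := Module.addCommMonoidToAddCommGroup A
  have h1 : Function.Injective (g.lTensor N) :=
    LinearMap.lTensor_injective_of_exact_of_flat f hf g hg H N
  have h2 : Function.Injective (N.subtype.rTensor M) :=
    Module.Flat.rTensor_preserves_injective_linearMap _ N.injective_subtype
  have hc : (g.lTensor P) ∘ₗ (N.subtype.rTensor M') = (N.subtype.rTensor M) ∘ₗ (g.lTensor N) := by
    ext; simp
  have h3 : Function.Injective ((g.lTensor P) ∘ₗ (N.subtype.rTensor M')) := by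
    rw [hc]; exact h2.comp h1
  exact Function.Injective.of_comp h3

/-- extension of flat modules is flat. -/
theorem flat_of_exact_mid {M' M M'' : Type*} [AddCommGroup M'] [AddCommGroup M] [AddCommGroup M'']
    [Module A M'] [Module A M] [Module A M'']
    (g : M' →ₗ[A] M) (f : M →ₗ[A] M'') (hg : Function.Injective g) (hf : Function.Surjective f)
    (H : Function.Exact g f) [Module.Flat A M'] [Module.Flat A M''] : Module.Flat A M := by
  rw [Module.Flat.iff_rTensor_injectiveₛ]
  intro P _ _ N
  letI : AddCommGroup P := Module.addCommMonoidToAddCommGroup A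
  rw [injective_iff_map_eq_zero]
  intro z hz
  have h1 : Function.Injective (N.subtype.rTensor M'') :=
    Module.Flat.rTensor_preserves_injective_linearMap _ N.injective_subtype
  have h1' : Function.Injective (N.subtype.rTensor M') :=
    Module.Flat.rTensor_preserves_injective_linearMap _ N.injective_subtype
  have h2 : Function.Injective (g.lTensor P) :=
    LinearMap.lTensor_injective_of_exact_of_flat f hf g hg H P
  have hc1 : (f.lTensor P) ∘ₗ (N.subtype.rTensor M) = (N.subtype.rTensor M'') ∘ₗ (f.lTensor N) := by
    ext; simp
  have hc2 : (g.lTensor P) ∘ₗ (N.subtype.rTensor M') = (N.subtype.rTensor M) ∘ₗ (g.lTensor N) := by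
    ext; simp
  have hz1 : f.lTensor N z = 0 := by
    apply h1
    have := congr($hc1 z)
    simp only [LinearMap.comp_apply] at this
    rw [← this, hz, map_zero, map_zero]
  obtain ⟨z', rfl⟩ := (lTensor_exact N H hf z).mp hz1
  have hz2 : N.subtype.rTensor M' z' = 0 := by
    apply h2
    have := congr($hc2 z')
    simp only [LinearMap.comp_apply] at this
    rw [this, hz, map_zero]
  rw [h1' (hz2.trans (map_zero _).symm), map_zero]

end Groth.Agent.H22.CartierFlat
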