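import Mathlib
import Groth.Agent.Lib.helper22.CartierFlat
import Groth.Agent.Lib.helper22.CartierFlat2
open TensorProduct

namespace Groth.Agent.H22.CartierFlat

universe u v
variable {A : Type u} {B : Type v} [CommRing A] [CommRing B] [Algebra A B]

section seq
variable (t : B) (I : Ideal B)

/-- multiplication by `t`: `B/I → B/(tI)`. -/
noncomputable def mulQ : (B ⧸ I) →ₗ[B] (B ⧸ (Ideal.span {t} * I)) :=
  Submodule.mapQ I (Ideal.span {t} * I) (LinearMap.mulLeft B t) (by
    intro b hb
    simp only [Submodule.mem_comap, LinearMap.mulLeft_apply]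
    exact Ideal.mul_mem_mul (Ideal.subset_span rfl) hb)

/-- the projection `B/(tI) → B/(t)`. -/
noncomputable def projQ : (B ⧸ (Ideal.span {t} * I)) →ₗ[B] (B ⧸ Ideal.span {t}) :=
  (Ideal.Quotient.factorₐ B (Ideal.mul_le_left : Ideal.span {t} * I ≤ Ideal.span {t})).toLinearMap

theorem projQ_surjective : Function.Surjective (projQ t I) := by
  intro y
  obtain ⟨b, rfl⟩ := Submodule.Quotient.mk_surjective _ y
  exact ⟨Submodule.Quotient.mk b, rfl⟩

theorem mulQ_injective (ht : t ∈ nonZeroDivisors B) : Function.Injective (mulQ t I) := by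
  rw [injective_iff_map_eq_zero]
  intro y hy
  obtain ⟨b, rfl⟩ := Submodule.Quotient.mk_surjective _ y
  have h1 : t * b ∈ Ideal.span {t} * I := by
    have : mulQ t I (Submodule.Quotient.mk b) = Submodule.Quotient.mk (t * b) := rfl
    rw [this, Submodule.Quotient.mk_eq_zero] at hy
    exact hy
  obtain ⟨z, hz, hzb⟩ := Ideal.mem_span_singleton_mul.mp h1
  have : t * (z - b) = 0 := by rw [mul_sub, hzb, sub_self]
  have h2 := (mem_nonZeroDivisors_iff.mp ht).1 _ this
  rw [Submodule.Quotient.mk_eq_zero]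
  rwa [← sub_eq_zero.mp h2]

theorem exact_mulQ_projQ : Function.Exact (mulQ t I) (projQ t I) := by
  intro y
  obtain ⟨b, rfl⟩ := Submodule.Quotient.mk_surjective _ y
  have h0 : projQ t I (Submodule.Quotient.mk b) = Submodule.Quotient.mk b := rfl
  rw [h0, Submodule.Quotient.mk_eq_zero, Ideal.mem_span_singleton']
  constructor
  · rintro ⟨a, rfl⟩
    refine ⟨Submodule.Quotient.mk a, ?_⟩
    change Submodule.Quotient.mk (t * a) = _
    rw [mul_comm t a]
  · rintro ⟨y', hy'⟩
    obtain ⟨a, rfl⟩ := Submodule.Quotient.mk_surjective _ y'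
    have : mulQ t I (Submodule.Quotient.mk a) = Submodule.Quotient.mk (t * a) := rfl
    rw [this, Submodule.Quotient.eq] at hy'
    obtain ⟨z, hz, hzb⟩ := Ideal.mem_span_singleton_mul.mp hy'
    refine ⟨a - z, ?_⟩
    rw [sub_mul, mul_comm z t, hzb, mul_comm]
    ring

end seq

/-- sum of relative effective Cartier divisors, ring level. -/
theorem flat_quot_mul (t : B) (I : Ideal B) (ht : t ∈ nonZeroDivisors B)
    (h1 : Module.Flat A (B ⧸ Ideal.span {t})) (h2 : Module.Flat A (B ⧸ I)) :
    Module.Flat A (B ⧸ (Ideal.span {t} * I)) :=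
  flat_of_exact_mid ((mulQ t I).restrictScalars A) ((projQ t I).restrictScalars A)
    (mulQ_injective t I ht) (projQ_surjective t I) (exact_mulQ_projQ t I)

/-- difference of relative effective Cartier divisors, ring level. -/
theorem flat_quot_of_mul (t : B) (I : Ideal B) (ht : t ∈ nonZeroDivisors B)
    (h1 : Module.Flat A (B ⧸ Ideal.span {t})) (h2 : Module.Flat A (B ⧸ (Ideal.span {t} * I))) :
    Module.Flat A (B ⧸ I) :=
  flat_of_exact_left ((mulQ t I).restrictScalars A) ((projQ t I).restrictScalars A)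
    (mulQ_injective t I ht) (projQ_surjective t I) (exact_mulQ_projQ t I)

end Groth.Agent.H22.CartierFlat
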