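import Mathlib
import Groth.Agent.Lib.helper22.CartierFlat
open TensorProduct

namespace Groth.Agent.H22.CartierFlat

universe u v
variable {A : Type u} {B : Type v} [CommRing A] [CommRing B] [Algebra A B]

/-- local version: `B` Noetherian local, `t ∈ 𝔪` nonzerodivisor, `B/t` flat over `A` ⇒ `B` flat. -/
theorem flat_of_nzd_of_flat_quot_local [IsNoetherianRing B] [IsLocalRing B] (t : B)
    (htm : t ∈ IsLocalRing.maximalIdeal B) (ht : t ∈ nonZeroDivisors B)
    (h1 : Module.Flat A (B ⧸ Ideal.span {t})) : Module.Flat A B := by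
  rw [Module.Flat.iff_lTensor_injective]
  intro I hI
  haveI : Module.Finite A I := Module.Finite.iff_fg.mpr hI
  let φ : B ⊗[A] I →ₗ[B] B ⊗[A] A := AlgebraTensorModule.lTensor B B I.subtype
  have hφ : ∀ z, φ z = I.subtype.lTensor B z := fun z => rfl
  suffices hK : LinearMap.ker φ = ⊥ by
    rw [injective_iff_map_eq_zero]
    intro z hz
    have : z ∈ LinearMap.ker φ := by rw [LinearMap.mem_ker, hφ, hz]
    rw [hK] at this
    exact this
  have hfgK : (LinearMap.ker φ).FG := IsNoetherian.noetherian _
  apply Submodule.eq_bot_of_le_smul_of_le_jacobson_bot (Ideal.span {t}) _ hfgK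
  · intro z hz
    rw [LinearMap.mem_ker] at hz
    -- z is divisible by t
    let g : B →ₗ[A] B := LinearMap.mulLeft A t
    let π : B →ₗ[A] (B ⧸ Ideal.span {t}) := (Ideal.Quotient.mkₐ A (Ideal.span {t})).toLinearMap
    have hπ : Function.Surjective π := Ideal.Quotient.mk_surjective
    have hex : Function.Exact g π := by
      intro y
      simp only [π, g, AlgHom.toLinearMap_apply, Ideal.Quotient.mkₐ_eq_mk,
        Ideal.Quotient.eq_zero_iff_mem, Ideal.mem_span_singleton', Set.mem_range,
        LinearMap.mulLeft_apply]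
      constructor
      · rintro ⟨a, rfl⟩; exact ⟨a, mul_comm _ _⟩
      · rintro ⟨a, rfl⟩; exact ⟨a, mul_comm _ _⟩
    have key : ∀ (N : Type u) [AddCommGroup N] [Module A N] (z : B ⊗[A] N),
        LinearMap.rTensor N g z = t • z := by
      intro N _ _ z
      induction z using TensorProduct.induction_on with
      | zero => simp
      | tmul b n => simp [g, TensorProduct.smul_tmul']
      | add x y hx hy => simp only [map_add, smul_add, hx, hy]
    have hinj : Function.Injective (I.subtype.lTensor (B ⧸ Ideal.span {t})) :=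
      Module.Flat.lTensor_preserves_injective_linearMap _ I.injective_subtype
    have hc : (I.subtype.lTensor (B ⧸ Ideal.span {t})) ∘ₗ (π.rTensor I) =
        (π.rTensor A) ∘ₗ (I.subtype.lTensor B) := by
      ext; simp
    have h2 : π.rTensor I z = 0 := by
      apply hinj
      have := congr($hc z)
      simp only [LinearMap.comp_apply] at this
      rw [this, ← hφ, hz, map_zero, map_zero]
    obtain ⟨z₁, hz₁⟩ := (rTensor_exact I hex hπ z).mp h2
    rw [key] at hz₁
    have hz₁K : z₁ ∈ LinearMap.ker φ := by
      rw [LinearMap.mem_ker]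
      apply smul_injective_of_flat_quot t ht h1
      rw [← map_smul, hz₁, hz]
    rw [← hz₁]
    exact Submodule.smul_mem_smul (Ideal.subset_span rfl) hz₁K
  · rw [IsLocalRing.jacobson_eq_maximalIdeal ⊥ bot_ne_top]
    exact (Ideal.span_singleton_le_iff_mem _).mpr htm

end Groth.Agent.H22.CartierFlat
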