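import Mathlib
import Groth.Agent.Lib.helper22.CartierFlat
open TensorProduct

namespace Groth.Agent.H22.CartierFlat

universe u v w

section loc
variable {A : Type u} {B₀ : Type v} [CommRing A] [CommRing B₀] [Algebra A B₀]
  (S : Submonoid B₀) {M M' : Type*} [AddCommGroup M] [AddCommGroup M'] [Module A M] [Module B₀ M]
  [IsScalarTower A B₀ M] [Module A M'] [Module B₀ M'] [IsScalarTower A B₀ M']
  (g : M →ₗ[B₀] M') [IsLocalizedModule S g]

include S g in
theorem flat_of_isLocalizedModule' [Module.Flat A M] : Module.Flat A M' := by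
  rw [Module.Flat.iff_lTensor_injectiveₛ]
  intro P _ _ N
  have h1 : Function.Injective (AlgebraTensorModule.lTensor B₀ M N.subtype) :=
    Module.Flat.lTensor_preserves_injective_linearMap _ N.injective_subtype
  have h2 := IsLocalizedModule.map_injective S (AlgebraTensorModule.rTensor A N g)
    (AlgebraTensorModule.rTensor A P g) _ h1
  rw [IsLocalizedModule.map_lTensor] at h2
  exact h2

end loc

variable {A : Type u} {B₀ : Type v} {B : Type w} [CommRing A] [CommRing B₀] [CommRing B]
  [Algebra A B₀] [Algebra B₀ B] [Algebra A B] [IsScalarTower A B₀ B]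

theorem flat_quot_baseChange (S : Submonoid B₀) [IsLocalization S B] (t : B₀)
    (h : Module.Flat A (B₀ ⧸ Ideal.span {t})) :
    Module.Flat A (B ⧸ Ideal.span {algebraMap B₀ B t}) := by
  have h1 : Module.Flat A (B ⊗[B₀] (B₀ ⧸ Ideal.span {t})) :=
    flat_of_isLocalizedModule' S (TensorProduct.mk B₀ B (B₀ ⧸ Ideal.span {t}) 1)
  have hJ : ((Ideal.span {algebraMap B₀ B t} : Ideal B).restrictScalars B₀ : Submodule B₀ B) =
      (Ideal.span {t} • ⊤ : Submodule B₀ B) := by
    rw [Ideal.smul_top_eq_map, Ideal.map_span, Set.image_singleton]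
  let e : (B ⧸ Ideal.span {algebraMap B₀ B t}) ≃ₗ[B₀] (B ⊗[B₀] (B₀ ⧸ Ideal.span {t})) :=
    ((Submodule.Quotient.restrictScalarsEquiv B₀ (Ideal.span {algebraMap B₀ B t} : Ideal B)).symm.trans
      (Submodule.quotEquivOfEq _ _ hJ)).trans
      (TensorProduct.tensorQuotEquivQuotSMul B (Ideal.span {t})).symm
  exact Module.Flat.of_linearEquiv (e.restrictScalars A)

end Groth.Agent.H22.CartierFlat
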