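import Mathlib

/-!
# Flat + unramified at a prime implies étale at that prime (finitely presented algebras)
-/

open TensorProduct IsLocalRing Algebra

namespace Groth.Agent.H22.EtaleFlat
universe u

set_option backward.isDefEq.respectTransparency false in
/-- Flat at `q` and unramified at `q` imply smooth at `q`. -/
lemma isSmoothAt_of_flat_of_isUnramifiedAt {R S : Type u} [CommRing R] [CommRing S] [Algebra R S]
    [Algebra.FinitePresentation R S] (p : Ideal R) (q : Ideal S)
    [p.IsPrime] [q.IsPrime] [q.LiesOver p] [Module.Flat R (Localization.AtPrime q)]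
    [Algebra.IsUnramifiedAt R q] :
    Algebra.IsSmoothAt R q := by
  let Rp := Localization.AtPrime p
  let Sp := Localization (algebraMapSubmonoid S p.primeCompl)
  let Sq := Localization.AtPrime q
  let := Localization.AtPrime.algebraOfLiesOver p q
  let f : Sp →ₐ[S] Sq := IsLocalization.liftAlgHom (M := algebraMapSubmonoid S p.primeCompl)
        (f := Algebra.ofId _ _) (by
      rintro ⟨_, x, hx, rfl⟩
      simpa using! IsLocalization.map_units (M := q.primeCompl) Sq ⟨algebraMap _ _ x,
        by simp_all [q.over_def p]⟩)
  algebraize [f.toRingHom]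
  have : IsScalarTower R Sp Sq := .to₁₃₄ _ S _ _
  have : IsScalarTower Rp Sp Sq := .of_algebraMap_eq' <| by
    apply IsLocalization.ringHom_ext p.primeCompl
    simp only [RingHom.comp_assoc, ← IsScalarTower.algebraMap_eq]
  have : IsLocalization (algebraMapSubmonoid Sp q.primeCompl) Sq :=
    .isLocalization_of_submonoid_le _ _ (algebraMapSubmonoid S p.primeCompl) _
    (by rintro _ ⟨x, hx, rfl⟩; simp_all [q.over_def p])
  have : FinitePresentation Rp Sp := by
    have : Algebra.IsPushout R Rp S Sp :=
      .symm <| Algebra.isPushout_of_isLocalization p.primeCompl _ _ _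
    exact .equiv (Algebra.IsPushout.equiv R Rp S Sp)
  have : FormallyUnramified Rp Sq := .of_restrictScalars R _ _
  have : EssFiniteType Rp Sq := .of_comp R _ _
  have : FormallySmooth (ResidueField Rp) (ResidueField Rp ⊗[Rp] Sq) := by
    have : FormallyEtale (ResidueField Rp) (ResidueField Rp ⊗[Rp] Sq) :=
      FormallyEtale.of_formallyUnramified_of_field _ _
    infer_instance
  have : Module.Flat Rp Sq := by
    rw [Module.flat_iff_of_isLocalization Rp p.primeCompl]
    infer_instance
  have := FormallySmooth.of_formallySmooth_residueField_tensor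
    (R := Rp) (S := Sq) (P := Sp) (algebraMapSubmonoid _ q.primeCompl)
  exact .comp R Rp Sq

end Groth.Agent.H22.EtaleFlat
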