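import Mathlib

universe u

open CategoryTheory CategoryTheory.Limits AlgebraicGeometry

namespace Groth.Agent.H22.UnramStalk

/-- From ring-level unramifiedness at a prime to an open neighbourhood on which the morphism is
formally unramified. -/
theorem exists_open_of_isUnramifiedAt {X Y : Scheme.{u}} (f : X ⟶ Y) [LocallyOfFiniteType f]
    {U₀ : Y.Opens} (hU₀ : IsAffineOpen U₀) {V : X.Opens} (hV : IsAffineOpen V)
    (e : V ≤ f ⁻¹ᵁ U₀) (x : X) (hxV : x ∈ V)
    (H : letI := (f.appLE U₀ V e).hom.toAlgebra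
      Algebra.IsUnramifiedAt Γ(Y, U₀) (hV.primeIdealOf ⟨x, hxV⟩).asIdeal) :
    ∃ U : X.Opens, x ∈ U ∧ FormallyUnramified (U.ι ≫ f) := by
  have hft := f.finiteType_appLE hU₀ hV e
  algebraize [(f.appLE U₀ V e).hom]
  let q : PrimeSpectrum Γ(X, V) := hV.primeIdealOf ⟨x, hxV⟩
  have hq : hV.fromSpec q = x := hV.fromSpec_primeIdealOf ⟨x, hxV⟩
  haveI : Algebra.IsUnramifiedAt Γ(Y, U₀) q.asIdeal := H
  obtain ⟨s, hsq, hs⟩ :=
    Algebra.exists_formallyUnramified_of_isUnramifiedAt (R := Γ(Y, U₀)) q.asIdeal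
  let jS : Spec (.of (Localization.Away s)) ⟶ X :=
    Spec.map (CommRingCat.ofHom (algebraMap Γ(X, V) (Localization.Away s))) ≫ hV.fromSpec
  haveI : IsOpenImmersion jS := inferInstance
  have hjf : jS ≫ f = Spec.map (CommRingCat.ofHom (algebraMap Γ(Y, U₀) (Localization.Away s))) ≫
      hU₀.fromSpec := by
    simp only [jS, Category.assoc]
    rw [← hU₀.SpecMap_appLE_fromSpec f hV e, ← Spec.map_comp_assoc]
    congr 2
  refine ⟨jS.opensRange, ?_, ?_⟩
  · obtain ⟨q', hq'⟩ : ∃ q' : Spec (.of (Localization.Away s)),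
        Spec.map (CommRingCat.ofHom (algebraMap Γ(X, V) (Localization.Away s))) q' = q := by
      have hr := PrimeSpectrum.localization_away_comap_range (Localization.Away s) s
      have hqs : q ∈ (PrimeSpectrum.basicOpen s : Set (PrimeSpectrum Γ(X, V))) := hsq
      rw [← hr] at hqs
      obtain ⟨q', hq'⟩ := hqs
      exact ⟨q', hq'⟩
    refine ⟨q', ?_⟩
    simp only [jS, Scheme.Hom.comp_apply]
    rw [hq', hq]
  · have h1 : jS.opensRange.ι ≫ f = jS.isoOpensRange.inv ≫ jS ≫ f := by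
      rw [← Category.assoc, Scheme.Hom.isoOpensRange_inv_comp]
    rw [h1, hjf]
    haveI : FormallyUnramified
        (Spec.map (CommRingCat.ofHom (algebraMap Γ(Y, U₀) (Localization.Away s)))) := by
      rw [HasRingHomProperty.Spec_iff (P := @FormallyUnramified)]
      exact RingHom.formallyUnramified_algebraMap.mpr hs
    exact MorphismProperty.comp_mem (W := @FormallyUnramified) _ _ inferInstance
      (MorphismProperty.comp_mem (W := @FormallyUnramified) _ _ inferInstance inferInstance)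

/-- If the stalk map at `x` is formally unramified then the ring map on affine opens is
unramified at the prime of `x`. -/
theorem isUnramifiedAt_of_stalkMap {X Y : Scheme.{u}} (f : X ⟶ Y)
    {U₀ : Y.Opens} (hU₀ : IsAffineOpen U₀) {V : X.Opens} (hV : IsAffineOpen V)
    (e : V ≤ f ⁻¹ᵁ U₀) (x : X) (hxV : x ∈ V)
    (H : (f.stalkMap x).hom.FormallyUnramified) :
    letI := (f.appLE U₀ V e).hom.toAlgebra
    Algebra.IsUnramifiedAt Γ(Y, U₀) (hV.primeIdealOf ⟨x, hxV⟩).asIdeal := by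
  letI algAB : Algebra Γ(Y, U₀) Γ(X, V) := (f.appLE U₀ V e).hom.toAlgebra
  have hyU₀ : f x ∈ U₀ := e hxV
  letI algBBx : Algebra Γ(X, V) (X.presheaf.stalk x) :=
    TopCat.Presheaf.algebra_section_stalk X.presheaf ⟨x, hxV⟩
  letI algAAy : Algebra Γ(Y, U₀) (Y.presheaf.stalk (f x)) :=
    TopCat.Presheaf.algebra_section_stalk Y.presheaf ⟨f x, hyU₀⟩
  letI algAyBx : Algebra (Y.presheaf.stalk (f x)) (X.presheaf.stalk x) :=
    (f.stalkMap x).hom.toAlgebra
  letI algABx : Algebra Γ(Y, U₀) (X.presheaf.stalk x) :=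
    ((algebraMap Γ(X, V) (X.presheaf.stalk x)).comp (algebraMap Γ(Y, U₀) Γ(X, V))).toAlgebra
  haveI : IsScalarTower Γ(Y, U₀) Γ(X, V) (X.presheaf.stalk x) :=
    IsScalarTower.of_algebraMap_eq (fun _ => rfl)
  haveI : IsScalarTower Γ(Y, U₀) (Y.presheaf.stalk (f x)) (X.presheaf.stalk x) := by
    refine IsScalarTower.of_algebraMap_eq (fun a => ?_)
    change (X.presheaf.germ V x hxV).hom ((f.appLE U₀ V e).hom a) =
      (f.stalkMap x).hom ((Y.presheaf.germ U₀ (f x) hyU₀).hom a)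
    have h1 := Scheme.Hom.germ_stalkMap_apply f U₀ x hyU₀ a
    rw [Scheme.Hom.appLE]
    erw [h1]
    simp only [CommRingCat.hom_comp, RingHom.comp_apply]
    exact (TopCat.Presheaf.germ_res_apply X.presheaf (homOfLE e) x hxV _)
  haveI hlocB : IsLocalization.AtPrime (X.presheaf.stalk x) (hV.primeIdealOf ⟨x, hxV⟩).asIdeal :=
    hV.isLocalization_stalk ⟨x, hxV⟩
  haveI hlocA : IsLocalization.AtPrime (Y.presheaf.stalk (f x))
      (hU₀.primeIdealOf ⟨f x, hyU₀⟩).asIdeal :=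
    hU₀.isLocalization_stalk ⟨f x, hyU₀⟩
  haveI : Algebra.FormallyUnramified Γ(Y, U₀) (Y.presheaf.stalk (f x)) :=
    Algebra.FormallyUnramified.of_isLocalization (hU₀.primeIdealOf ⟨f x, hyU₀⟩).asIdeal.primeCompl
  haveI : Algebra.FormallyUnramified (Y.presheaf.stalk (f x)) (X.presheaf.stalk x) := H
  haveI : Algebra.FormallyUnramified Γ(Y, U₀) (X.presheaf.stalk x) :=
    Algebra.FormallyUnramified.comp _ (Y.presheaf.stalk (f x)) _
  let eB : X.presheaf.stalk x ≃ₐ[Γ(X, V)]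
      Localization.AtPrime (hV.primeIdealOf ⟨x, hxV⟩).asIdeal :=
    IsLocalization.algEquiv (hV.primeIdealOf ⟨x, hxV⟩).asIdeal.primeCompl _ _
  change Algebra.FormallyUnramified Γ(Y, U₀) (Localization.AtPrime _)
  exact Algebra.FormallyUnramified.of_equiv (eB.restrictScalars Γ(Y, U₀))


/-- `f` is formally unramified near `x` iff the stalk map at `x` is formally unramified. -/
theorem exists_nbhd_iff_stalkMap {X Y : Scheme.{u}} (f : X ⟶ Y) [LocallyOfFiniteType f] (x : X) :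
    (∃ U : X.Opens, x ∈ U ∧ FormallyUnramified (U.ι ≫ f)) ↔
      (f.stalkMap x).hom.FormallyUnramified := by
  constructor
  · rintro ⟨U, hxU, hU⟩
    have h1 := FormallyUnramified.stalkMap (U.ι ≫ f) ⟨x, hxU⟩
    rw [Scheme.Hom.stalkMap_comp] at h1
    have hiso : IsIso (U.ι.stalkMap ⟨x, hxU⟩) := inferInstance
    have h2 : (f.stalkMap (U.ι ⟨x, hxU⟩)).hom =
        (inv (U.ι.stalkMap ⟨x, hxU⟩)).hom.comp
          ((f.stalkMap (U.ι ⟨x, hxU⟩)) ≫ (U.ι.stalkMap ⟨x, hxU⟩)).hom := by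
      rw [← CommRingCat.hom_comp, Category.assoc, IsIso.hom_inv_id, Category.comp_id]
    change (f.stalkMap (U.ι ⟨x, hxU⟩)).hom.FormallyUnramified
    rw [h2]
    refine RingHom.FormallyUnramified.comp h1 (RingHom.FormallyUnramified.of_surjective ?_)
    exact (ConcreteCategory.bijective_of_isIso (inv (U.ι.stalkMap ⟨x, hxU⟩))).2
  · intro H
    obtain ⟨_, ⟨U₀, hU₀, rfl⟩, hxU₀, -⟩ :=
      Y.isBasis_affineOpens.exists_subset_of_mem_open (Set.mem_univ (f x)) isOpen_univ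
    obtain ⟨_, ⟨V, hV, rfl⟩, hxV, e : V ≤ f ⁻¹ᵁ U₀⟩ :=
      X.isBasis_affineOpens.exists_subset_of_mem_open hxU₀ (f ⁻¹ᵁ U₀).isOpen
    exact exists_open_of_isUnramifiedAt f hU₀ hV e x hxV
      (isUnramifiedAt_of_stalkMap f hU₀ hV e x hxV H)

end Groth.Agent.H22.UnramStalk
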