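import Mathlib
import Groth.Agent.Lib.helper22.EtaleFlat
import Groth.Agent.Lib.helper22.UnramStalk

/-!
# Étale on a neighbourhood iff flat and unramified at the point (stalk-wise)
-/

open CategoryTheory CategoryTheory.Limits AlgebraicGeometry

namespace Groth.Agent.H22.EtaleFlat
universe u

/-- Flatness of a stalk map in affine charts. -/
theorem flat_stalkMap_iff {X Y : Scheme.{u}} (f : X ⟶ Y) {V : Y.Opens} (hV : IsAffineOpen V)
    {U : X.Opens} (hU : IsAffineOpen U) (hUV : U ≤ f ⁻¹ᵁ V) (x : X) (hx : x ∈ U) :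
    letI := (f.appLE V U hUV).hom.toAlgebra
    (f.stalkMap x).hom.Flat ↔
      Module.Flat Γ(Y, V) (Localization.AtPrime (hU.primeIdealOf ⟨x, hx⟩).asIdeal) := by
  letI := (f.appLE V U hUV).hom.toAlgebra
  have hpq : (hV.primeIdealOf ⟨f x, hUV hx⟩).asIdeal =
      Ideal.comap (f.appLE V U hUV).hom (hU.primeIdealOf ⟨x, hx⟩).asIdeal :=
    congr($(IsAffineOpen.comap_primeIdealOf_appLE V hV U hU hUV hx).1).symm
  haveI : (hU.primeIdealOf ⟨x, hx⟩).asIdeal.LiesOver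
      (hV.primeIdealOf ⟨f x, hUV hx⟩).asIdeal := ⟨hpq⟩
  letI := Localization.AtPrime.algebraOfLiesOver (hV.primeIdealOf ⟨f x, hUV hx⟩).asIdeal
      (hU.primeIdealOf ⟨x, hx⟩).asIdeal
  rw [RingHom.Flat.respectsIso.arrow_mk_iso_iff
      (IsAffineOpen.arrowStalkMapIso f V hV U hU hUV hx)]
  exact Module.flat_iff_of_isLocalization
    (Localization.AtPrime (hV.primeIdealOf ⟨f x, hUV hx⟩).asIdeal)
    (hV.primeIdealOf ⟨f x, hUV hx⟩).asIdeal.primeCompl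
    (Localization.AtPrime (hU.primeIdealOf ⟨x, hx⟩).asIdeal)

theorem flat_stalkMap_of_flat_ι {X S : Scheme.{u}} (f : X ⟶ S) (U : X.Opens) (x : X) (hx : x ∈ U)
    [Flat (U.ι ≫ f)] : (f.stalkMap x).hom.Flat := by
  have h1 : ((U.ι ≫ f).stalkMap ⟨x, hx⟩).hom.Flat :=
    (Flat.iff_flat_stalkMap (f := U.ι ≫ f)).mp inferInstance ⟨x, hx⟩
  rw [Scheme.Hom.stalkMap_comp] at h1
  have h2 : (f.stalkMap (U.ι ⟨x, hx⟩)).hom =
      (inv (U.ι.stalkMap ⟨x, hx⟩)).hom.comp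
        ((f.stalkMap (U.ι ⟨x, hx⟩)) ≫ (U.ι.stalkMap ⟨x, hx⟩)).hom := by
    rw [← CommRingCat.hom_comp, Category.assoc, IsIso.hom_inv_id, Category.comp_id]
  change (f.stalkMap (U.ι ⟨x, hx⟩)).hom.Flat
  rw [h2]
  refine RingHom.Flat.comp h1 (RingHom.Flat.of_bijective ?_)
  exact ConcreteCategory.bijective_of_isIso (inv (U.ι.stalkMap ⟨x, hx⟩))

/-- Flat and unramified at `x` (on stalks) imply smooth at `x`. -/
theorem mem_smoothLocus_of_flat_of_unramified {X Y : Scheme.{u}} (f : X ⟶ Y)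
    [LocallyOfFinitePresentation f] (x : X) (hfl : (f.stalkMap x).hom.Flat)
    (hun : (f.stalkMap x).hom.FormallyUnramified) : x ∈ f.smoothLocus := by
  obtain ⟨_, ⟨V, hV, rfl⟩, hxV, -⟩ :=
    Y.isBasis_affineOpens.exists_subset_of_mem_open (Set.mem_univ (f x)) isOpen_univ
  obtain ⟨_, ⟨U, hU, rfl⟩, hxU, hUV : U ≤ f ⁻¹ᵁ V⟩ :=
    X.isBasis_affineOpens.exists_subset_of_mem_open hxV (f ⁻¹ᵁ V).isOpen
  rw [Scheme.Hom.mem_smoothLocus, formallySmooth_stalkMap_iff V hV U hU hUV hxU]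
  letI := (f.appLE V U hUV).hom.toAlgebra
  haveI : Algebra.FinitePresentation Γ(Y, V) Γ(X, U) :=
    HasRingHomProperty.appLE @LocallyOfFinitePresentation f inferInstance ⟨V, hV⟩ ⟨U, hU⟩ hUV
  have hpq : (hV.primeIdealOf ⟨f x, hUV hxU⟩).asIdeal =
      Ideal.comap (f.appLE V U hUV).hom (hU.primeIdealOf ⟨x, hxU⟩).asIdeal :=
    congr($(IsAffineOpen.comap_primeIdealOf_appLE V hV U hU hUV hxU).1).symm
  haveI : (hU.primeIdealOf ⟨x, hxU⟩).asIdeal.LiesOver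
      (hV.primeIdealOf ⟨f x, hUV hxU⟩).asIdeal := ⟨hpq⟩
  haveI : Module.Flat Γ(Y, V) (Localization.AtPrime (hU.primeIdealOf ⟨x, hxU⟩).asIdeal) :=
    (flat_stalkMap_iff f hV hU hUV x hxU).mp hfl
  haveI : Algebra.IsUnramifiedAt Γ(Y, V) (hU.primeIdealOf ⟨x, hxU⟩).asIdeal :=
    Groth.Agent.H22.UnramStalk.isUnramifiedAt_of_stalkMap f hV hU hUV x hxU hun
  exact isSmoothAt_of_flat_of_isUnramifiedAt (hV.primeIdealOf ⟨f x, hUV hxU⟩).asIdeal
    (hU.primeIdealOf ⟨x, hxU⟩).asIdeal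

theorem smooth_smoothLocus_ι {X Y : Scheme.{u}} (f : X ⟶ Y) [LocallyOfFinitePresentation f] :
    Smooth (f.smoothLocus.ι ≫ f) := by
  rw [← Scheme.Hom.smoothLocus_eq_top_iff, ← Scheme.Hom.preimage_smoothLocus_eq]
  exact top_le_iff.mp fun x _ => x.2

theorem etale_of_smooth_of_unramified {X Y : Scheme.{u}} (f : X ⟶ Y)
    [LocallyOfFinitePresentation f] (U₁ U₂ : X.Opens) [Smooth (U₁.ι ≫ f)]
    [FormallyUnramified (U₂.ι ≫ f)] : Etale ((U₁ ⊓ U₂).ι ≫ f) := by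
  have h1 : (U₁ ⊓ U₂).ι ≫ f = X.homOfLE (inf_le_left : U₁ ⊓ U₂ ≤ U₁) ≫ U₁.ι ≫ f := by
    rw [← Category.assoc, Scheme.homOfLE_ι]
  have h2 : (U₁ ⊓ U₂).ι ≫ f = X.homOfLE (inf_le_right : U₁ ⊓ U₂ ≤ U₂) ≫ U₂.ι ≫ f := by
    rw [← Category.assoc, Scheme.homOfLE_ι]
  haveI : Flat ((U₁ ⊓ U₂).ι ≫ f) := by
    rw [h1]; infer_instance
  haveI : FormallyUnramified ((U₁ ⊓ U₂).ι ≫ f) := by
    rw [h2]
    exact MorphismProperty.comp_mem (W := @FormallyUnramified) _ _ inferInstance inferInstance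
  exact Etale.of_formallyUnramified_of_flat _

/-- `f` (locally of finite presentation) is étale on a neighbourhood of `x` iff the stalk map at
`x` is flat and formally unramified. -/
theorem exists_etale_nbhd_iff {X Y : Scheme.{u}} (f : X ⟶ Y) [LocallyOfFinitePresentation f]
    (x : X) :
    (∃ U : X.Opens, x ∈ U ∧ Etale (U.ι ≫ f)) ↔
      (f.stalkMap x).hom.Flat ∧ (f.stalkMap x).hom.FormallyUnramified := by
  constructor
  · rintro ⟨U, hxU, hU⟩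
    exact ⟨flat_stalkMap_of_flat_ι f U x hxU,
      (Groth.Agent.H22.UnramStalk.exists_nbhd_iff_stalkMap f x).mp ⟨U, hxU, inferInstance⟩⟩
  · rintro ⟨hfl, hun⟩
    obtain ⟨U₂, hxU₂, hU₂⟩ := (Groth.Agent.H22.UnramStalk.exists_nbhd_iff_stalkMap f x).mpr hun
    haveI := smooth_smoothLocus_ι f
    exact ⟨f.smoothLocus ⊓ U₂, ⟨mem_smoothLocus_of_flat_of_unramified f x hfl hun, hxU₂⟩,
      etale_of_smooth_of_unramified f f.smoothLocus U₂⟩

end Groth.Agent.H22.EtaleFlat
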