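import Mathlib
import Groth.Agent.Lib.helper22.CartierFlat
import Groth.Agent.Lib.helper22.EtaleFlatSch
open TensorProduct CategoryTheory AlgebraicGeometry

namespace Groth.Agent.H22.CartierFlat

universe u v
section ring
variable {A : Type u} {B : Type v} [CommRing A] [CommRing B] [Algebra A B]

theorem flat_quot_of_surjective' {C : Type*} [CommRing C] (ψ : B →+* C)
    (hψ : Function.Surjective ψ) (I : Ideal B) (hker : RingHom.ker ψ = I)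
    (hfl : (ψ.comp (algebraMap A B)).Flat) : Module.Flat A (B ⧸ I) := by
  letI : Algebra A C := (ψ.comp (algebraMap A B)).toAlgebra
  have hfl' : Module.Flat A C := hfl
  let ψ' : B →ₐ[A] C := { ψ with commutes' := fun a => rfl }
  have hψ' : Function.Surjective ψ' := hψ
  have hk : RingHom.ker ψ' = I := hker
  let e : (B ⧸ I) ≃ₐ[A] C :=
    (Ideal.quotientEquivAlgOfEq A hk.symm).trans (Ideal.quotientKerAlgEquivOfSurjective hψ')
  exact Module.Flat.of_linearEquiv e.toLinearEquiv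

theorem flat_comp_of_flat_quot {C : Type*} [CommRing C] (ψ : B →+* C)
    (hψ : Function.Surjective ψ) (I : Ideal B) (hker : RingHom.ker ψ = I)
    (hfl : Module.Flat A (B ⧸ I)) : (ψ.comp (algebraMap A B)).Flat := by
  letI : Algebra A C := (ψ.comp (algebraMap A B)).toAlgebra
  change Module.Flat A C
  let ψ' : B →ₐ[A] C := { ψ with commutes' := fun a => rfl }
  have hψ' : Function.Surjective ψ' := hψ
  have hk : RingHom.ker ψ' = I := hker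
  let e : (B ⧸ I) ≃ₐ[A] C :=
    (Ideal.quotientEquivAlgOfEq A hk.symm).trans (Ideal.quotientKerAlgEquivOfSurjective hψ')
  exact Module.Flat.of_linearEquiv e.symm.toLinearEquiv

end ring

section scheme
variable {X S : Scheme.{u}} (f : X ⟶ S) (𝓘 : X.IdealSheafData)

theorem comp_appLE_eq {V : S.Opens} (U : X.Opens) (hUV : U ≤ f ⁻¹ᵁ V)
    (hle : 𝓘.subschemeι ⁻¹ᵁ U ≤ (𝓘.subschemeι ≫ f) ⁻¹ᵁ V) :
    f.appLE V U hUV ≫ 𝓘.subschemeι.app U =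
      (𝓘.subschemeι ≫ f).appLE V (𝓘.subschemeι ⁻¹ᵁ U) hle := by
  rw [Scheme.Hom.app_eq_appLE, Scheme.Hom.appLE_comp_appLE]

theorem flat_quot_of_flat_subscheme (h : Flat (𝓘.subschemeι ≫ f)) {V : S.Opens}
    (hV : IsAffineOpen V) (U : X.affineOpens) (hUV : U.1 ≤ f ⁻¹ᵁ V) :
    letI := (f.appLE V U.1 hUV).hom.toAlgebra
    Module.Flat Γ(S, V) (Γ(X, U.1) ⧸ 𝓘.ideal U) := by
  letI := (f.appLE V U.1 hUV).hom.toAlgebra
  have haff : IsAffineOpen (𝓘.subschemeι ⁻¹ᵁ U.1) := U.2.preimage 𝓘.subschemeι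
  have hle : 𝓘.subschemeι ⁻¹ᵁ U.1 ≤ (𝓘.subschemeι ≫ f) ⁻¹ᵁ V := fun z hz => hUV hz
  have h1 := HasRingHomProperty.appLE @Flat (𝓘.subschemeι ≫ f) h ⟨V, hV⟩
    ⟨𝓘.subschemeι ⁻¹ᵁ U.1, haff⟩ hle
  refine flat_quot_of_surjective' (𝓘.subschemeι.app U.1).hom
    (𝓘.subschemeι_app_surjective U) _ (𝓘.ker_subschemeι_app U) ?_
  change (f.appLE V U.1 hUV ≫ 𝓘.subschemeι.app U.1).hom.Flat
  rw [comp_appLE_eq f 𝓘 U.1 hUV hle]
  exact h1

theorem flat_subscheme_of_flat_quot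
    (H : ∀ x ∈ 𝓘.support, ∃ (V : S.Opens) (_ : IsAffineOpen V) (U : X.affineOpens)
      (hUV : U.1 ≤ f ⁻¹ᵁ V), x ∈ U.1 ∧
      (letI := (f.appLE V U.1 hUV).hom.toAlgebra
       Module.Flat Γ(S, V) (Γ(X, U.1) ⧸ 𝓘.ideal U))) :
    Flat (𝓘.subschemeι ≫ f) := by
  rw [Flat.iff_flat_stalkMap]
  intro d
  have hd : 𝓘.subschemeι d ∈ 𝓘.support := by
    rw [← SetLike.mem_coe, ← 𝓘.range_subschemeι]; exact Set.mem_range_self d
  obtain ⟨V, hV, U, hUV, hxU, hfl⟩ := H _ hd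
  letI := (f.appLE V U.1 hUV).hom.toAlgebra
  have haff : IsAffineOpen (𝓘.subschemeι ⁻¹ᵁ U.1) := U.2.preimage 𝓘.subschemeι
  have hle : 𝓘.subschemeι ⁻¹ᵁ U.1 ≤ (𝓘.subschemeι ≫ f) ⁻¹ᵁ V := fun z hz => hUV hz
  have hdU : d ∈ 𝓘.subschemeι ⁻¹ᵁ U.1 := hxU
  rw [Groth.Agent.H22.EtaleFlat.flat_stalkMap_iff (𝓘.subschemeι ≫ f) hV haff hle d hdU]
  letI := ((𝓘.subschemeι ≫ f).appLE V (𝓘.subschemeι ⁻¹ᵁ U.1) hle).hom.toAlgebra
  suffices hfl2 : Module.Flat Γ(S, V) Γ(𝓘.subscheme, 𝓘.subschemeι ⁻¹ᵁ U.1) from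
    Module.Flat.trans Γ(S, V) Γ(𝓘.subscheme, 𝓘.subschemeι ⁻¹ᵁ U.1) _
  have h2 := flat_comp_of_flat_quot (A := Γ(S, V)) (𝓘.subschemeι.app U.1).hom
    (𝓘.subschemeι_app_surjective U) _ (𝓘.ker_subschemeι_app U) hfl
  change (f.appLE V U.1 hUV ≫ 𝓘.subschemeι.app U.1).hom.Flat at h2
  rw [comp_appLE_eq f 𝓘 U.1 hUV hle] at h2
  exact h2

end scheme

end Groth.Agent.H22.CartierFlat
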