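import Mathlib

/-!
# The Cauchy–Binet formula (helper22)

`det (A * B) = ∑_{S ⊆ n, |S| = |m|} det A_S * det B_S` for `A : Matrix m n R`, `B : Matrix n m R`,
where the square submatrices are formed along a chosen bijection `m ≃ S`.
-/

set_option autoImplicit false

namespace Groth.Agent.H22.CB

open Matrix Finset Equiv

variable {m n R : Type*} [Fintype m] [DecidableEq m] [Fintype n] [DecidableEq n] [CommRing R]

/-- Step 1: expansion over all functions `m → n`. -/
theorem det_mul_eq_sum_fun (A : Matrix m n R) (B : Matrix n m R) :
    (A * B).det = ∑ f : m → n, (∏ i, B (f i) i) * (A.submatrix id f).det := by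
  rw [det_apply']
  simp_rw [mul_apply, Finset.prod_univ_sum, Fintype.piFinset_univ, Finset.mul_sum]
  rw [Finset.sum_comm]
  refine Finset.sum_congr rfl fun f _ => ?_
  rw [det_apply', Finset.mul_sum]
  refine Finset.sum_congr rfl fun σ _ => ?_
  simp only [submatrix_apply, id_eq, Finset.prod_mul_distrib]
  ring

theorem det_submatrix_eq_zero_of_not_injective (A : Matrix m n R) (f : m → n)
    (hf : ¬ Function.Injective f) : (A.submatrix id f).det = 0 := by
  unfold Function.Injective at hf
  push_neg at hf
  obtain ⟨i, j, hij, hne⟩ := hf
  exact det_zero_of_column_eq hne fun k => by simp [hij]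

/-- a chosen enumeration of a finset of the right cardinality -/
noncomputable def enum (S : Finset n) (h : S.card = Fintype.card m) : m ≃ S :=
  Fintype.equivOfCardEq (by simp [h])

/-- the summand of the Cauchy–Binet formula -/
noncomputable def cbTerm (A : Matrix m n R) (B : Matrix n m R) (S : Finset n) : R :=
  if h : S.card = Fintype.card m then
    (A.submatrix id (fun i => (enum S h i : n))).det * (B.submatrix (fun i => (enum S h i : n)) id).det
  else 0

theorem sum_fiber (A : Matrix m n R) (B : Matrix n m R) (S : Finset n)
    (h : S.card = Fintype.card m) (e : m ≃ S) :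
    ∑ f ∈ (Finset.univ.filter fun f : m → n => Function.Injective f) with
        Finset.univ.image f = S, (∏ i, B (f i) i) * (A.submatrix id f).det =
      (A.submatrix id (fun i => (e i : n))).det * (B.submatrix (fun i => (e i : n)) id).det := by
  classical
  have key : ∑ τ : Perm m, (∏ i, B ((e (τ i) : n)) i) *
      (A.submatrix id (fun i => (e (τ i) : n))).det =
      ∑ f ∈ (Finset.univ.filter fun f : m → n => Function.Injective f) with
        Finset.univ.image f = S, (∏ i, B (f i) i) * (A.submatrix id f).det := by
    refine Finset.sum_bij (fun τ _ => fun i => (e (τ i) : n)) ?_ ?_ ?_ ?_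
    · intro τ _
      simp only [Finset.mem_filter, Finset.mem_univ, true_and]
      constructor
      · intro i j hij
        exact τ.injective (e.injective (Subtype.ext hij))
      · ext x
        simp only [Finset.mem_image, Finset.mem_univ, true_and]
        constructor
        · rintro ⟨i, rfl⟩; exact (e (τ i)).2
        · intro hx
          refine ⟨τ.symm (e.symm ⟨x, hx⟩), ?_⟩
          simp
    · intro τ _ τ' _ hττ'
      ext i
      have := congrFun hττ' i
      exact e.injective (Subtype.ext this)
    · intro f hf
      simp only [Finset.mem_filter, Finset.mem_univ, true_and] at hf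
      obtain ⟨hinj, him⟩ := hf
      have hmem : ∀ i, f i ∈ S := fun i => by
        rw [← him]; exact Finset.mem_image_of_mem _ (Finset.mem_univ _)
      let g : m → m := fun i => e.symm ⟨f i, hmem i⟩
      have hg : Function.Injective g := by
        intro i j hij
        have := e.symm.injective hij
        exact hinj (Subtype.ext_iff.mp this)
      refine ⟨Equiv.ofBijective g (Finite.injective_iff_bijective.mp hg), Finset.mem_univ _, ?_⟩
      funext i
      simp [g]
    · intro τ _
      rfl
  rw [← key]
  have h1 : ∀ τ : Perm m, (A.submatrix id (fun i => (e (τ i) : n))).det =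
      Perm.sign τ * (A.submatrix id (fun i => (e i : n))).det := by
    intro τ
    rw [← det_permute' τ]
    rfl
  simp_rw [h1]
  rw [det_apply' (B.submatrix (fun i => (e i : n)) id), Finset.mul_sum]
  refine Finset.sum_congr rfl fun τ _ => ?_
  simp only [submatrix_apply, id_eq]
  ring

/-- **Cauchy–Binet**. -/
theorem det_mul_eq_sum (A : Matrix m n R) (B : Matrix n m R) :
    (A * B).det = ∑ S ∈ Finset.powersetCard (Fintype.card m) (Finset.univ : Finset n),
      cbTerm A B S := by
  classical
  rw [det_mul_eq_sum_fun]
  have h1 : ∑ f : m → n, (∏ i, B (f i) i) * (A.submatrix id f).det =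
      ∑ f ∈ (Finset.univ.filter fun f : m → n => Function.Injective f),
        (∏ i, B (f i) i) * (A.submatrix id f).det := by
    symm
    apply Finset.sum_subset (Finset.subset_univ _)
    intro f _ hf
    simp only [Finset.mem_filter, Finset.mem_univ, true_and] at hf
    rw [det_submatrix_eq_zero_of_not_injective A f hf, mul_zero]
  rw [h1]
  rw [← Finset.sum_fiberwise_of_maps_to (g := fun f : m → n => Finset.univ.image f)
    (t := Finset.powersetCard (Fintype.card m) (Finset.univ : Finset n))]
  · refine Finset.sum_congr rfl fun S hS => ?_
    have hcard : S.card = Fintype.card m := (Finset.mem_powersetCard.mp hS).2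
    rw [sum_fiber A B S hcard (enum S hcard)]
    unfold cbTerm
    rw [dif_pos hcard]
  · intro f hf
    simp only [Finset.mem_filter, Finset.mem_univ, true_and] at hf
    rw [Finset.mem_powersetCard]
    exact ⟨Finset.subset_univ _, by rw [Finset.card_image_of_injective _ hf]; rfl⟩

end Groth.Agent.H22.CB
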