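import Mathlib
universe u

namespace Groth.Agent.H22.NilFT

/-- Finite type lifts along quotients by (extensions of) nilpotent ideals of the base. -/
theorem finiteType_of_quotient_map {R S : Type u} [CommRing R] [CommRing S] [Algebra R S]
    (I : Ideal R) (n : ℕ) (hn : I ^ n = ⊥)
    [Algebra.FiniteType R (S ⧸ I.map (algebraMap R S))] :
    Algebra.FiniteType R S := by
  set K := I.map (algebraMap R S) with hK
  obtain ⟨s, hs⟩ := (Algebra.FiniteType.out : (⊤ : Subalgebra R (S ⧸ K)).FG)
  classical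
  choose! lift hlift using fun q : S ⧸ K => Ideal.Quotient.mk_surjective q
  let t : Finset S := s.image lift
  let C : Subalgebra R S := Algebra.adjoin R (t : Set S)
  have hCmap : C.map (Ideal.Quotient.mkₐ R K) = ⊤ := by
    rw [AlgHom.map_adjoin, ← hs]
    congr 1
    ext q
    simp only [Finset.coe_image, Set.mem_image, Finset.mem_coe, t]
    constructor
    · rintro ⟨_, ⟨q', hq', rfl⟩, rfl⟩
      rw [Ideal.Quotient.mkₐ_eq_mk, hlift]
      exact hq'
    · intro hq
      exact ⟨lift q, ⟨q, hq, rfl⟩, by rw [Ideal.Quotient.mkₐ_eq_mk, hlift]⟩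
  -- `S = C + I S`
  have h1 : (⊤ : Submodule R S) ≤ Subalgebra.toSubmodule C ⊔ I • ⊤ := by
    intro b _
    have hb : (Ideal.Quotient.mkₐ R K) b ∈ C.map (Ideal.Quotient.mkₐ R K) := by
      rw [hCmap]; trivial
    obtain ⟨c, hc, hcb⟩ := hb
    have hbc : b - c ∈ K := by
      rw [← Ideal.Quotient.eq_zero_iff_mem, map_sub, sub_eq_zero]
      exact hcb.symm
    have : b = c + (b - c) := by ring
    rw [this]
    refine Submodule.add_mem_sup hc ?_
    rw [Ideal.smul_top_eq_map]
    exact hbc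
  have hIC : ∀ k : ℕ, I ^ k • Subalgebra.toSubmodule C ≤ Subalgebra.toSubmodule C := by
    intro k
    rw [Submodule.smul_le]
    intro r _ c hc
    exact C.smul_mem hc r
  have h2 : ∀ k : ℕ, (⊤ : Submodule R S) ≤ Subalgebra.toSubmodule C ⊔ I ^ k • ⊤ := by
    intro k
    induction k with
    | zero => rw [pow_zero, Ideal.one_eq_top, Submodule.top_smul]; exact le_sup_right
    | succ k ih =>
      calc (⊤ : Submodule R S) ≤ Subalgebra.toSubmodule C ⊔ I ^ k • ⊤ := ih
        _ ≤ Subalgebra.toSubmodule C ⊔ I ^ k • (Subalgebra.toSubmodule C ⊔ I • ⊤) :=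
          sup_le_sup_left (Submodule.smul_mono le_rfl h1) _
        _ = Subalgebra.toSubmodule C ⊔ (I ^ k • Subalgebra.toSubmodule C ⊔ I ^ k • (I • ⊤)) := by
          rw [Submodule.smul_sup]
        _ ≤ Subalgebra.toSubmodule C ⊔ I ^ (k + 1) • ⊤ := by
          rw [← mul_smul, ← pow_succ]
          exact sup_le le_sup_left (sup_le ((hIC k).trans le_sup_left) le_sup_right)
  have h3 := h2 n
  rw [hn, Submodule.bot_smul, sup_bot_eq] at h3
  refine ⟨⟨t, ?_⟩⟩
  apply top_le_iff.mp
  intro b _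
  exact h3 trivial

/-- Finite type lifts along quotients by finitely generated nilpotent ideals of the algebra. -/
theorem finiteType_of_quotient_fg_nilpotent {R S : Type u} [CommRing R] [CommRing S] [Algebra R S]
    (K : Ideal S) (hK : K.FG) (n : ℕ) (hn : K ^ n = ⊥)
    [Algebra.FiniteType R (S ⧸ K)] :
    Algebra.FiniteType R S := by
  obtain ⟨s, hs⟩ := (Algebra.FiniteType.out : (⊤ : Subalgebra R (S ⧸ K)).FG)
  obtain ⟨g, hg⟩ := hK
  classical
  choose! lift hlift using fun q : S ⧸ K => Ideal.Quotient.mk_surjective q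
  let t : Finset S := s.image lift ∪ g
  let C : Subalgebra R S := Algebra.adjoin R (t : Set S)
  have hgC : ∀ k ∈ g, k ∈ C := fun k hk =>
    Algebra.subset_adjoin (by simp only [t, Finset.coe_union, Set.mem_union, Finset.mem_coe]; exact Or.inr hk)
  have hCmap : C.map (Ideal.Quotient.mkₐ R K) = ⊤ := by
    apply top_le_iff.mp
    rw [← hs, AlgHom.map_adjoin]
    apply Algebra.adjoin_mono
    intro q hq
    refine ⟨lift q, ?_, by rw [Ideal.Quotient.mkₐ_eq_mk, hlift]⟩
    simp only [t, Finset.coe_union, Set.mem_union, Finset.mem_coe, Finset.mem_image]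
    exact Or.inl ⟨q, hq, rfl⟩
  -- `S = C + K`
  have h1 : (⊤ : Submodule R S) ≤ Subalgebra.toSubmodule C ⊔ (K ^ 1).restrictScalars R := by
    intro b _
    have hb : (Ideal.Quotient.mkₐ R K) b ∈ C.map (Ideal.Quotient.mkₐ R K) := by
      rw [hCmap]; trivial
    obtain ⟨c, hc, hcb⟩ := hb
    have hbc : b - c ∈ K := by
      rw [← Ideal.Quotient.eq_zero_iff_mem, map_sub, sub_eq_zero]
      exact hcb.symm
    have : b = c + (b - c) := by ring
    rw [this, pow_one]
    exact Submodule.add_mem_sup hc hbc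
  have hstep : ∀ m : ℕ, (⊤ : Submodule R S) ≤ Subalgebra.toSubmodule C ⊔ (K ^ m).restrictScalars R →
      (K ^ 1).restrictScalars R ≤ Subalgebra.toSubmodule C ⊔ (K ^ (m + 1)).restrictScalars R := by
    intro m hm x hx
    rw [pow_one, Submodule.restrictScalars_mem, ← hg] at hx
    obtain ⟨f, -, rfl⟩ := Submodule.mem_span_finset.mp hx
    refine Submodule.sum_mem _ (fun k hk => ?_)
    obtain ⟨c, hc, w, hw, hcw⟩ := Submodule.mem_sup.mp (hm (Submodule.mem_top (x := f k)))
    rw [← hcw, smul_eq_mul, add_mul]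
    refine Submodule.add_mem_sup (C.mul_mem hc (hgC k hk)) ?_
    rw [Submodule.restrictScalars_mem] at hw ⊢
    rw [pow_succ]
    exact Ideal.mul_mem_mul hw (hg ▸ Ideal.subset_span hk)
  have h2 : ∀ m : ℕ, (⊤ : Submodule R S) ≤
      Subalgebra.toSubmodule C ⊔ (K ^ (m + 1)).restrictScalars R := by
    intro m
    induction m with
    | zero => exact h1
    | succ m ih =>
      calc (⊤ : Submodule R S) ≤ Subalgebra.toSubmodule C ⊔ (K ^ 1).restrictScalars R := h1
        _ ≤ Subalgebra.toSubmodule C ⊔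
            (Subalgebra.toSubmodule C ⊔ (K ^ (m + 1 + 1)).restrictScalars R) :=
          sup_le_sup_left (hstep (m + 1) ih) _
        _ = Subalgebra.toSubmodule C ⊔ (K ^ (m + 1 + 1)).restrictScalars R := by
          rw [← sup_assoc, sup_idem]
  have hKn : K ^ (n + 1) = ⊥ := by rw [pow_succ, hn, Ideal.bot_mul]
  have h3 := h2 n
  rw [hKn, Submodule.restrictScalars_bot, sup_bot_eq] at h3
  refine ⟨⟨t, ?_⟩⟩
  apply top_le_iff.mp
  intro b _
  exact h3 trivial

/-- Module-finiteness lifts along quotients by extensions of nilpotent ideals of the base. -/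
theorem finite_of_quotient_map {R S : Type u} [CommRing R] [CommRing S] [Algebra R S]
    (I : Ideal R) (n : ℕ) (hn : I ^ n = ⊥)
    [Module.Finite R (S ⧸ I.map (algebraMap R S))] :
    Module.Finite R S := by
  set K := I.map (algebraMap R S) with hK
  obtain ⟨s, hs⟩ := (Module.Finite.fg_top : (⊤ : Submodule R (S ⧸ K)).FG)
  classical
  choose! lift hlift using fun q : S ⧸ K => Ideal.Quotient.mk_surjective q
  let t : Finset S := s.image lift
  let C : Submodule R S := Submodule.span R (t : Set S)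
  have hCmap : C.map (Ideal.Quotient.mkₐ R K).toLinearMap = ⊤ := by
    rw [Submodule.map_span, ← hs]
    congr 1
    ext q
    simp only [Finset.coe_image, Set.mem_image, Finset.mem_coe, t]
    constructor
    · rintro ⟨_, ⟨q', hq', rfl⟩, rfl⟩
      rw [AlgHom.toLinearMap_apply, Ideal.Quotient.mkₐ_eq_mk, hlift]
      exact hq'
    · intro hq
      exact ⟨lift q, ⟨q, hq, rfl⟩, by rw [AlgHom.toLinearMap_apply, Ideal.Quotient.mkₐ_eq_mk, hlift]⟩
  have h1 : (⊤ : Submodule R S) ≤ C ⊔ I • ⊤ := by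
    intro b _
    have hb : (Ideal.Quotient.mkₐ R K).toLinearMap b ∈ C.map (Ideal.Quotient.mkₐ R K).toLinearMap := by
      rw [hCmap]; trivial
    obtain ⟨c, hc, hcb⟩ := hb
    have hbc : b - c ∈ K := by
      rw [← Ideal.Quotient.eq_zero_iff_mem, map_sub, sub_eq_zero]
      exact hcb.symm
    have : b = c + (b - c) := by ring
    rw [this]
    refine Submodule.add_mem_sup hc ?_
    rw [Ideal.smul_top_eq_map]
    exact hbc
  have hIC : ∀ k : ℕ, I ^ k • C ≤ C := fun k => Submodule.smul_le_right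
  have h2 : ∀ k : ℕ, (⊤ : Submodule R S) ≤ C ⊔ I ^ k • ⊤ := by
    intro k
    induction k with
    | zero => rw [pow_zero, Ideal.one_eq_top, Submodule.top_smul]; exact le_sup_right
    | succ k ih =>
      calc (⊤ : Submodule R S) ≤ C ⊔ I ^ k • ⊤ := ih
        _ ≤ C ⊔ I ^ k • (C ⊔ I • ⊤) :=
          sup_le_sup_left (Submodule.smul_mono le_rfl h1) _
        _ = C ⊔ (I ^ k • C ⊔ I ^ k • (I • ⊤)) := by
          rw [Submodule.smul_sup]
        _ ≤ C ⊔ I ^ (k + 1) • ⊤ := by
          rw [← mul_smul, ← pow_succ]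
          exact sup_le le_sup_left (sup_le ((hIC k).trans le_sup_left) le_sup_right)
  have h3 := h2 n
  rw [hn, Submodule.bot_smul, sup_bot_eq] at h3
  refine ⟨⟨t, ?_⟩⟩
  exact top_le_iff.mp h3

end Groth.Agent.H22.NilFT
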