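import Mathlib
import Groth.Agent.Lib.helper22.NilFT
import Groth.Agent.Lib.helper22.DeformAlg

/-!
# Finite presentation lifts along nilpotent thickenings under a Tor-vanishing hypothesis (helper22)
-/

universe u

open TensorProduct Function

namespace Groth.Agent.H22.DeformFP

section Mod

variable {R M N : Type*} [CommRing R] [AddCommGroup M] [Module R M] [AddCommGroup N] [Module R N]

/-- multiplication map `I ⊗ M → M`. -/
noncomputable def mu (I : Ideal R) (M : Type*) [AddCommGroup M] [Module R M] : I ⊗[R] M →ₗ[R] M :=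
  (TensorProduct.lid R M).toLinearMap ∘ₗ (I.subtype.rTensor M)

@[simp] theorem mu_tmul (I : Ideal R) (i : I) (m : M) : mu I M (i ⊗ₜ m) = (i : R) • m := by
  simp [mu]

theorem range_mu (I : Ideal R) : LinearMap.range (mu I M) = I • (⊤ : Submodule R M) :=
  Ideal.subtype_rTensor_range M I

theorem mu_natural (I : Ideal R) (g : M →ₗ[R] N) (t : I ⊗[R] M) :
    g (mu I M t) = mu I N (g.lTensor I t) := by
  induction t using TensorProduct.induction_on with
  | zero => simp
  | add x y hx hy => simp only [map_add, hx, hy]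
  | tmul i m => simp

/-- `Tor₁(R/I, N) = 0` implies `ker g ∩ I M = I ker g` for a surjection `g : M → N`. -/
theorem mem_smul_ker (I : Ideal R) (g : M →ₗ[R] N) (hg : Surjective g)
    (hT : Injective (I.subtype.rTensor N)) {z : M} (hz : z ∈ I • (⊤ : Submodule R M))
    (hgz : g z = 0) : z ∈ I • LinearMap.ker g := by
  rw [← range_mu] at hz
  obtain ⟨t, rfl⟩ := hz
  have hμN : Injective (mu I N) := (TensorProduct.lid R N).injective.comp hT
  have h0 : g.lTensor I t = 0 := by
    apply hμN
    rw [← mu_natural, hgz, map_zero]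
  have hex : Exact ((LinearMap.ker g).subtype.lTensor I) (g.lTensor I) :=
    lTensor_exact I (LinearMap.exact_subtype_ker_map g) hg
  obtain ⟨t', rfl⟩ := (hex t).mp h0
  clear h0 hgz
  induction t' using TensorProduct.induction_on with
  | zero => simp
  | add x y hx hy =>
    simp only [map_add]
    exact Submodule.add_mem _ hx hy
  | tmul i k =>
    simp only [LinearMap.lTensor_tmul, Submodule.subtype_apply, mu_tmul]
    exact Submodule.smul_mem_smul i.2 k.2

end Mod

section Nak

/-- Nakayama for a nilpotent ideal, in `K ≤ K₀ ⊔ I * K` form. -/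
theorem le_of_le_sup_mul {P : Type*} [CommRing P] (I K K₀ : Ideal P) (n : ℕ) (hn : I ^ n = ⊥)
    (h0 : K₀ ≤ K) (h : K ≤ K₀ ⊔ I * K) : K ≤ K₀ := by
  have key : ∀ k : ℕ, K ≤ K₀ ⊔ I ^ k * K := by
    intro k
    induction k with
    | zero => simp
    | succ k ih =>
      calc K ≤ K₀ ⊔ I ^ k * K := ih
        _ ≤ K₀ ⊔ I ^ k * (K₀ ⊔ I * K) := sup_le_sup_left (Ideal.mul_mono_right h) _
        _ = K₀ ⊔ (I ^ k * K₀ ⊔ I ^ k * (I * K)) := by rw [Ideal.mul_sup]
        _ ≤ K₀ ⊔ I ^ (k + 1) * K := by
          refine sup_le le_sup_left (sup_le (le_sup_of_le_left Ideal.mul_le_right) ?_)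
          rw [← mul_assoc, ← pow_succ]
          exact le_sup_right
  have := key n
  rwa [hn, Ideal.bot_mul, sup_bot_eq] at this

end Nak

section FP

variable {R S : Type u} [CommRing R] [CommRing S] [Algebra R S]

/-- **Finite presentation lifts** along a nilpotent ideal `I` of the base, provided
`I ⊗ S → S` is injective. -/
theorem finitePresentation_of_quotient (I : Ideal R) (n : ℕ) (hn : I ^ n = ⊥)
    (hT : Injective (I.subtype.rTensor S))
    [Algebra.FinitePresentation (R ⧸ I) (S ⧸ I.map (algebraMap R S))] :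
    Algebra.FinitePresentation R S := by
  classical
  haveI : Algebra.FiniteType (R ⧸ I) (S ⧸ I.map (algebraMap R S)) := inferInstance
  haveI : Algebra.FiniteType R (R ⧸ I) :=
    Algebra.FiniteType.of_surjective (Algebra.ofId R (R ⧸ I)) Ideal.Quotient.mk_surjective
  haveI : Algebra.FiniteType R (S ⧸ I.map (algebraMap R S)) :=
    Algebra.FiniteType.trans (S := R ⧸ I) inferInstance inferInstance
  haveI : Algebra.FiniteType R S := Groth.Agent.H22.NilFT.finiteType_of_quotient_map I n hn
  obtain ⟨m, f, hf⟩ := Algebra.FiniteType.iff_quotient_mvPolynomial''.mp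
    (inferInstance : Algebra.FiniteType R S)
  set IS : Ideal S := I.map (algebraMap R S) with hIS
  set K : Ideal (MvPolynomial (Fin m) R) := RingHom.ker f.toRingHom with hK
  set IP : Ideal (MvPolynomial (Fin m) R) := I.map MvPolynomial.C with hIP
  let ρ : MvPolynomial (Fin m) R →+* MvPolynomial (Fin m) (R ⧸ I) :=
    MvPolynomial.map (Ideal.Quotient.mk I)
  have hρ : Surjective ρ := MvPolynomial.map_surjective _ Ideal.Quotient.mk_surjective
  have hkerρ : RingHom.ker ρ = IP := by
    rw [MvPolynomial.ker_map, Ideal.mk_ker]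
  let fbar : MvPolynomial (Fin m) (R ⧸ I) →ₐ[R ⧸ I] (S ⧸ IS) :=
    MvPolynomial.aeval (fun i => Ideal.Quotient.mk IS (f (MvPolynomial.X i)))
  have hcomm : ∀ p, fbar (ρ p) = Ideal.Quotient.mk IS (f p) := by
    intro p
    have : (fbar.toRingHom.comp ρ) = (Ideal.Quotient.mk IS).comp f.toRingHom := by
      apply MvPolynomial.ringHom_ext
      · intro r
        simp only [RingHom.comp_apply, ρ, MvPolynomial.map_C, AlgHom.toRingHom_eq_coe,
          RingHom.coe_coe, fbar]
        rw [← MvPolynomial.algebraMap_eq, AlgHom.commutes, ← MvPolynomial.algebraMap_eq,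
          AlgHom.commutes]
        rfl
      · intro i
        simp [ρ, fbar]
    exact congr($this p)
  have hfbar : Surjective fbar := by
    intro y
    obtain ⟨s, rfl⟩ := Ideal.Quotient.mk_surjective y
    obtain ⟨p, rfl⟩ := hf s
    exact ⟨ρ p, hcomm p⟩
  have hKbar : (RingHom.ker fbar.toRingHom).FG :=
    Algebra.FinitePresentation.ker_fG_of_surjective fbar hfbar
  set Kbar := RingHom.ker fbar.toRingHom with hKbar'
  -- lifting elements of `Kbar` to `K`
  have hlift : ∀ q : MvPolynomial (Fin m) (R ⧸ I), q ∈ Kbar → ∃ p ∈ K, ρ p = q := by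
    intro q hq
    obtain ⟨q0, rfl⟩ := hρ q
    have h1 : f q0 ∈ IS := by
      rw [← Ideal.Quotient.eq_zero_iff_mem, ← hcomm]
      exact hq
    have h2 : IS = IP.map f.toRingHom := by
      rw [hIS, hIP, Ideal.map_map]
      congr 1
      ext r
      simp [MvPolynomial.algebraMap_eq]
    rw [h2] at h1
    obtain ⟨r, hr, hr'⟩ := (Ideal.mem_map_iff_of_surjective f.toRingHom
      (show Surjective f.toRingHom from hf)).mp h1
    refine ⟨q0 - r, ?_, ?_⟩
    · rw [hK, RingHom.mem_ker, map_sub, sub_eq_zero]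
      exact hr'.symm
    · rw [map_sub]
      have : ρ r = 0 := by
        rw [← RingHom.mem_ker, hkerρ]; exact hr
      rw [this, sub_zero]
  obtain ⟨sbar, hsbar⟩ := hKbar
  choose! lift hliftK hliftρ using hlift
  let s : Finset (MvPolynomial (Fin m) R) := sbar.image lift
  set K₀ : Ideal (MvPolynomial (Fin m) R) := Ideal.span (s : Set _) with hK₀
  have hsbarK : ∀ q ∈ sbar, q ∈ Kbar := by
    intro q hq
    rw [← hsbar]
    exact Ideal.subset_span hq
  have hK₀K : K₀ ≤ K := by
    rw [hK₀, Ideal.span_le]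
    intro p hp
    simp only [s, Finset.coe_image, Set.mem_image, Finset.mem_coe] at hp
    obtain ⟨q, hq, rfl⟩ := hp
    exact hliftK q (hsbarK q hq)
  have hmapK₀ : K₀.map ρ = Kbar := by
    rw [hK₀, Ideal.map_span, ← hsbar]
    congr 1
    ext q
    simp only [s, Finset.coe_image, Set.mem_image, Finset.mem_coe]
    constructor
    · rintro ⟨_, ⟨q', hq', rfl⟩, rfl⟩
      rw [hliftρ q' (hsbarK q' hq')]
      exact hq'
    · intro hq
      exact ⟨lift q, ⟨q, hq, rfl⟩, hliftρ q (hsbarK q hq)⟩
  -- `K ∩ IP ≤ IP * K`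
  have hinter : ∀ z ∈ K, z ∈ IP → z ∈ IP * K := by
    intro z hzK hzIP
    have hz1 : z ∈ I • (⊤ : Submodule R (MvPolynomial (Fin m) R)) := by
      rw [Ideal.smul_top_eq_map]
      exact hzIP
    have hz2 : f.toLinearMap z = 0 := hzK
    have := mem_smul_ker I f.toLinearMap hf hT hz1 hz2
    refine Submodule.smul_induction_on this ?_ ?_
    · intro i hi k hk
      rw [Algebra.smul_def]
      exact Ideal.mul_mem_mul (Ideal.mem_map_of_mem _ hi) hk
    · intro x y hx hy
      exact Ideal.add_mem _ hx hy
  have hle : K ≤ K₀ ⊔ IP * K := by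
    intro z hz
    have h1 : ρ z ∈ K₀.map ρ := by
      rw [hmapK₀, hKbar', RingHom.mem_ker]
      change fbar (ρ z) = 0
      rw [hcomm]
      have : f z = 0 := hz
      rw [this, map_zero]
    rw [Ideal.mem_map_iff_of_surjective _ hρ] at h1
    obtain ⟨k0, hk0, hk0'⟩ := h1
    have h2 : z - k0 ∈ IP := by
      rw [← hkerρ, RingHom.mem_ker, map_sub, hk0', sub_self]
    have h3 : z - k0 ∈ K := Ideal.sub_mem _ hz (hK₀K hk0)
    have h4 := hinter _ h3 h2
    have : z = k0 + (z - k0) := by ring
    rw [this]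
    exact Submodule.add_mem_sup hk0 h4
  have hIPn : IP ^ n = ⊥ := by
    rw [hIP, ← Ideal.map_pow, hn]
    exact Ideal.map_bot
  have hKK₀ : K = K₀ := le_antisymm (le_of_le_sup_mul IP K K₀ n hIPn hK₀K hle) hK₀K
  refine ⟨m, f, hf, ?_⟩
  rw [← hK, hKK₀]
  exact ⟨s, rfl⟩

end FP

end Groth.Agent.H22.DeformFP

namespace Groth.Agent.H22.Deform

open Groth.Agent.H22.DeformAlg Groth.Agent.H22.DeformFP

variable {C' B' A' B A : Type u} [CommRing C'] [CommRing B'] [CommRing A']
    [CommRing B] [CommRing A] {γ : C' →+* B'} {φ' : B' →+* A'} {πB : B' →+* B} {πA : A' →+* A}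
    {φ : B →+* A} {J : Ideal C'}

/-- **Finite presentation deforms**: in the situation of `DeformData`, if `φ` is of finite
presentation then so is `φ'`. -/
theorem fp_of_deformData (h : DeformData γ φ' πB πA φ J) (hφ : φ.FinitePresentation) :
    φ'.FinitePresentation := by
  letI := γ.toAlgebra
  letI := φ'.toAlgebra
  letI : Algebra C' A' := (φ'.comp γ).toAlgebra
  haveI : IsScalarTower C' B' A' := IsScalarTower.of_algebraMap_eq (fun _ => rfl)
  haveI : Module.Flat C' A' := h.flat
  set I : Ideal B' := J.map (algebraMap C' B') with hI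
  have hT : Injective (I.subtype.rTensor A') := rTensor_subtype_injective (B' := B') (A' := A') J
  obtain ⟨n, hn⟩ := h.isNilpotent_map
  have hq : (algebraMap (B' ⧸ I) (A' ⧸ I.map (algebraMap B' A'))).FinitePresentation :=
    h.quotientMap_of RingHom.finitePresentation_respectsIso hφ
  rw [RingHom.finitePresentation_algebraMap] at hq
  haveI := hq
  have := finitePresentation_of_quotient (R := B') (S := A') I n hn hT
  exact this

end Groth.Agent.H22.Deform
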