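import Mathlib

/-!
# Nakayama-type surjectivity statements for nil / nilpotent ideals
-/

universe u

namespace Groth.Agent.H22.NilSurj

/-- Nakayama for nilpotent ideals, submodule form (no finiteness needed). -/
theorem top_le_sup_pow_smul {R M : Type*} [CommRing R] [AddCommGroup M] [Module R M]
    (I : Ideal R) (N : Submodule R M) (h : ⊤ ≤ N ⊔ I • (⊤ : Submodule R M)) (n : ℕ) :
    (⊤ : Submodule R M) ≤ N ⊔ I ^ n • (⊤ : Submodule R M) := by
  induction n with
  | zero => simp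
  | succ n ih =>
    calc (⊤ : Submodule R M) ≤ N ⊔ I ^ n • (⊤ : Submodule R M) := ih
      _ ≤ N ⊔ I ^ n • (N ⊔ I • (⊤ : Submodule R M)) :=
        sup_le_sup_left (Submodule.smul_mono le_rfl h) _
      _ = N ⊔ (I ^ n • N ⊔ I ^ n • I • (⊤ : Submodule R M)) := by rw [Submodule.smul_sup]
      _ ≤ N ⊔ I ^ (n + 1) • (⊤ : Submodule R M) := by
        refine sup_le le_sup_left (sup_le (le_sup_of_le_left Submodule.smul_le_right) ?_)
        rw [← Submodule.mul_smul, ← pow_succ]
        exact le_sup_right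

theorem eq_top_of_pow_eq_bot {R M : Type*} [CommRing R] [AddCommGroup M] [Module R M]
    (I : Ideal R) (n : ℕ) (hI : I ^ n = ⊥) (N : Submodule R M)
    (h : ⊤ ≤ N ⊔ I • (⊤ : Submodule R M)) : N = ⊤ := by
  have := top_le_sup_pow_smul I N h n
  rw [hI, Submodule.bot_smul, sup_bot_eq] at this
  exact top_le_iff.mp this

theorem exists_fg_le_mem_map {R A : Type*} [CommRing R] [CommRing A] (φ : R →+* A)
    (I : Ideal R) {x : A} (hx : x ∈ I.map φ) : ∃ J : Ideal R, J ≤ I ∧ J.FG ∧ x ∈ J.map φ := by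
  rw [Ideal.map] at hx
  induction hx using Submodule.span_induction with
  | mem x hx =>
    obtain ⟨i, hi, rfl⟩ := hx
    refine ⟨Ideal.span {i}, (Ideal.span_singleton_le_iff_mem _).mpr hi,
      ⟨{i}, by simp⟩, Ideal.mem_map_of_mem _ (Ideal.mem_span_singleton_self i)⟩
  | zero => exact ⟨⊥, bot_le, Submodule.fg_bot, Ideal.zero_mem _⟩
  | add x y _ _ hx hy =>
    obtain ⟨J₁, h₁, f₁, m₁⟩ := hx
    obtain ⟨J₂, h₂, f₂, m₂⟩ := hy
    exact ⟨J₁ ⊔ J₂, sup_le h₁ h₂, Submodule.FG.sup f₁ f₂,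
      Ideal.add_mem _ (Ideal.map_mono le_sup_left m₁) (Ideal.map_mono le_sup_right m₂)⟩
  | smul a x _ hx =>
    obtain ⟨J, h, f, m⟩ := hx
    exact ⟨J, h, f, Ideal.mul_mem_left _ a m⟩

/-- If `A` is a finite type `R`-algebra, `I` is a nil ideal of `R` and `R → A ⧸ I A` is
surjective, then `R → A` is surjective. -/
theorem surjective_of_nil {R A : Type u} [CommRing R] [CommRing A] [Algebra R A]
    [Algebra.FiniteType R A] (I : Ideal R) (hI : I ≤ nilradical R)
    (h : ∀ a : A, ∃ r : R, a - algebraMap R A r ∈ I.map (algebraMap R A)) :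
    Function.Surjective (algebraMap R A) := by
  classical
  obtain ⟨s, hs⟩ := (Algebra.FiniteType.out : (⊤ : Subalgebra R A).FG)
  choose r hr using h
  have hJ : ∀ a : A, ∃ J : Ideal R, J ≤ I ∧ J.FG ∧ a - algebraMap R A (r a) ∈
      J.map (algebraMap R A) := fun a => exists_fg_le_mem_map _ I (hr a)
  choose J hJI hJfg hJmem using hJ
  set I₀ : Ideal R := s.sup J with hI₀
  have hI₀I : I₀ ≤ I := Finset.sup_le fun a _ => hJI a
  have hI₀fg : I₀.FG := Submodule.fg_finset_sup s J fun a _ => hJfg a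
  obtain ⟨n, hn⟩ := (Ideal.FG.isNilpotent_iff_le_nilradical hI₀fg).mpr (hI₀I.trans hI)
  -- the subalgebra `R + I₀ A`
  let D : Subalgebra R A :=
    Subalgebra.comap (Ideal.Quotient.mkₐ R (I₀.map (algebraMap R A))) ⊥
  have hsD : (s : Set A) ⊆ D := by
    intro a ha
    change Ideal.Quotient.mkₐ R (I₀.map (algebraMap R A)) a ∈ (⊥ : Subalgebra R _)
    rw [Algebra.mem_bot]
    refine ⟨r a, ?_⟩
    rw [Ideal.Quotient.mkₐ_eq_mk, IsScalarTower.algebraMap_apply R A (A ⧸ _),
      Ideal.Quotient.algebraMap_eq, eq_comm, Ideal.Quotient.eq]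
    exact Ideal.map_mono (Finset.le_sup (f := J) ha) (hJmem a)
  have hD : D = ⊤ := top_le_iff.mp (hs ▸ Algebra.adjoin_le hsD)
  have key : (⊤ : Submodule R A) ≤ LinearMap.range (Algebra.linearMap R A) ⊔
      I₀ • (⊤ : Submodule R A) := by
    intro a _
    have ha : a ∈ D := hD ▸ Algebra.mem_top
    change Ideal.Quotient.mkₐ R (I₀.map (algebraMap R A)) a ∈ (⊥ : Subalgebra R _) at ha
    rw [Algebra.mem_bot] at ha
    obtain ⟨r', hr'⟩ := ha
    rw [Ideal.Quotient.mkₐ_eq_mk, IsScalarTower.algebraMap_apply R A (A ⧸ _),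
      Ideal.Quotient.algebraMap_eq, Ideal.Quotient.eq] at hr'
    have : a = algebraMap R A r' + (a - algebraMap R A r') := by ring
    rw [this]
    refine Submodule.add_mem_sup ⟨r', rfl⟩ ?_
    rw [Ideal.smul_top_eq_map]
    have := Ideal.neg_mem_iff _ |>.mpr hr'
    simpa using this
  have := eq_top_of_pow_eq_bot I₀ n hn _ key
  intro a
  have ha : a ∈ LinearMap.range (Algebra.linearMap R A) := this ▸ Submodule.mem_top
  obtain ⟨r', hr'⟩ := ha
  exact ⟨r', hr'⟩

/-- If `J` is a nilpotent ideal of `A` and `R → A ⧸ J ^ 2` is surjective, then `R → A` is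
surjective. -/
theorem surjective_of_sq {R A : Type*} [CommRing R] [CommRing A] (φ : R →+* A) (J : Ideal A)
    (n : ℕ) (hJ : J ^ n = ⊥) (h : ∀ a : A, ∃ r : R, a - φ r ∈ J ^ 2) :
    Function.Surjective φ := by
  have P : ∀ m : ℕ, ∀ a : A, ∃ r : R, a - φ r ∈ J ^ (m + 2) := by
    intro m
    induction m with
    | zero => simpa using h
    | succ m ih =>
      intro a
      obtain ⟨r₀, hr₀⟩ := ih a
      suffices H : ∀ z ∈ J ^ (m + 1) * J, ∃ r, z - φ r ∈ J ^ (m + 3) by
        obtain ⟨r₁, hr₁⟩ := H _ (by rwa [← pow_succ])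
        exact ⟨r₀ + r₁, by rw [map_add]; convert hr₁ using 1; ring⟩
      intro z hz
      refine Submodule.mul_induction_on hz ?_ ?_
      · intro x hx y hy
        obtain ⟨r', hr'⟩ := ih x
        obtain ⟨r, hr⟩ := h y
        have hc : φ r ∈ J := by
          have : φ r = y - (y - φ r) := by ring
          rw [this]
          exact J.sub_mem hy (Ideal.pow_le_self two_ne_zero hr)
        refine ⟨r' * r, ?_⟩
        have : x * y - φ (r' * r) = x * (y - φ r) + (x - φ r') * φ r := by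
          rw [map_mul]; ring
        rw [this]
        refine Ideal.add_mem _ ?_ ?_
        · have := Ideal.mul_mem_mul hx hr
          rwa [← pow_add] at this
        · have := Ideal.mul_mem_mul hr' hc
          rwa [← pow_succ] at this
      · rintro x y ⟨r₁, h₁⟩ ⟨r₂, h₂⟩
        exact ⟨r₁ + r₂, by rw [map_add]; convert Ideal.add_mem _ h₁ h₂ using 1; ring⟩
  intro a
  obtain ⟨r, hr⟩ := P n a
  have : J ^ (n + 2) = ⊥ := by rw [pow_add, hJ, Ideal.bot_mul]
  rw [this, Ideal.mem_bot, sub_eq_zero] at hr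
  exact ⟨r, hr.symm⟩

end Groth.Agent.H22.NilSurj
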