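import Mathlib

open CategoryTheory CategoryTheory.Limits AlgebraicGeometry TopologicalSpace Opposite

universe u

namespace Groth.Agent.H22.ThickAffine

variable {Y₀ Y : Scheme.{u}} (i : Y₀ ⟶ Y)

theorem preimage_le_imp_le [Surjective i] {A B : Y.Opens} (h : i ⁻¹ᵁ A ≤ i ⁻¹ᵁ B) : A ≤ B := by
  intro y hy
  obtain ⟨x, rfl⟩ := i.surjective y
  exact h hy

theorem preimage_injective [Surjective i] {A B : Y.Opens} (h : i ⁻¹ᵁ A = i ⁻¹ᵁ B) : A = B :=
  le_antisymm (preimage_le_imp_le i h.le) (preimage_le_imp_le i h.ge)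

theorem exists_lift_basicOpen [IsClosedImmersion i] [Surjective i] {U : Y.Opens}
    (hU : IsAffineOpen U) (V : Y.Opens) {T : Y₀.Opens} (hT : i ⁻¹ᵁ U ≤ T) (f : Γ(Y₀, T))
    (hV : i ⁻¹ᵁ V = Y₀.basicOpen f) :
    ∃ η : Γ(Y, U), i.app U η = Y₀.presheaf.map (homOfLE hT).op f ∧ U ⊓ V = Y.basicOpen η := by
  obtain ⟨η, hη⟩ := i.app_surjective U hU (Y₀.presheaf.map (homOfLE hT).op f)
  refine ⟨η, hη, preimage_injective i ?_⟩
  rw [Scheme.preimage_basicOpen, hη, Scheme.basicOpen_res, Scheme.Hom.preimage_inf, hV]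

theorem exists_extension [IsClosedImmersion i] {U : Y.Opens} (hU : IsAffineOpen U) (η : Γ(Y, U)) (O : Y.Opens)
    (hO : O = Y.basicOpen η) (hOU : O ≤ U) (k : ℕ) (c : Γ(Y, O))
    (hc : c ∈ (RingHom.ker (i.app O).hom) ^ k) :
    ∃ (N : ℕ) (e : Γ(Y, U)), e ∈ (RingHom.ker (i.app U).hom) ^ k ∧
      Y.presheaf.map (homOfLE hOU).op e = (Y.presheaf.map (homOfLE hOU).op η) ^ N * c := by
  subst hO
  haveI hloc := hU.isLocalization_basicOpen η
  have hmap := i.ker.map_ideal_basicOpen ⟨U, hU⟩ η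
  rw [Scheme.Hom.ker_apply, Scheme.Hom.ker_apply] at hmap
  have hc' : c ∈ Ideal.map (algebraMap Γ(Y, U) Γ(Y, Y.basicOpen η))
      ((RingHom.ker (i.app U).hom) ^ k) := by
    rw [Ideal.map_pow]
    have : Ideal.map (algebraMap Γ(Y, U) Γ(Y, Y.basicOpen η)) (RingHom.ker (i.app U).hom) =
        RingHom.ker (i.app (Y.basicOpen η)).hom := hmap
    rw [this]
    exact hc
  obtain ⟨⟨⟨e, he⟩, ⟨_, N, rfl⟩⟩, hx⟩ :=
    (IsLocalization.mem_map_algebraMap_iff (Submonoid.powers η) Γ(Y, Y.basicOpen η)).mp hc'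
  refine ⟨N, e, he, ?_⟩
  have hx' : c * (algebraMap Γ(Y, U) Γ(Y, Y.basicOpen η)) (η ^ N) =
      (algebraMap Γ(Y, U) Γ(Y, Y.basicOpen η)) e := hx
  rw [map_pow] at hx'
  rw [mul_comm]
  exact hx'.symm

theorem res_res (X : Scheme.{u}) {A B C : X.Opens} (h₁ : B ≤ A) (h₂ : C ≤ B) (s : Γ(X, A)) :
    X.presheaf.map (homOfLE h₂).op (X.presheaf.map (homOfLE h₁).op s) =
      X.presheaf.map (homOfLE (h₂.trans h₁)).op s := by
  rw [← CommRingCat.comp_apply, ← Functor.map_comp]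
  rfl

theorem glue_two (X : Scheme.{u}) (U V : X.Opens) (s : Γ(X, U)) (t : Γ(X, V))
    (h : X.presheaf.map (homOfLE (inf_le_left : U ⊓ V ≤ U)).op s =
      X.presheaf.map (homOfLE (inf_le_right : U ⊓ V ≤ V)).op t) :
    ∃ r : Γ(X, U ⊔ V), X.presheaf.map (homOfLE (le_sup_left : U ≤ U ⊔ V)).op r = s ∧
      X.presheaf.map (homOfLE (le_sup_right : V ≤ U ⊔ V)).op r = t := by
  let x : RingHom.eqLocus
      (RingHom.comp (X.sheaf.obj.map (homOfLE inf_le_left : U ⊓ V ⟶ U).op).hom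
        (RingHom.fst (X.sheaf.obj.obj <| op U) (X.sheaf.obj.obj <| op V)))
      (RingHom.comp (X.sheaf.obj.map (homOfLE inf_le_right : U ⊓ V ⟶ V).op).hom
        (RingHom.snd (X.sheaf.obj.obj <| op U) (X.sheaf.obj.obj <| op V))) := ⟨(s, t), h⟩
  exact ⟨(X.sheaf.objSupIsoProdEqLocus U V).inv x, X.sheaf.objSupIsoProdEqLocus_inv_fst U V x,
    X.sheaf.objSupIsoProdEqLocus_inv_snd U V x⟩

theorem eq_of_res_two (X : Scheme.{u}) {U V W : X.Opens} (hU : U ≤ W) (hV : V ≤ W)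
    (hc : W ≤ U ⊔ V) (s t : Γ(X, W))
    (h₁ : X.presheaf.map (homOfLE hU).op s = X.presheaf.map (homOfLE hU).op t)
    (h₂ : X.presheaf.map (homOfLE hV).op s = X.presheaf.map (homOfLE hV).op t) : s = t :=
  X.sheaf.eq_of_locally_eq₂ (homOfLE hU) (homOfLE hV) hc s t h₁ h₂


theorem app_res {U V : Y.Opens} (h : V ≤ U) (s : Γ(Y, U)) :
    i.app V (Y.presheaf.map (homOfLE h).op s) =
      Y₀.presheaf.map (homOfLE (show i ⁻¹ᵁ V ≤ i ⁻¹ᵁ U from fun _ hx => h hx)).op (i.app U s) := by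
  have := i.naturality (homOfLE h).op
  exact congr($this s)

theorem surjective_app_of_two [IsClosedImmersion i] [Surjective i] (n : ℕ)
    (W₁ W' : Y.Opens)
    (hn : ∀ U : Y.Opens, U ≤ W₁ ⊔ W' → IsAffineOpen U → (RingHom.ker (i.app U).hom) ^ n = ⊥)
    (hW₁ : IsAffineOpen W₁) (hW' : IsAffineOpen W')
    (h₁ h' : Γ(Y₀, i ⁻¹ᵁ (W₁ ⊔ W'))) (hcop : IsCoprime h₁ h')
    (e₁ : i ⁻¹ᵁ W₁ = Y₀.basicOpen h₁) (e' : i ⁻¹ᵁ W' = Y₀.basicOpen h')
    (g : Γ(Y₀, i ⁻¹ᵁ (W₁ ⊔ W'))) : ∃ t : Γ(Y, W₁ ⊔ W'), i.app (W₁ ⊔ W') t = g := by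
  have hW₁W : W₁ ≤ W₁ ⊔ W' := le_sup_left
  have hW'W : W' ≤ W₁ ⊔ W' := le_sup_right
  have hO₁ : W₁ ⊓ W' ≤ W₁ := inf_le_left
  have hO' : W₁ ⊓ W' ≤ W' := inf_le_right
  have hp₁ : i ⁻¹ᵁ W₁ ≤ i ⁻¹ᵁ (W₁ ⊔ W') := fun _ hx => hW₁W hx
  have hp' : i ⁻¹ᵁ W' ≤ i ⁻¹ᵁ (W₁ ⊔ W') := fun _ hx => hW'W hx
  have hpO₁ : i ⁻¹ᵁ (W₁ ⊓ W') ≤ i ⁻¹ᵁ W₁ := fun _ hx => hO₁ hx
  have hpO' : i ⁻¹ᵁ (W₁ ⊓ W') ≤ i ⁻¹ᵁ W' := fun _ hx => hO' hx
  obtain ⟨η', hη', hOη'⟩ := exists_lift_basicOpen i hW₁ W' hp₁ h' e'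
  obtain ⟨η₁, hη₁, hOη₁⟩ := exists_lift_basicOpen i hW' W₁ hp' h₁ e₁
  have hOη₁' : W₁ ⊓ W' = Y.basicOpen η₁ := by rw [inf_comm]; exact hOη₁
  have hOaff : IsAffineOpen (W₁ ⊓ W') := hOη' ▸ hW₁.basicOpen η'
  have key : ∀ k : ℕ, 1 ≤ k → ∃ (s₁ : Γ(Y, W₁)) (s' : Γ(Y, W')),
      i.app W₁ s₁ = Y₀.presheaf.map (homOfLE hp₁).op g ∧
      i.app W' s' = Y₀.presheaf.map (homOfLE hp').op g ∧
      Y.presheaf.map (homOfLE hO₁).op s₁ - Y.presheaf.map (homOfLE hO').op s' ∈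
        (RingHom.ker (i.app (W₁ ⊓ W')).hom) ^ k := by
    intro k hk
    induction k, hk using Nat.le_induction with
    | base =>
      obtain ⟨s₁, hs₁⟩ := i.app_surjective W₁ hW₁ (Y₀.presheaf.map (homOfLE hp₁).op g)
      obtain ⟨s', hs'⟩ := i.app_surjective W' hW' (Y₀.presheaf.map (homOfLE hp').op g)
      refine ⟨s₁, s', hs₁, hs', ?_⟩
      rw [pow_one, RingHom.mem_ker, map_sub]
      change i.app _ _ - i.app _ _ = 0
      rw [app_res, app_res, hs₁, hs', res_res, res_res, sub_self]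
    | succ k hk ih =>
      obtain ⟨s₁, s', hs₁, hs', hc⟩ := ih
      obtain ⟨c, hcdef⟩ : ∃ c, c = Y.presheaf.map (homOfLE hO₁).op s₁ -
        Y.presheaf.map (homOfLE hO').op s' := ⟨_, rfl⟩
      rw [← hcdef] at hc
      obtain ⟨N₁, ε₁, hε₁, hε₁r⟩ := exists_extension i hW₁ η' _ hOη' hO₁ k c hc
      obtain ⟨N', ε', hε', hε'r⟩ := exists_extension i hW' η₁ _ hOη₁' hO' k c hc
      obtain ⟨b₁, b', hb⟩ : IsCoprime (h₁ ^ (N₁ + N')) (h' ^ (N₁ + N')) := hcop.pow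
      obtain ⟨β', hβ'⟩ := i.app_surjective W₁ hW₁ (Y₀.presheaf.map (homOfLE hp₁).op b')
      obtain ⟨β₁, hβ₁⟩ := i.app_surjective W' hW' (Y₀.presheaf.map (homOfLE hp').op b₁)
      have hε₁0 : i.app W₁ ε₁ = 0 := Ideal.pow_le_self (by omega) hε₁
      have hε'0 : i.app W' ε' = 0 := Ideal.pow_le_self (by omega) hε'
      refine ⟨s₁ - β' * (η' ^ N' * ε₁), s' + β₁ * (η₁ ^ N₁ * ε'), ?_, ?_, ?_⟩
      · rw [map_sub, map_mul, map_mul, hε₁0, mul_zero, mul_zero, sub_zero, hs₁]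
      · rw [map_add, map_mul, map_mul, hε'0, mul_zero, mul_zero, add_zero, hs']
      · -- the new error is `ρ * c`
        set R₁ := (Y.presheaf.map (homOfLE hO₁).op).hom with hR₁
        set R' := (Y.presheaf.map (homOfLE hO').op).hom with hR'
        have hε₁r' : R₁ ε₁ = (R₁ η') ^ N₁ * c := hε₁r
        have hε'r' : R' ε' = (R' η₁) ^ N' * c := hε'r
        have hcdef' : c = R₁ s₁ - R' s' := hcdef
        have hgoal : R₁ (s₁ - β' * (η' ^ N' * ε₁)) - R' (s' + β₁ * (η₁ ^ N₁ * ε')) =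
            (1 - R₁ β' * (R₁ η') ^ (N₁ + N') - R' β₁ * (R' η₁) ^ (N₁ + N')) * c := by
          rw [map_sub, map_add, map_mul, map_mul, map_mul, map_mul, map_pow, map_pow, hε₁r', hε'r',
            hcdef']
          ring
        change R₁ (s₁ - β' * (η' ^ N' * ε₁)) - R' (s' + β₁ * (η₁ ^ N₁ * ε')) ∈ _
        rw [hgoal, pow_succ']
        refine Ideal.mul_mem_mul ?_ hc
        rw [RingHom.mem_ker, map_sub, map_sub, map_one, map_mul, map_mul, map_pow, map_pow]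
        have e1 : (i.app (W₁ ⊓ W')).hom (R₁ β') =
            Y₀.presheaf.map (homOfLE (hpO₁.trans hp₁)).op b' := by
          change i.app _ (Y.presheaf.map (homOfLE hO₁).op β') = _
          rw [app_res, hβ', res_res]
        have e2 : (i.app (W₁ ⊓ W')).hom (R₁ η') =
            Y₀.presheaf.map (homOfLE (hpO₁.trans hp₁)).op h' := by
          change i.app _ (Y.presheaf.map (homOfLE hO₁).op η') = _
          rw [app_res, hη', res_res]
        have e3 : (i.app (W₁ ⊓ W')).hom (R' β₁) =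
            Y₀.presheaf.map (homOfLE (hpO₁.trans hp₁)).op b₁ := by
          change i.app _ (Y.presheaf.map (homOfLE hO').op β₁) = _
          rw [app_res, hβ₁, res_res]
        have e4 : (i.app (W₁ ⊓ W')).hom (R' η₁) =
            Y₀.presheaf.map (homOfLE (hpO₁.trans hp₁)).op h₁ := by
          change i.app _ (Y.presheaf.map (homOfLE hO').op η₁) = _
          rw [app_res, hη₁, res_res]
        rw [e1, e2, e3, e4]
        have := congrArg (Y₀.presheaf.map (homOfLE (hpO₁.trans hp₁)).op) hb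
        rw [map_add, map_mul, map_mul, map_pow, map_pow, map_one] at this
        linear_combination -this
  obtain ⟨s₁, s', hs₁, hs', hc⟩ := key (max n 1) (le_max_right _ _)
  have hc0 : Y.presheaf.map (homOfLE hO₁).op s₁ - Y.presheaf.map (homOfLE hO').op s' = 0 := by
    have := Ideal.pow_le_pow_right (I := RingHom.ker (i.app (W₁ ⊓ W')).hom) (le_max_left n 1) hc
    rw [hn _ (hO₁.trans hW₁W) hOaff] at this
    exact this
  obtain ⟨t, ht₁, ht'⟩ := glue_two Y W₁ W' s₁ s' (sub_eq_zero.mp hc0)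
  refine ⟨t, ?_⟩
  refine eq_of_res_two Y₀ hp₁ hp' ?_ _ _ ?_ ?_
  · intro x hx
    exact hx
  · rw [← app_res i hW₁W, ht₁, hs₁]
  · rw [← app_res i hW'W, ht', hs']


theorem isAffineOpen_of_two [IsClosedImmersion i] [Surjective i] (n : ℕ)
    (W W₁ W' : Y.Opens)
    (hn : ∀ U : Y.Opens, U ≤ W → IsAffineOpen U → (RingHom.ker (i.app U).hom) ^ n = ⊥)
    (hW : W = W₁ ⊔ W') (hW₁ : IsAffineOpen W₁) (hW' : IsAffineOpen W')
    (h₁ h' : Γ(Y₀, i ⁻¹ᵁ W)) (hcop : IsCoprime h₁ h')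
    (e₁ : i ⁻¹ᵁ W₁ = Y₀.basicOpen h₁) (e' : i ⁻¹ᵁ W' = Y₀.basicOpen h') : IsAffineOpen W := by
  subst hW
  obtain ⟨a, b, hab⟩ := hcop
  obtain ⟨ã, hã⟩ := surjective_app_of_two i n W₁ W' hn hW₁ hW' h₁ h' ⟨a, b, hab⟩ e₁ e' a
  obtain ⟨η, hη⟩ := surjective_app_of_two i n W₁ W' hn hW₁ hW' h₁ h' ⟨a, b, hab⟩ e₁ e' h₁
  refine isAffineOpen_of_isAffineOpen_basicOpen (W₁ ⊔ W') {η, 1 - ã * η} ?_ ?_
  · rw [Ideal.eq_top_iff_one]
    have hmem : ã * η + (1 - ã * η) ∈ Ideal.span ({η, 1 - ã * η} : Set Γ(Y, W₁ ⊔ W')) := by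
      refine Ideal.add_mem _ (Ideal.mul_mem_left _ _ (Ideal.subset_span ?_))
        (Ideal.subset_span ?_)
      · exact Set.mem_insert _ _
      · exact Set.mem_insert_of_mem _ rfl
    convert hmem using 1
    ring
  · intro f hf
    rcases hf with rfl | hf
    · have : Y.basicOpen f = W₁ := by
        apply preimage_injective i
        rw [Scheme.preimage_basicOpen, hη, e₁]
      rw [this]
      exact hW₁
    · have hf' : f = 1 - ã * η := hf
      subst hf'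
      have himg : i.app (W₁ ⊔ W') (1 - ã * η) = b * h' := by
        rw [map_sub, map_mul, map_one, hã, hη]
        linear_combination -hab
      have hle : Y.basicOpen (1 - ã * η) ≤ W' := by
        apply preimage_le_imp_le i
        rw [Scheme.preimage_basicOpen, himg, Scheme.basicOpen_mul, e']
        exact inf_le_right
      have : Y.basicOpen (1 - ã * η) =
          Y.basicOpen (Y.presheaf.map (homOfLE (le_sup_right : W' ≤ W₁ ⊔ W')).op (1 - ã * η)) := by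
        rw [Scheme.basicOpen_res]
        exact (inf_eq_right.mpr hle).symm
      rw [this]
      exact hW'.basicOpen _

theorem isUnit_res_of_le_basicOpen (X : Scheme.{u}) {U V : X.Opens} (f : Γ(X, U)) (hVU : V ≤ U)
    (hV : V ≤ X.basicOpen f) : IsUnit (X.presheaf.map (homOfLE hVU).op f) := by
  have h1 := X.toRingedSpace.isUnit_res_basicOpen f
  have h2 : X.presheaf.map (homOfLE hVU).op f =
      X.presheaf.map (homOfLE hV).op (X.presheaf.map (homOfLE (X.basicOpen_le f)).op f) := by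
    rw [res_res]
  rw [h2]
  exact h1.map _


/-- An open of the thick scheme from an open of the thin one. -/
noncomputable def imgOpen [IsClosedImmersion i] [Surjective i] (V : Y₀.Opens) : Y.Opens :=
  ⟨i '' (V : Set Y₀), by
    have hh : IsHomeomorph i :=
      isHomeomorph_iff_isEmbedding_surjective.mpr ⟨i.isClosedEmbedding.isEmbedding, i.surjective⟩
    exact hh.isOpenMap _ V.2⟩

theorem preimage_imgOpen [IsClosedImmersion i] [Surjective i] (V : Y₀.Opens) :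
    i ⁻¹ᵁ (imgOpen i V) = V := by
  ext x
  constructor
  · rintro ⟨x', hx', hxx'⟩
    rwa [← i.isClosedEmbedding.injective hxx']
  · intro hx
    exact ⟨x, hx, rfl⟩

theorem isAffineOpen_of_cover [IsClosedImmersion i] [Surjective i] (n : ℕ) :
    ∀ (m : ℕ) (W : Y.Opens),
      (∀ U : Y.Opens, U ≤ W → IsAffineOpen U → (RingHom.ker (i.app U).hom) ^ n = ⊥) →
      IsAffineOpen (i ⁻¹ᵁ W) →
      ∀ (h a : Fin m → Γ(Y₀, i ⁻¹ᵁ W)), ∑ k, a k * h k = 1 →
      (∀ k, ∃ Wk : Y.Opens, Wk ≤ W ∧ IsAffineOpen Wk ∧ i ⁻¹ᵁ Wk = Y₀.basicOpen (h k)) →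
      IsAffineOpen W := by
  intro m
  induction m with
  | zero =>
    intro W hn hW₀ h a hsum _
    have h01 : (0 : Γ(Y₀, i ⁻¹ᵁ W)) = 1 := by simpa using hsum
    have hbot : i ⁻¹ᵁ W = ⊥ := by
      rw [← Y₀.basicOpen_one (U := i ⁻¹ᵁ W), ← h01, Scheme.basicOpen_zero]
    have : W = ⊥ := preimage_injective i (by rw [hbot]; rfl)
    rw [this]
    exact isAffineOpen_bot Y
  | succ m ih =>
    intro W hn hW₀ h a hsum hcov
    rw [Fin.sum_univ_succ] at hsum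
    set h' : Γ(Y₀, i ⁻¹ᵁ W) := ∑ k : Fin m, a k.succ * h k.succ with hh'
    set W' : Y.Opens := imgOpen i (Y₀.basicOpen h') with hW'def
    have e' : i ⁻¹ᵁ W' = Y₀.basicOpen h' := preimage_imgOpen i _
    have hW'W : W' ≤ W := by
      apply preimage_le_imp_le i
      rw [e']
      exact Y₀.basicOpen_le h'
    have hpW' : i ⁻¹ᵁ W' ≤ i ⁻¹ᵁ W := fun _ hx => hW'W hx
    have hW'₀ : IsAffineOpen (i ⁻¹ᵁ W') := by
      rw [e']
      exact hW₀.basicOpen h'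
    -- `h'` restricted to `i⁻¹ W'` is a unit
    have hunit : IsUnit (Y₀.presheaf.map (homOfLE hpW').op h') :=
      isUnit_res_of_le_basicOpen Y₀ h' hpW' e'.le
    obtain ⟨v, hv⟩ := hunit.exists_left_inv
    have hW'aff : IsAffineOpen W' := by
      refine ih W' (fun U hU => hn U (hU.trans hW'W)) hW'₀ (fun k => Y₀.presheaf.map (homOfLE hpW').op (h k.succ))
        (fun k => v * Y₀.presheaf.map (homOfLE hpW').op (a k.succ)) ?_ ?_
      · rw [← hv, hh', map_sum, Finset.mul_sum]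
        refine Finset.sum_congr rfl fun k _ => ?_
        rw [map_mul]
        ring
      · intro k
        obtain ⟨Wk, hWkW, hWk, ek⟩ := hcov k.succ
        have hpk : i ⁻¹ᵁ Wk ≤ i ⁻¹ᵁ W := fun _ hx => hWkW hx
        obtain ⟨η, -, hη⟩ := exists_lift_basicOpen i hWk W' hpk h' e'
        refine ⟨Wk ⊓ W', inf_le_right, ?_, ?_⟩
        · rw [hη]
          exact hWk.basicOpen η
        · rw [Scheme.basicOpen_res, Scheme.Hom.preimage_inf, ek, inf_comm]
    obtain ⟨W₁, hW₁W, hW₁, e₁⟩ := hcov 0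
    refine isAffineOpen_of_two i n W W₁ W' hn ?_ hW₁ hW'aff (h 0) h' ⟨a 0, 1, ?_⟩ e₁ e'
    · apply preimage_injective i
      apply le_antisymm
      · rw [Scheme.Hom.preimage_sup, e₁, e']
        have h1 : i ⁻¹ᵁ W = Y₀.basicOpen (a 0 * h 0 + h') := by
          rw [hsum, Scheme.basicOpen_one]
        refine h1.le.trans ((Y₀.basicOpen_add_le _ _).trans (sup_le_sup_right ?_ _))
        rw [Scheme.basicOpen_mul]
        exact inf_le_right
      · intro x hx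
        rcases hx with hx | hx
        · exact hW₁W hx
        · exact hW'W hx
    · rw [one_mul]
      exact hsum


/-- **Main theorem**: for a surjective closed immersion `i : Y₀ ⟶ Y` whose kernel is nilpotent of
order `n` on every affine open, an open `W` of `Y` is affine as soon as `i⁻¹ W` is. -/
theorem isAffineOpen_of_isAffineOpen_preimage [IsClosedImmersion i] [Surjective i] (n : ℕ)
    (W : Y.Opens)
    (hn : ∀ U : Y.Opens, U ≤ W → IsAffineOpen U → (RingHom.ker (i.app U).hom) ^ n = ⊥)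
    (hW₀ : IsAffineOpen (i ⁻¹ᵁ W)) : IsAffineOpen W := by
  let S : Set Γ(Y₀, i ⁻¹ᵁ W) :=
    {f | ∃ Wf : Y.Opens, Wf ≤ W ∧ IsAffineOpen Wf ∧ i ⁻¹ᵁ Wf = Y₀.basicOpen f}
  have hS : Ideal.span S = ⊤ := by
    rw [← hW₀.self_le_iSup_basicOpen_iff]
    intro x hx
    obtain ⟨_, ⟨U, hU, rfl⟩, hxU, hUW⟩ := Y.isBasis_affineOpens.exists_subset_of_mem_open
      (show i x ∈ (W : Set Y) from hx) W.2
    obtain ⟨f, hf₁, hf₂⟩ := hW₀.exists_basicOpen_le (V := i ⁻¹ᵁ U) ⟨x, hxU⟩ hx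
    have hpU : i ⁻¹ᵁ U ≤ i ⁻¹ᵁ W := fun _ hy => hUW hy
    obtain ⟨η, -, hη⟩ := exists_lift_basicOpen i hU (imgOpen i (Y₀.basicOpen f)) hpU f
      (preimage_imgOpen i _)
    refine Opens.mem_iSup.mpr ⟨⟨f, U ⊓ imgOpen i (Y₀.basicOpen f), inf_le_left.trans hUW,
      hη ▸ hU.basicOpen η, ?_⟩, hf₂⟩
    rw [Scheme.Hom.preimage_inf, preimage_imgOpen]
    exact inf_eq_right.mpr hf₁
  obtain ⟨s', hs'S, hs'⟩ := (Ideal.span_eq_top_iff_finite _).mp hS
  have h1 : (1 : Γ(Y₀, i ⁻¹ᵁ W)) ∈ Ideal.span (s' : Set Γ(Y₀, i ⁻¹ᵁ W)) := by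
    rw [hs']; trivial
  obtain ⟨c, -, hc⟩ := Submodule.mem_span_finset.mp h1
  let e := s'.equivFin
  refine isAffineOpen_of_cover i n s'.card W hn hW₀ (fun k => (e.symm k).1)
    (fun k => c (e.symm k).1) ?_ ?_
  · rw [← hc, ← Finset.sum_coe_sort s' (fun x => c x • x)]
    exact Equiv.sum_comp e.symm (fun x : s' => c x.1 * x.1)
  · intro k
    exact hs'S (e.symm k).2


/-- Scheme version: a finite order thickening of an affine scheme is affine. -/
theorem isAffine_of_ker_pow_eq_bot [IsClosedImmersion i] [Surjective i] (n : ℕ)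
    (hn : ∀ U : Y.Opens, IsAffineOpen U → (RingHom.ker (i.app U).hom) ^ n = ⊥) [IsAffine Y₀] :
    IsAffine Y := by
  have h := isAffineOpen_of_isAffineOpen_preimage i n ⊤ (fun U _ => hn U) (isAffineOpen_top Y₀)
  haveI : IsAffine ((⊤ : Y.Opens) : Scheme.{u}) := h
  exact IsAffine.of_isIso Y.topIso.inv

theorem ker_pow_eq_bot_of_idealSheaf [IsClosedImmersion i] (n : ℕ) (hn : i.ker ^ n = ⊥)
    (U : Y.Opens) (hU : IsAffineOpen U) : (RingHom.ker (i.app U).hom) ^ n = ⊥ := by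
  have h1 : (i.ker ^ n).ideal ⟨U, hU⟩ = ⊥ := by rw [hn]; rfl
  rw [Scheme.IdealSheafData.ideal_pow, Pi.pow_apply, Scheme.Hom.ker_apply] at h1
  exact h1

theorem isAffine_of_idealSheaf_pow_eq_bot [IsClosedImmersion i] [Surjective i] (n : ℕ)
    (hn : i.ker ^ n = ⊥) [IsAffine Y₀] : IsAffine Y :=
  isAffine_of_ker_pow_eq_bot i n (ker_pow_eq_bot_of_idealSheaf i n hn)

end Groth.Agent.H22.ThickAffine
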