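import Mathlib
import Groth.Agent.Lib.helper22.ThickAffine
import Groth.Agent.Lib.helper22.ThickBC
import Groth.Agent.Lib.helper22.NilSurj

/-!
# Closed immersions can be detected after base change to a (general) thickening
-/

universe u

open CategoryTheory CategoryTheory.Limits AlgebraicGeometry

namespace Groth.Agent.H22.ThickCI

/-- If `j : X₀ ⟶ X` is a surjective closed immersion and `j ≫ f` is a closed immersion, then
`f` is (topologically) a closed embedding. -/
theorem isClosedEmbedding_of_comp {X₀ X S : Scheme.{u}} (j : X₀ ⟶ X) (f : X ⟶ S)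
    [IsClosedImmersion j] [Surjective j] [IsClosedImmersion (j ≫ f)] :
    Topology.IsClosedEmbedding f := by
  let h : X₀ ≃ₜ X := j.isClosedEmbedding.isEmbedding.toHomeomorphOfSurjective j.surjective
  have h1 : Topology.IsClosedEmbedding (j ≫ f) := (j ≫ f).isClosedEmbedding
  have h2 := h1.comp h.symm.isClosedEmbedding
  convert h2 using 1
  ext x
  have : j (h.symm x) = x := h.apply_symm_apply x
  simp only [Function.comp_apply, Scheme.Hom.comp_apply, this]

/-- affine version of the above. -/
theorem isAffineHom_of_comp {X₀ X S : Scheme.{u}} (j : X₀ ⟶ X) (f : X ⟶ S)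
    [IsClosedImmersion j] [Surjective j] [IsClosedImmersion (j ≫ f)] : IsAffineHom f :=
  have := isClosedEmbedding_of_comp j f
  isAffineHom_of_isInducing f this.isInducing this.isClosed_range

open Groth.Agent.H22.ThickAffine in
theorem ker_le_nilradical {S' S : Scheme.{u}} (i : S' ⟶ S) [Surjective i] {U : S.Opens}
    (hU : IsAffineOpen U) : RingHom.ker (i.app U).hom ≤ nilradical Γ(S, U) := by
  intro a ha
  rw [RingHom.mem_ker] at ha
  rw [mem_nilradical, Scheme.isNilpotent_iff_basicOpen_eq_bot_of_isCompact hU.isCompact]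
  apply preimage_injective i
  rw [Scheme.preimage_basicOpen]
  have ha' : i.app U a = 0 := ha
  rw [ha', Scheme.basicOpen_zero]
  rfl

/-- **Core lemma.**  Let `i : S' ⟶ S` be a surjective closed immersion (a thickening, with no
nilpotency assumption), `f : X ⟶ S` locally of finite type, and suppose the base change of `f`
along `i` is a closed immersion.  Then `f` is a closed immersion. -/
theorem isClosedImmersion_of_isPullback {P X S S' : Scheme.{u}} (i' : P ⟶ X) (s' : P ⟶ S')
    (f : X ⟶ S) (i : S' ⟶ S) (hc : IsPullback i' s' f i) [IsClosedImmersion i] [Surjective i]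
    [LocallyOfFiniteType f] [IsClosedImmersion s'] : IsClosedImmersion f := by
  haveI : IsClosedImmersion i' :=
    MorphismProperty.of_isPullback (P := @IsClosedImmersion) hc.flip inferInstance
  haveI : Surjective i' := MorphismProperty.of_isPullback (P := @Surjective) hc.flip inferInstance
  haveI : IsClosedImmersion (i' ≫ f) := by rw [hc.w]; infer_instance
  haveI := isAffineHom_of_comp i' f
  rw [isClosedImmersion_iff_isAffineHom]
  refine ⟨inferInstance, fun U hU => ?_⟩
  have hV : IsAffineOpen (f ⁻¹ᵁ U) := hU.preimage f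
  have hft := f.finiteType_appLE hU hV le_rfl
  have happ : f.appLE U (f ⁻¹ᵁ U) le_rfl = f.app U := (Scheme.Hom.app_eq_appLE f).symm
  rw [happ] at hft
  letI alg : Algebra Γ(S, U) Γ(X, f ⁻¹ᵁ U) := (f.app U).hom.toAlgebra
  haveI : Algebra.FiniteType Γ(S, U) Γ(X, f ⁻¹ᵁ U) := hft
  have hsurj := (i' ≫ f).app_surjective U hU
  have key := Groth.Agent.H22.ThickBC.ker_ideal_le_map_of_isPullback i' s' f i hc (f ⁻¹ᵁ U) hV U
    hU le_rfl
  rw [Scheme.Hom.ker_apply, Scheme.Hom.ker_apply, happ] at key
  change Function.Surjective (algebraMap Γ(S, U) Γ(X, f ⁻¹ᵁ U))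
  refine Groth.Agent.H22.NilSurj.surjective_of_nil (RingHom.ker (i.app U).hom)
    (ker_le_nilradical i hU) fun a => ?_
  obtain ⟨r, hr⟩ := hsurj ((i'.app (f ⁻¹ᵁ U)).hom a)
  refine ⟨r, key ?_⟩
  rw [RingHom.mem_ker, map_sub, sub_eq_zero]
  rw [Scheme.Hom.comp_app] at hr
  exact hr.symm

end Groth.Agent.H22.ThickCI
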