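import Mathlib
import Groth.Prelude.Def_MoreMor
import Groth.Agent.Lib.helper22.Deform
import Groth.Agent.Lib.helper22.DeformFP
import Groth.Agent.Lib.helper22.ThickCI

/-!
# Deformation set-up across an arbitrary thickening (nil ideal) (helper22)
-/

universe u

open CategoryTheory CategoryTheory.Limits AlgebraicGeometry TensorProduct Function

namespace Groth.Agent.H22.Deform

/-- Ring-level data for an arbitrary thickening: like `DeformData` but `J` is only nil. -/
structure ThickData {C' B' A' B A : Type u} [CommRing C'] [CommRing B'] [CommRing A']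
    [CommRing B] [CommRing A] (γ : C' →+* B') (φ' : B' →+* A') (πB : B' →+* B) (πA : A' →+* A)
    (φ : B →+* A) (J : Ideal C') : Prop where
  surjB : Function.Surjective πB
  surjA : Function.Surjective πA
  nil : J ≤ nilradical C'
  kerB : RingHom.ker πB = J.map γ
  kerA : RingHom.ker πA = J.map (φ'.comp γ)
  comm : φ.comp πB = πA.comp φ'
  flat : (φ'.comp γ).Flat

section Geom

variable {X X' Y Y' S S' : Scheme.{u}} {iX : X ⟶ X'} {iY : Y ⟶ Y'} {iS : S ⟶ S'}
    {f : X ⟶ Y} {f' : X' ⟶ Y'} {g : Y ⟶ S} {g' : Y' ⟶ S'}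

theorem thickData (hS : MoreMor.IsThickening iS)
    (hcX : IsPullback iX (f ≫ g) (f' ≫ g') iS) (hcY : IsPullback iY g g' iS)
    (w : iX ≫ f' = f ≫ iY) [Flat (f' ≫ g')]
    {W : S'.Opens} (hW : IsAffineOpen W) {U : Y'.Opens} (hU : IsAffineOpen U)
    {V : X'.Opens} (hV : IsAffineOpen V) (eU : U ≤ g' ⁻¹ᵁ W) (eV : V ≤ f' ⁻¹ᵁ U)
    (e' : iX ⁻¹ᵁ V ≤ f ⁻¹ᵁ (iY ⁻¹ᵁ U)) :
    ThickData (g'.appLE W U eU).hom (f'.appLE U V eV).hom (iY.app U).hom (iX.app V).hom
      (f.appLE (iY ⁻¹ᵁ U) (iX ⁻¹ᵁ V) e').hom (RingHom.ker (iS.app W).hom) := by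
  haveI : IsClosedImmersion iS := hS.1
  haveI : AlgebraicGeometry.Surjective iS := hS.2
  haveI : IsClosedImmersion iY :=
    MorphismProperty.of_isPullback (P := @IsClosedImmersion) hcY.flip inferInstance
  haveI : IsClosedImmersion iX :=
    MorphismProperty.of_isPullback (P := @IsClosedImmersion) hcX.flip inferInstance
  have eW : V ≤ (f' ≫ g') ⁻¹ᵁ W := fun y hy => eU (eV hy)
  have hcomp : (f' ≫ g').appLE W V eW = g'.appLE W U eU ≫ f'.appLE U V eV := by
    rw [Scheme.Hom.appLE_comp_appLE]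
  refine ⟨iY.app_surjective U hU, iX.app_surjective V hV, ?_, ?_, ?_, ?_, ?_⟩
  · exact Groth.Agent.H22.ThickCI.ker_le_nilradical iS hW
  · exact ker_app_eq_map iY g g' iS hcY U hU W hW eU
  · have := ker_app_eq_map iX (f ≫ g) (f' ≫ g') iS hcX V hV W hW eW
    rw [this, hcomp]
    rfl
  · have hle : iX ⁻¹ᵁ V ≤ (iX ≫ f') ⁻¹ᵁ U := fun y hy => eV hy
    have h1 : f'.appLE U V eV ≫ iX.app V = (iX ≫ f').appLE U (iX ⁻¹ᵁ V) hle := by
      rw [Scheme.Hom.app_eq_appLE, Scheme.Hom.appLE_comp_appLE]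
    have hle2 : iX ⁻¹ᵁ V ≤ (f ≫ iY) ⁻¹ᵁ U := by rw [← w]; exact hle
    have h2 : (iX ≫ f').appLE U (iX ⁻¹ᵁ V) hle = (f ≫ iY).appLE U (iX ⁻¹ᵁ V) hle2 := by
      congr 1
    have h3 : (f ≫ iY).appLE U (iX ⁻¹ᵁ V) hle2 = iY.app U ≫ f.appLE (iY ⁻¹ᵁ U) (iX ⁻¹ᵁ V) e' := by
      rw [Scheme.Hom.app_eq_appLE, Scheme.Hom.appLE_comp_appLE]
    have := h1.trans (h2.trans h3)
    ext b
    exact (congr($this b)).symm
  · have := HasRingHomProperty.appLE @Flat (f' ≫ g') inferInstance ⟨W, hW⟩ ⟨V, hV⟩ eW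
    rw [hcomp] at this
    exact this

end Geom

section Alg

variable {C' B' A' B A : Type u} [CommRing C'] [CommRing B'] [CommRing A']
    [CommRing B] [CommRing A] {γ : C' →+* B'} {φ' : B' →+* A'} {πB : B' →+* B} {πA : A' →+* A}
    {φ : B →+* A} {J : Ideal C'}

theorem ThickData.map_le_nilradical (h : ThickData γ φ' πB πA φ J) :
    J.map γ ≤ nilradical B' := by
  rw [Ideal.map_le_iff_le_comap]
  intro j hj
  rw [Ideal.mem_comap, mem_nilradical]
  exact (mem_nilradical.mp (h.nil hj)).map γ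

/-- In the situation of `ThickData`, if `φ` is injective, `φ'` is surjective, `A'` is of finite
presentation over `C'` and `B'` of finite type over `C'`, then `φ'` is injective. -/
theorem ThickData.injective (h : ThickData γ φ' πB πA φ J) (hφ : Injective φ)
    (hφ' : Surjective φ') (hfp : (φ'.comp γ).FinitePresentation) (hft : γ.FiniteType) :
    Injective φ' := by
  letI := γ.toAlgebra
  letI := φ'.toAlgebra
  letI : Algebra C' A' := (φ'.comp γ).toAlgebra
  haveI : IsScalarTower C' B' A' := IsScalarTower.of_algebraMap_eq (fun _ => rfl)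
  haveI : Module.Flat C' A' := h.flat
  haveI : Algebra.FinitePresentation C' A' := hfp
  haveI : Algebra.FiniteType C' B' := hft
  haveI : Algebra.FinitePresentation B' A' :=
    Algebra.FinitePresentation.of_restrict_scalars_finitePresentation C' B' A'
  set I : Ideal B' := J.map (algebraMap C' B') with hI
  set K : Ideal B' := RingHom.ker (algebraMap B' A') with hK
  have hKfg : K.FG :=
    Algebra.FinitePresentation.ker_fG_of_surjective (Algebra.ofId B' A') hφ'
  have hKI : K ≤ I := by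
    intro b hb
    have h1 : πA (φ' b) = 0 := by
      have : φ' b = 0 := hb
      rw [this, map_zero]
    have h2 : φ (πB b) = 0 := by
      have := congr($(h.comm) b)
      simp only [RingHom.comp_apply] at this
      rw [this, h1]
    have h3 : πB b = 0 := hφ (by rw [h2, map_zero])
    have h4 : b ∈ RingHom.ker πB := h3
    rw [h.kerB] at h4
    exact h4
  have hT : Injective (J.subtype.rTensor A') :=
    Module.Flat.rTensor_preserves_injective_linearMap _ Subtype.val_injective
  have hKIK : K ≤ I • K := by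
    intro z hz
    have hz1 : z ∈ J • (⊤ : Submodule C' B') := by
      rw [Ideal.smul_top_eq_map]
      exact hKI hz
    have hz2 : (IsScalarTower.toAlgHom C' B' A').toLinearMap z = 0 := hz
    have := Groth.Agent.H22.DeformFP.mem_smul_ker J (IsScalarTower.toAlgHom C' B' A').toLinearMap
      hφ' hT hz1 hz2
    refine Submodule.smul_induction_on this ?_ ?_
    · intro j hj k hk
      rw [Algebra.smul_def]
      exact Ideal.mul_mem_mul (Ideal.mem_map_of_mem _ hj) hk
    · intro x y hx hy
      exact Ideal.add_mem _ hx hy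
  have hIjac : I ≤ Ideal.jacobson ⊥ := by
    refine h.map_le_nilradical.trans ?_
    rw [nilradical_eq_sInf]
    exact le_sInf fun P hP => sInf_le (Set.mem_setOf.mpr hP.2.isPrime) |> fun h => h

  have hK0 : K = ⊥ := Submodule.eq_bot_of_le_smul_of_le_jacobson_bot I K hKfg hKIK hIjac
  exact (RingHom.injective_iff_ker_eq_bot _).mpr hK0

end Alg

end Groth.Agent.H22.Deform
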