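import Mathlib
import Groth.Agent.Lib.helper22.DeformFP

/-!
# Smoothness lifts along nilpotent thickenings (DeformData form) (helper22)
-/

universe u

open TensorProduct Function

namespace Groth.Agent.H22.Deform

variable {C' B' A' B A : Type u} [CommRing C'] [CommRing B'] [CommRing A']
    [CommRing B] [CommRing A] {γ : C' →+* B'} {φ' : B' →+* A'} {πB : B' →+* B} {πA : A' →+* A}
    {φ : B →+* A} {J : Ideal C'}

theorem smooth_of_deformData (h : DeformData γ φ' πB πA φ J) (hφ : φ.Smooth) : φ'.Smooth := by
  have hflat : φ'.Flat := flat_of_deformData h hφ.flat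
  have hfp : φ'.FinitePresentation := fp_of_deformData h hφ.finitePresentation
  letI := γ.toAlgebra
  letI := φ'.toAlgebra
  set I : Ideal B' := J.map (algebraMap C' B') with hI
  obtain ⟨n, hn⟩ := h.isNilpotent_map
  replace hn : I ^ n = ⊥ := hn
  have hq : (algebraMap (B' ⧸ I) (A' ⧸ I.map (algebraMap B' A'))).Smooth :=
    h.quotientMap_of RingHom.Smooth.respectsIso hφ
  rw [RingHom.smooth_algebraMap] at hq
  haveI := hq
  haveI : Module.Flat B' A' := hflat
  haveI : Algebra.FinitePresentation B' A' := hfp
  have : Algebra.Smooth B' A' := by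
    apply Algebra.Smooth.of_formallySmooth_fiber
    intro p hp
    have hIp : I ≤ p := Ideal.IsPrime.le_of_pow_le (n := n) (by rw [hn]; exact bot_le)
    letI : Algebra (B' ⧸ I) p.ResidueField :=
      (Ideal.Quotient.lift I (algebraMap B' p.ResidueField)
        (fun a ha => (Ideal.algebraMap_residueField_eq_zero).mpr (hIp ha))).toAlgebra
    haveI : IsScalarTower B' (B' ⧸ I) p.ResidueField :=
      IsScalarTower.of_algebraMap_eq (fun _ => rfl)
    haveI : Algebra.Smooth (B' ⧸ I) ((B' ⧸ I) ⊗[B'] A') :=
      Algebra.Smooth.of_equiv (Algebra.TensorProduct.quotIdealMapEquivQuotTensor A' I)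
    haveI : Algebra.FormallySmooth p.ResidueField
        (p.ResidueField ⊗[B' ⧸ I] ((B' ⧸ I) ⊗[B'] A')) := inferInstance
    exact Algebra.FormallySmooth.of_equiv
      (Algebra.TensorProduct.cancelBaseChange B' (B' ⧸ I) p.ResidueField p.ResidueField A')
  exact this

end Groth.Agent.H22.Deform
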