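import Mathlib
import Groth.Agent.Lib.helper22.NilUnram
import Groth.Agent.Lib.helper22.DeformAlg

/-!
# Formally unramified lifts along nilpotent thickenings (DeformData form) (helper22)
-/

universe u

open TensorProduct Function

namespace Groth.Agent.H22.Deform

variable {C' B' A' B A : Type u} [CommRing C'] [CommRing B'] [CommRing A']
    [CommRing B] [CommRing A] {γ : C' →+* B'} {φ' : B' →+* A'} {πB : B' →+* B} {πA : A' →+* A}
    {φ : B →+* A} {J : Ideal C'}

theorem unram_of_deformData (h : DeformData γ φ' πB πA φ J) (hφ : φ.FormallyUnramified) :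
    φ'.FormallyUnramified := by
  letI := γ.toAlgebra
  letI := φ'.toAlgebra
  set I : Ideal B' := J.map (algebraMap C' B') with hI
  obtain ⟨n, hn⟩ := h.isNilpotent_map
  have hq : (algebraMap (B' ⧸ I) (A' ⧸ I.map (algebraMap B' A'))).FormallyUnramified :=
    h.quotientMap_of RingHom.FormallyUnramified.respectsIso hφ
  rw [RingHom.formallyUnramified_algebraMap] at hq
  haveI := hq
  haveI : Algebra.FormallyUnramified B' (B' ⧸ I) :=
    Algebra.FormallyUnramified.of_surjective (Algebra.ofId B' (B' ⧸ I)) Ideal.Quotient.mk_surjective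
  haveI : Algebra.FormallyUnramified B' (A' ⧸ I.map (algebraMap B' A')) :=
    Algebra.FormallyUnramified.comp B' (B' ⧸ I) (A' ⧸ I.map (algebraMap B' A'))
  exact Groth.Agent.H22.NilUnram.formallyUnramified_of_quotient_map I n hn

end Groth.Agent.H22.Deform
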