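import Mathlib

/-!
# Subalgebras of finite-dimensional division algebras (helper22)

* `finrank_subalgebra_dvd`: the dimension of a subalgebra of a finite-dimensional division algebra
  divides the dimension of the algebra.
-/

set_option autoImplicit false

namespace Groth.Agent.Lib.helper22.DivAlg

open Module

/-- In a finite-dimensional division algebra `A` over a field `K`, the dimension of any subalgebra
divides the dimension of `A`. -/
theorem finrank_subalgebra_dvd {K A : Type*} [Field K] [DivisionRing A] [Algebra K A]
    [FiniteDimensional K A] (S : Subalgebra K A) : finrank K S ∣ finrank K A := by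
  letI : DivisionRing S := divisionRingOfFiniteDimensional K S
  exact Module.finrank_dvd_finrank_right K S A

/-- A subalgebra of full dimension is everything. -/
theorem eq_top_of_finrank_eq {K A : Type*} [Field K] [DivisionRing A] [Algebra K A]
    [FiniteDimensional K A] (S : Subalgebra K A) (h : finrank K S = finrank K A) : S = ⊤ := by
  apply Subalgebra.toSubmodule_injective
  rw [Algebra.top_toSubmodule]
  exact Submodule.eq_top_of_finrank_eq h

/-- In a division algebra of dimension `p ^ 2` (`p` prime), a subalgebra containing two
non-commuting elements is everything, provided it contains a subalgebra of dimension `p`... -/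
theorem finrank_eq_one_or_prime_or_sq {K A : Type*} [Field K] [DivisionRing A] [Algebra K A]
    [FiniteDimensional K A] {p : ℕ} (hp : p.Prime) (hA : finrank K A = p ^ 2) (S : Subalgebra K A) :
    finrank K S = 1 ∨ finrank K S = p ∨ finrank K S = p ^ 2 := by
  have h := finrank_subalgebra_dvd S
  rw [hA, Nat.dvd_prime_pow hp] at h
  obtain ⟨k, hk, hk'⟩ := h
  interval_cases k
  · left; simpa using hk'
  · right; left; simpa using hk'
  · right; right; exact hk'

/-- An element commuting with everything lies in the base field (central algebra). -/
theorem mem_range_of_forall_commute {K A : Type*} [Field K] [Ring A] [Algebra K A]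
    [Algebra.IsCentral K A] (x : A) (h : ∀ y : A, y * x = x * y) :
    x ∈ (algebraMap K A).range := by
  have hmem : x ∈ Subalgebra.center K A := by
    rw [Subalgebra.mem_center_iff]; exact h
  rw [Algebra.IsCentral.center_eq_bot, Algebra.mem_bot] at hmem
  exact hmem

/-- An element commuting with `x` and `y` commutes with all of `adjoin K {x, y}`. -/
theorem commute_of_mem_adjoin_pair {K A : Type*} [Field K] [Ring A] [Algebra K A]
    (x y z : A) (hx : x * z = z * x) (hy : y * z = z * y) (a : A)
    (ha : a ∈ Algebra.adjoin K {x, y}) : a * z = z * a := by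
  have hle : Algebra.adjoin K {x, y} ≤ Subalgebra.centralizer K {z} := by
    apply Algebra.adjoin_le
    intro b hb
    rw [SetLike.mem_coe, Subalgebra.mem_centralizer_iff]
    intro g hg
    rw [Set.mem_singleton_iff] at hg
    rcases hb with rfl | hb
    · rw [hg]; exact hx.symm
    · rw [Set.mem_singleton_iff] at hb; rw [hg, hb]; exact hy.symm
  have := hle ha
  rw [Subalgebra.mem_centralizer_iff] at this
  exact (this z rfl).symm

/-- Everything in `adjoin K {x}` commutes with `x`. -/
theorem commute_of_mem_adjoin_singleton {K A : Type*} [Field K] [Ring A] [Algebra K A]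
    (x a : A) (ha : a ∈ Algebra.adjoin K {x}) : a * x = x * a := by
  have hle : Algebra.adjoin K {x} ≤ Subalgebra.centralizer K {x} := by
    apply Algebra.adjoin_le
    intro b hb
    rw [Set.mem_singleton_iff] at hb
    rw [SetLike.mem_coe, Subalgebra.mem_centralizer_iff]
    intro g hg
    rw [Set.mem_singleton_iff] at hg
    rw [hg, hb]
  have := hle ha
  rw [Subalgebra.mem_centralizer_iff] at this
  exact (this x rfl).symm

/-- In a central division algebra of dimension `p ^ 2`, a non-central element generates a
subalgebra of dimension `p`. -/
theorem finrank_adjoin_singleton {K A : Type*} [Field K] [DivisionRing A] [Algebra K A]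
    [Algebra.IsCentral K A] [FiniteDimensional K A] {p : ℕ} (hp : p.Prime)
    (hA : finrank K A = p ^ 2) (x : A) (hx : x ∉ (algebraMap K A).range) :
    finrank K (Algebra.adjoin K {x}) = p := by
  rcases finrank_eq_one_or_prime_or_sq hp hA (Algebra.adjoin K {x}) with h | h | h
  · exfalso
    rw [Subalgebra.finrank_eq_one_iff] at h
    have : x ∈ Algebra.adjoin K {x} := Algebra.subset_adjoin rfl
    rw [h, Algebra.mem_bot] at this
    exact hx this
  · exact h
  · exfalso
    have htop := eq_top_of_finrank_eq _ (h.trans hA.symm)
    apply hx
    apply mem_range_of_forall_commute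
    intro y
    exact commute_of_mem_adjoin_singleton (K := K) x y (by rw [htop]; trivial)

/-- In a central division algebra of dimension `p ^ 2`, two non-commuting elements generate. -/
theorem adjoin_pair_eq_top {K A : Type*} [Field K] [DivisionRing A] [Algebra K A]
    [Algebra.IsCentral K A] [FiniteDimensional K A] {p : ℕ} (hp : p.Prime)
    (hA : finrank K A = p ^ 2) (x y : A) (hxy : x * y ≠ y * x) :
    Algebra.adjoin K {x, y} = ⊤ := by
  have hx : x ∉ (algebraMap K A).range := by
    rintro ⟨k, rfl⟩
    exact hxy (Algebra.commutes k y)
  have h1 := finrank_adjoin_singleton hp hA x hx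
  have hle : Algebra.adjoin K {x} ≤ Algebra.adjoin K {x, y} :=
    Algebra.adjoin_mono (by intro a ha; rw [Set.mem_singleton_iff] at ha; rw [ha]; exact Or.inl rfl)
  have hle' : Subalgebra.toSubmodule (Algebra.adjoin K {x}) ≤
      Subalgebra.toSubmodule (Algebra.adjoin K {x, y}) := hle
  rcases finrank_eq_one_or_prime_or_sq hp hA (Algebra.adjoin K {x, y}) with h | h | h
  · exfalso
    have := Submodule.finrank_mono hle'
    have h2 : finrank K (Algebra.adjoin K {x}) ≤ finrank K (Algebra.adjoin K {x, y}) := this
    rw [h1, h] at h2
    exact absurd h2 (not_le.2 hp.one_lt)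
  · exfalso
    have heq : Subalgebra.toSubmodule (Algebra.adjoin K {x}) =
        Subalgebra.toSubmodule (Algebra.adjoin K {x, y}) :=
      Submodule.eq_of_le_of_finrank_eq hle' (by
        show finrank K (Algebra.adjoin K {x}) = finrank K (Algebra.adjoin K {x, y})
        rw [h1, h])
    have hy : y ∈ Algebra.adjoin K {x, y} := Algebra.subset_adjoin (Or.inr rfl)
    have hy' : y ∈ Algebra.adjoin K {x} := by
      have : y ∈ Subalgebra.toSubmodule (Algebra.adjoin K {x}) := by rw [heq]; exact hy
      exact this
    exact hxy (commute_of_mem_adjoin_singleton (K := K) x y hy').symm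
  · exact eq_top_of_finrank_eq _ (h.trans hA.symm)

end Groth.Agent.Lib.helper22.DivAlg
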