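import Mathlib.RingTheory.Etale.Weakly
import Mathlib.RingTheory.Ideal.Pure
import Mathlib.LinearAlgebra.TensorProduct.Quotient
import Mathlib.RingTheory.TensorProduct.Maps
import Mathlib.Tactic

/-! If `B ⊗[A] B → B` is flat, then a `B`-module flat over `A` is flat over `B`.
Universe-generalized copy of `Groth.Agent.Lib.helper11.FlatDiag` (module in `Type v`). -/

namespace Groth.Agent.H22.FlatDiagU

open TensorProduct

universe u v

section act

variable (A B : Type u) [CommRing A] [CommRing B] [Algebra A B]
variable (M : Type u) (N : Type v) [AddCommGroup M] [Module A M] [Module B M] [IsScalarTower A B M]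
  [AddCommGroup N] [Module A N] [Module B N] [IsScalarTower A B N]

/-- The action of `B ⊗[A] B` on `M ⊗[A] N`. -/
noncomputable def act : (B ⊗[A] B) →ₐ[A] Module.End A (M ⊗[A] N) :=
  Algebra.TensorProduct.lift
    ((Module.End.rTensorAlgHom A M N).comp (Algebra.lsmul A A M : B →ₐ[A] Module.End A M))
    ((Module.End.lTensorAlgHom A N M).comp (Algebra.lsmul A A N : B →ₐ[A] Module.End A N))
    (by
      intro b₁ b₂
      change _ * _ = _ * _
      apply TensorProduct.ext'
      intro m n
      change (LinearMap.rTensor N (Algebra.lsmul A A M b₁))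
          ((LinearMap.lTensor M (Algebra.lsmul A A N b₂)) (m ⊗ₜ n)) =
        (LinearMap.lTensor M (Algebra.lsmul A A N b₂))
          ((LinearMap.rTensor N (Algebra.lsmul A A M b₁)) (m ⊗ₜ n))
      rw [LinearMap.lTensor_tmul, LinearMap.rTensor_tmul, LinearMap.rTensor_tmul,
        LinearMap.lTensor_tmul])

theorem act_tmul (b₁ b₂ : B) (m : M) (n : N) :
    act A B M N (b₁ ⊗ₜ[A] b₂) (m ⊗ₜ[A] n) = (b₁ • m) ⊗ₜ[A] (b₂ • n) := by
  rw [act, Algebra.TensorProduct.lift_tmul]
  change (LinearMap.rTensor N (Algebra.lsmul A A M b₁))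
      ((LinearMap.lTensor M (Algebra.lsmul A A N b₂)) (m ⊗ₜ n)) = _
  rw [LinearMap.lTensor_tmul, LinearMap.rTensor_tmul]
  rfl

theorem smul_eq_act (b : B) (y : M ⊗[A] N) : b • y = act A B M N (b ⊗ₜ 1) y := by
  induction y using TensorProduct.induction_on with
  | zero => simp
  | tmul m n => rw [act_tmul, one_smul, TensorProduct.smul_tmul']
  | add y₁ y₂ h₁ h₂ => rw [smul_add, map_add, h₁, h₂]

variable {M} in
theorem act_natural {M' : Type u} [AddCommGroup M'] [Module A M'] [Module B M'] [IsScalarTower A B M']
    (f : M' →ₗ[B] M) (c : B ⊗[A] B) (x : M' ⊗[A] N) :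
    (f.restrictScalars A).rTensor N (act A B M' N c x) =
      act A B M N c ((f.restrictScalars A).rTensor N x) := by
  induction c using TensorProduct.induction_on with
  | zero => simp
  | tmul b₁ b₂ =>
    induction x using TensorProduct.induction_on with
    | zero => simp
    | tmul m n => simp [act_tmul]
    | add x y hx hy => simp only [map_add, hx, hy]
  | add c₁ c₂ h₁ h₂ => simp only [map_add, LinearMap.add_apply, h₁, h₂]

/-- The projection `M ⊗[A] N → M ⊗[B] N`. -/
noncomputable abbrev proj : M ⊗[A] N →ₗ[B] M ⊗[B] N := TensorProduct.mapOfCompatibleSMul B A B M N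

theorem proj_act (c : B ⊗[A] B) (x : M ⊗[A] N) :
    proj A B M N (act A B M N c x) = (Algebra.TensorProduct.lmul' A (S := B) c) • proj A B M N x := by
  induction c using TensorProduct.induction_on with
  | zero => simp
  | tmul b₁ b₂ =>
    induction x using TensorProduct.induction_on with
    | zero => simp
    | tmul m n =>
      rw [act_tmul]
      simp only [TensorProduct.mapOfCompatibleSMul_tmul, Algebra.TensorProduct.lmul'_apply_tmul]
      rw [TensorProduct.tmul_smul, TensorProduct.smul_tmul', TensorProduct.smul_tmul', smul_smul, mul_comm]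
    | add x y hx hy => simp only [map_add, hx, hy, smul_add]
  | add c₁ c₂ h₁ h₂ => simp only [map_add, LinearMap.add_apply, h₁, h₂, add_smul]

theorem proj_natural {M' : Type u} [AddCommGroup M'] [Module A M'] [Module B M'] [IsScalarTower A B M']
    (f : M' →ₗ[B] M) (x : M' ⊗[A] N) :
    proj A B M N ((f.restrictScalars A).rTensor N x) = f.rTensor N (proj A B M' N x) := by
  induction x using TensorProduct.induction_on with
  | zero => simp
  | tmul m n => simp
  | add x y hx hy => simp only [map_add, hx, hy]

end act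

section main

variable (A B : Type u) [CommRing A] [CommRing B] [Algebra A B]

/-- The kernel of multiplication is a pure ideal if multiplication is flat. -/
theorem exists_eq_mul (h : (Algebra.TensorProduct.lmul' A (S := B)).Flat)
    (j : B ⊗[A] B) (hj : Algebra.TensorProduct.lmul' A (S := B) j = 0) :
    ∃ j' : B ⊗[A] B, Algebra.TensorProduct.lmul' A (S := B) j' = 0 ∧ j = j * j' := by
  let _ : Algebra (B ⊗[A] B) B := (Algebra.TensorProduct.lmul' A (S := B)).toRingHom.toAlgebra
  have hflat : Module.Flat (B ⊗[A] B) B := h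
  have hsurj : Function.Surjective (Algebra.linearMap (B ⊗[A] B) B) := by
    intro b
    exact ⟨b ⊗ₜ 1, by
      change Algebra.TensorProduct.lmul' A (S := B) (b ⊗ₜ[A] (1 : B)) = b
      simp⟩
  let J : Ideal (B ⊗[A] B) := LinearMap.ker (Algebra.linearMap (B ⊗[A] B) B)
  have hmem : ∀ x, x ∈ J ↔ Algebra.TensorProduct.lmul' A (S := B) x = 0 := by
    intro x
    exact LinearMap.mem_ker
  have e : ((B ⊗[A] B) ⧸ J) ≃ₗ[B ⊗[A] B] B :=
    LinearMap.quotKerEquivOfSurjective (Algebra.linearMap (B ⊗[A] B) B) hsurj
  have : J.Pure := Module.Flat.of_linearEquiv e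
  obtain ⟨y, hy, hxy⟩ := Ideal.exists_eq_mul_of_pure ((hmem j).2 hj)
  exact ⟨y, (hmem y).1 hy, hxy⟩

variable (N : Type v) [AddCommGroup N] [Module A N] [Module B N] [IsScalarTower A B N]

theorem rTensor_injective (h : (Algebra.TensorProduct.lmul' A (S := B)).Flat) [Module.Flat A N]
    {M' M : Type u} [AddCommGroup M'] [Module A M'] [Module B M'] [IsScalarTower A B M']
    [AddCommGroup M] [Module A M] [Module B M] [IsScalarTower A B M]
    (f : M' →ₗ[B] M) (hf : Function.Injective f) : Function.Injective (f.rTensor N) := by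
  rw [injective_iff_map_eq_zero]
  intro z hz
  obtain ⟨x, rfl⟩ := TensorProduct.mapOfCompatibleSMul_surjective B A B M' N z
  change f.rTensor N (proj A B M' N x) = 0 at hz
  rw [← proj_natural] at hz
  set F := (f.restrictScalars A).rTensor N with hF
  have hFinj : Function.Injective F :=
    Module.Flat.rTensor_preserves_injective_linearMap (f.restrictScalars A) hf
  -- every element of ker proj is killed by some e' with μ e' = 1
  have good : ∀ y ∈ LinearMap.ker (proj A B M N),
      ∃ e' : B ⊗[A] B, Algebra.TensorProduct.lmul' A (S := B) e' = 1 ∧ act A B M N e' y = 0 := by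
    intro y hy
    rw [show proj A B M N = TensorProduct.mapOfCompatibleSMul B A B M N from rfl,
      TensorProduct.AlgebraTensorModule.ker_mapOfCompatibleSMul] at hy
    induction hy using Submodule.span_induction with
    | mem y hy =>
      obtain ⟨b, m, n, rfl⟩ := hy
      set j : B ⊗[A] B := b ⊗ₜ 1 - 1 ⊗ₜ b with hjdef
      have hj0 : Algebra.TensorProduct.lmul' A (S := B) j = 0 := by simp [hjdef]
      obtain ⟨j', hj'0, hjj'⟩ := exists_eq_mul A B h j hj0
      have hy : (b • m) ⊗ₜ[A] n - m ⊗ₜ[A] (b • n) = act A B M N j (m ⊗ₜ n) := by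
        rw [hjdef, map_sub, LinearMap.sub_apply, act_tmul, act_tmul, one_smul, one_smul]
      refine ⟨1 - j', by rw [map_sub, map_one, hj'0, sub_zero], ?_⟩
      rw [hy, ← Module.End.mul_apply, ← map_mul]
      have : (1 - j') * j = 0 := by
        rw [sub_mul, one_mul, mul_comm j' j, ← hjj', sub_self]
      rw [this, map_zero, LinearMap.zero_apply]
    | zero => exact ⟨1, map_one _, map_zero _⟩
    | add y₁ y₂ _ _ h₁ h₂ =>
      obtain ⟨e₁, he₁, h₁⟩ := h₁
      obtain ⟨e₂, he₂, h₂⟩ := h₂
      refine ⟨e₁ * e₂, by rw [map_mul, he₁, he₂, one_mul], ?_⟩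
      rw [map_add]
      have a1 : act A B M N (e₁ * e₂) y₁ = 0 := by
        rw [mul_comm, map_mul, Module.End.mul_apply, h₁, map_zero]
      have a2 : act A B M N (e₁ * e₂) y₂ = 0 := by
        rw [map_mul, Module.End.mul_apply, h₂, map_zero]
      rw [a1, a2, add_zero]
    | smul b y _ hy =>
      obtain ⟨e', he', h'⟩ := hy
      refine ⟨e', he', ?_⟩
      rw [smul_eq_act, ← Module.End.mul_apply, ← map_mul, mul_comm, map_mul, Module.End.mul_apply, h', map_zero]
  obtain ⟨e', he', hkill⟩ := good (F x) hz
  rw [hF, ← act_natural] at hkill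
  have hx0 : act A B M' N e' x = 0 := by
    apply hFinj
    rw [hF, hkill, map_zero]
  have hx1 : x = act A B M' N (1 - e') x := by
    rw [map_sub, map_one, LinearMap.sub_apply, hx0, sub_zero]
    rfl
  rw [hx1, proj_act, map_sub, map_one, he', sub_self, zero_smul]

end main

/-- If `B ⊗[A] B → B` is flat, then a `B`-module flat over `A` is flat over `B`
(module in an arbitrary universe). -/
theorem flat_of_flat_lmul (A B : Type u) [CommRing A] [CommRing B] [Algebra A B]
    (h : (Algebra.TensorProduct.lmul' A (S := B)).Flat) (N : Type v) [AddCommGroup N] [Module B N]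
    [Module A N] [IsScalarTower A B N] [Module.Flat A N] : Module.Flat B N := by
  rw [Module.Flat.iff_rTensor_injective']
  intro I
  exact rTensor_injective A B N h I.subtype Subtype.val_injective

end Groth.Agent.H22.FlatDiagU
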