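import Mathlib
universe u v w
open TensorProduct

namespace Groth.Agent.H22.FlatUnram

attribute [local instance] Algebra.TensorProduct.rightAlgebra in
theorem lemmaA {R S T : Type u} [CommRing R] [CommRing S] [CommRing T] [Algebra R S] [Algebra R T]
    [Algebra (T ⊗[R] S) T] [IsScalarTower T (T ⊗[R] S) T] (t : T ⊗[R] S) [IsLocalization.Away t T]
    (m : Algebra.H1Cotangent R S) :
    ∃ n : ℕ, t ^ n • (Algebra.H1Cotangent.map R T S (T ⊗[R] S) m) = 0 := by
  haveI : Subsingleton (Algebra.H1Cotangent T T) := inferInstance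
  haveI := Algebra.H1Cotangent.isLocalizedModule T (S := T ⊗[R] S) T (Submonoid.powers t)
  obtain ⟨⟨_, n, rfl⟩, hc⟩ := IsLocalizedModule.exists_of_eq (S := Submonoid.powers t)
    (f := Algebra.H1Cotangent.map T T (T ⊗[R] S) T)
    (x₁ := Algebra.H1Cotangent.map R T S (T ⊗[R] S) m) (x₂ := 0) (Subsingleton.elim _ _)
  refine ⟨n, ?_⟩
  rw [smul_zero] at hc
  exact hc


attribute [local instance] Algebra.TensorProduct.rightAlgebra in
theorem lemmaB {R S T : Type u} [CommRing R] [CommRing S] [CommRing T] [Algebra R S] [Algebra R T]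
    [Module.Flat R T] (m : Algebra.H1Cotangent R S) (y : T ⊗[R] S) :
    Algebra.tensorH1CotangentOfFlat R S T
      ((LinearMap.lTensor T ((LinearMap.toSpanSingleton S _ m).restrictScalars R)) y) =
      y • Algebra.H1Cotangent.map R T S (T ⊗[R] S) m := by
  induction y using TensorProduct.induction_on with
  | zero => simp
  | tmul a b =>
    rw [LinearMap.lTensor_tmul, Algebra.tensorH1CotangentOfFlat_tmul]
    simp only [LinearMap.coe_restrictScalars, LinearMap.toSpanSingleton_apply, map_smul]
    have : a ⊗ₜ[R] b = a • (algebraMap S (T ⊗[R] S) b) := by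
      rw [Algebra.TensorProduct.right_algebraMap_apply, smul_tmul', smul_eq_mul, mul_one]
    rw [this, smul_assoc, algebraMap_smul]
  | add x y hx hy => simp only [map_add, add_smul, hx, hy]

theorem lemmaAB {R S T : Type u} [CommRing R] [CommRing S] [CommRing T] [Algebra R S]
    [Algebra R T] [Module.Flat R T]
    [Algebra (T ⊗[R] S) T] [IsScalarTower T (T ⊗[R] S) T] (t : T ⊗[R] S) [IsLocalization.Away t T]
    (m : Algebra.H1Cotangent R S) :
    ∃ n : ℕ, (LinearMap.lTensor T ((LinearMap.toSpanSingleton S _ m).restrictScalars R)) (t ^ n)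
      = 0 := by
  obtain ⟨n, hn⟩ := lemmaA t m
  refine ⟨n, ?_⟩
  apply (Algebra.tensorH1CotangentOfFlat R S T).injective
  rw [lemmaB, hn, map_zero]


theorem mul_eq_mul_lmul' {R A : Type u} [CommRing R] [CommRing A] [Algebra R A] (t : A ⊗[R] A)
    (ht1 : ∀ s, ((1 : A) ⊗ₜ[R] s - s ⊗ₜ[R] (1 : A)) * t = 0) (x : A ⊗[R] A) :
    t * x = t * (Algebra.TensorProduct.lmul' R x ⊗ₜ[R] (1 : A)) := by
  induction x using TensorProduct.induction_on with
  | zero => simp
  | tmul a b =>
    have h1 : t * ((1 : A) ⊗ₜ[R] b) = t * (b ⊗ₜ[R] (1 : A)) := by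
      have := ht1 b
      rw [sub_mul, sub_eq_zero] at this
      rw [mul_comm t, this, mul_comm]
    have h2 : a ⊗ₜ[R] b = ((1 : A) ⊗ₜ[R] b) * (a ⊗ₜ[R] (1 : A)) := by
      rw [Algebra.TensorProduct.tmul_mul_tmul, one_mul, mul_one]
    have h3 : Algebra.TensorProduct.lmul' R (a ⊗ₜ[R] b) = a * b :=
      Algebra.TensorProduct.lmul'_apply_tmul a b
    rw [h3]
    rw [h2, ← mul_assoc, h1, mul_assoc, Algebra.TensorProduct.tmul_mul_tmul, one_mul,
      mul_comm b a]
  | add x y hx hy => simp only [mul_add, map_add, add_tmul, hx, hy]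

theorem subsingleton_h1Cotangent (R A : Type u) [CommRing R] [CommRing A] [Algebra R A]
    [Module.Flat R A] [Algebra.FormallyUnramified R A] [Algebra.FiniteType R A] :
    Subsingleton (Algebra.H1Cotangent R A) := by
  obtain ⟨t, ht1, ht2⟩ := (Algebra.FormallyUnramified.iff_exists_tensorProduct (R := R)
    (S := A)).mp inferInstance
  have key := mul_eq_mul_lmul' t ht1
  have he : IsIdempotentElem t := by
    have := key t
    rw [ht2, ← Algebra.TensorProduct.one_def, mul_one] at this
    exact this
  letI algBA : Algebra (A ⊗[R] A) A := (Algebra.TensorProduct.lmul' R (S := A)).toRingHom.toAlgebra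
  have halg : ∀ x : A ⊗[R] A, algebraMap (A ⊗[R] A) A x = Algebra.TensorProduct.lmul' R x :=
    fun x => rfl
  haveI : IsScalarTower A (A ⊗[R] A) A := IsScalarTower.of_algebraMap_eq (fun a => by
    rw [halg, Algebra.TensorProduct.algebraMap_apply, Algebra.TensorProduct.lmul'_apply_tmul,
      mul_one])
  haveI : IsLocalization.Away t A := by
    refine IsLocalization.away_of_isIdempotentElem_of_mul he (fun x y => ?_) (fun a => ?_)
    · rw [halg, halg]
      constructor
      · intro h
        rw [key x, key y, h]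
      · intro h
        have := congr(Algebra.TensorProduct.lmul' R $h)
        rwa [map_mul, map_mul, ht2, one_mul, one_mul] at this
    · exact ⟨a ⊗ₜ[R] 1, by rw [halg, Algebra.TensorProduct.lmul'_apply_tmul, mul_one]⟩
  refine ⟨fun m m' => ?_⟩
  suffices H : ∀ m : Algebra.H1Cotangent R A, m = 0 by rw [H m, H m']
  intro m
  obtain ⟨n, hn⟩ := lemmaAB (R := R) (S := A) (T := A) t m
  let lam : A ⊗[R] Algebra.H1Cotangent R A →ₗ[R] Algebra.H1Cotangent R A :=
    TensorProduct.lift (Algebra.lsmul R R (Algebra.H1Cotangent R A)).toLinearMap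
  have hlam : ∀ y : A ⊗[R] A,
      lam ((LinearMap.lTensor A ((LinearMap.toSpanSingleton A _ m).restrictScalars R)) y) =
        Algebra.TensorProduct.lmul' R y • m := by
    intro y
    induction y using TensorProduct.induction_on with
    | zero => simp
    | tmul a b =>
      simp only [LinearMap.lTensor_tmul, LinearMap.coe_restrictScalars,
        LinearMap.toSpanSingleton_apply, lam, TensorProduct.lift.tmul,
        Algebra.TensorProduct.lmul'_apply_tmul, AlgHom.toLinearMap_apply, Algebra.lsmul_coe,
        mul_smul]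
    | add x y hx hy => simp only [map_add, add_smul, hx, hy]
  have := hlam (t ^ n)
  rw [hn, map_zero, map_pow, ht2, one_pow, one_smul] at this
  exact this.symm

theorem formallyEtale (R A : Type u) [CommRing R] [CommRing A] [Algebra R A]
    [Module.Flat R A] [Algebra.FormallyUnramified R A] [Algebra.FiniteType R A] :
    Algebra.FormallyEtale R A :=
  ⟨inferInstance, subsingleton_h1Cotangent R A⟩

end Groth.Agent.H22.FlatUnram
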