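import Mathlib

/-!
# Incidence counting for arrangements with constant pairwise intersection (helper22)
-/

set_option autoImplicit false

namespace Groth.Agent.Lib.helper22.Harb

universe u v

variable {P : Type u} {ι : Type v} [Fintype ι] (inc : P → ι → Prop)

open Classical in
/-- the number of curves through `p` -/
theorem natCard_eq_card_filter (p : P) :
    Nat.card {j : ι // inc p j} = (Finset.univ.filter (fun j => inc p j)).card := by
  rw [Nat.card_eq_fintype_card, Fintype.card_subtype]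

open Classical in
theorem two_le_iff (p : P) :
    2 ≤ Nat.card {j : ι // inc p j} ↔ ∃ i j : ι, i ≠ j ∧ inc p i ∧ inc p j := by
  rw [natCard_eq_card_filter, show (2 : ℕ) = Nat.succ 1 from rfl, Nat.succ_le_iff, Finset.one_lt_card]
  constructor
  · rintro ⟨a, ha, b, hb, hab⟩
    exact ⟨a, b, hab, (Finset.mem_filter.1 ha).2, (Finset.mem_filter.1 hb).2⟩
  · rintro ⟨a, b, hab, ha, hb⟩
    exact ⟨a, Finset.mem_filter.2 ⟨Finset.mem_univ _, ha⟩, b,
      Finset.mem_filter.2 ⟨Finset.mem_univ _, hb⟩, hab⟩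

variable {inc}

/-- the multiple points on the curve `i` form a finite set -/
theorem finite_multiple_on (hfin : ∀ i j : ι, i ≠ j → {p : P | inc p i ∧ inc p j}.Finite) (i : ι) :
    {p : P | inc p i ∧ 2 ≤ Nat.card {j : ι // inc p j}}.Finite := by
  classical
  have hsub : {p : P | inc p i ∧ 2 ≤ Nat.card {j : ι // inc p j}} ⊆
      ⋃ j ∈ {j : ι | j ≠ i}, {p : P | inc p i ∧ inc p j} := by
    rintro p ⟨hpi, hp2⟩
    obtain ⟨a, b, hab, ha, hb⟩ := (two_le_iff inc p).1 hp2
    simp only [Set.mem_iUnion, Set.mem_setOf_eq]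
    by_cases hai : a = i
    · exact ⟨b, by rw [← hai]; exact hab.symm, hpi, hb⟩
    · exact ⟨a, hai, hpi, ha⟩
  refine Set.Finite.subset ?_ hsub
  exact Set.Finite.biUnion (Set.toFinite _) (fun j hj => hfin i j (Ne.symm hj))

/-- the multiple points form a finite set -/
theorem finite_multiple (hfin : ∀ i j : ι, i ≠ j → {p : P | inc p i ∧ inc p j}.Finite) :
    {p : P | 2 ≤ Nat.card {j : ι // inc p j}}.Finite := by
  classical
  have hsub : {p : P | 2 ≤ Nat.card {j : ι // inc p j}} ⊆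
      ⋃ i : ι, {p : P | inc p i ∧ 2 ≤ Nat.card {j : ι // inc p j}} := by
    intro p hp2
    obtain ⟨a, b, hab, ha, hb⟩ := (two_le_iff inc p).1 hp2
    simp only [Set.mem_iUnion, Set.mem_setOf_eq]
    exact ⟨a, ha, hp2⟩
  exact Set.Finite.subset (Set.finite_iUnion (fun i => finite_multiple_on hfin i)) hsub

/-- each curve carries at least `h + 1` multiple points -/
theorem succ_le_ncard_multiple_on (h : ℕ) (hh : 0 < h) (hd : 2 ≤ Fintype.card ι)
    (hfin : ∀ i j : ι, i ≠ j → {p : P | inc p i ∧ inc p j}.Finite)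
    (hcount : ∀ i j : ι, i ≠ j → {p : P | inc p i ∧ inc p j}.ncard = h)
    (hnone : ∀ p : P, ∃ i : ι, ¬ inc p i) (i : ι) :
    h + 1 ≤ {p : P | inc p i ∧ 2 ≤ Nat.card {j : ι // inc p j}}.ncard := by
  classical
  set A := {p : P | inc p i ∧ 2 ≤ Nat.card {j : ι // inc p j}} with hA
  have hAfin : A.Finite := finite_multiple_on hfin i
  have hsub : ∀ k : ι, k ≠ i → {p : P | inc p i ∧ inc p k} ⊆ A := by
    intro k hk p hp
    exact ⟨hp.1, (two_le_iff inc p).2 ⟨i, k, hk.symm, hp.1, hp.2⟩⟩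
  by_contra hlt
  push_neg at hlt
  have hle : A.ncard ≤ h := Nat.lt_succ_iff.1 hlt
  have heq : ∀ k : ι, k ≠ i → {p : P | inc p i ∧ inc p k} = A := by
    intro k hk
    apply Set.eq_of_subset_of_ncard_le (hsub k hk) _ hAfin
    rw [hcount i k hk.symm]; exact hle
  -- pick j ≠ i
  obtain ⟨j, hj⟩ : ∃ j : ι, j ≠ i := by
    by_contra hcon
    push_neg at hcon
    have : Fintype.card ι ≤ 1 := Fintype.card_le_one_iff.2 (fun a b => by rw [hcon a, hcon b])
    omega
  have hAcard : A.ncard = h := by rw [← heq j hj, hcount i j hj.symm]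
  obtain ⟨p, hp⟩ : A.Nonempty := by
    rw [← Set.ncard_pos hAfin, hAcard]; exact hh
  obtain ⟨k, hk⟩ := hnone p
  by_cases hki : k = i
  · rw [hki] at hk; exact hk hp.1
  · have : p ∈ {p : P | inc p i ∧ inc p k} := by rw [heq k hki]; exact hp
    exact hk this.2

end Groth.Agent.Lib.helper22.Harb
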