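import Mathlib

/-! Commuting involutions on a finite-dimensional vector space (char ≠ 2): at most `2 ^ dim`. -/

set_option autoImplicit false
universe u v

namespace Groth.Agent.Lib.helper22.Involutions

theorem card_le (K : Type u) [Field K] (h2 : (2 : K) ≠ 0) (n : ℕ) :
    ∀ (V : Type v) [AddCommGroup V] [Module K V] [FiniteDimensional K V],
      Module.finrank K V = n → ∀ S : Finset (Module.End K V), (∀ f ∈ S, f * f = 1) →
        (∀ f ∈ S, ∀ f' ∈ S, f * f' = f' * f) → S.card ≤ 2 ^ n := by
  classical
  induction n using Nat.strong_induction_on with
  | _ n ih =>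
    intro V _ _ _ hn S hinv hcomm
    by_cases hA : ∀ f ∈ S, f = 1 ∨ f = -1
    · rcases Nat.eq_zero_or_pos n with h0 | hpos
      · subst h0
        have hsub : Subsingleton V := Module.finrank_zero_iff.1 hn
        have : Subsingleton (Module.End K V) := ⟨fun a b => by ext x; exact Subsingleton.elim _ _⟩
        rw [pow_zero]
        exact Finset.card_le_one.2 (fun a _ b _ => Subsingleton.elim a b)
      · have hsub : S ⊆ {1, -1} := by
          intro f hf
          rcases hA f hf with h | h <;> simp [h]
        calc S.card ≤ ({1, -1} : Finset (Module.End K V)).card := Finset.card_le_card hsub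
          _ ≤ 2 := Finset.card_le_two
          _ = 2 ^ 1 := by norm_num
          _ ≤ 2 ^ n := Nat.pow_le_pow_right (by norm_num) hpos
    · push_neg at hA
      obtain ⟨f₀, hf₀S, hf₀1, hf₀m1⟩ := hA
      have hf₀sq : ∀ x, f₀ (f₀ x) = x := fun x => by
        have := congrArg (fun f : Module.End K V => f x) (hinv f₀ hf₀S)
        simpa using this
      set Vp : Submodule K V := LinearMap.ker (f₀ - 1) with hVp
      set Vm : Submodule K V := LinearMap.ker (f₀ + 1) with hVm
      have memVp : ∀ x, x ∈ Vp ↔ f₀ x = x := fun x => by
        simp [hVp, sub_eq_zero]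
      have memVm : ∀ x, x ∈ Vm ↔ f₀ x = -x := fun x => by
        simp only [hVm, LinearMap.mem_ker, LinearMap.add_apply, Module.End.one_apply]
        constructor
        · intro h; exact eq_neg_of_add_eq_zero_left h
        · intro h; rw [h]; simp
      have hcompl : IsCompl Vp Vm := by
        constructor
        · rw [Submodule.disjoint_def]
          intro x hx hx'
          rw [memVp] at hx
          rw [memVm] at hx'
          have h3 : (2 : K) • x = 0 := by
            rw [two_smul]
            nth_rw 1 [← hx]
            rw [hx']; simp
          rcases smul_eq_zero.1 h3 with h | h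
          · exact absurd h h2
          · exact h
        · rw [codisjoint_iff, eq_top_iff]
          intro x _
          rw [Submodule.mem_sup]
          refine ⟨(2 : K)⁻¹ • (x + f₀ x), ?_, (2 : K)⁻¹ • (x - f₀ x), ?_, ?_⟩
          · rw [memVp, map_smul, map_add, hf₀sq, add_comm]
          · rw [memVm, map_smul, map_sub, hf₀sq, ← smul_neg, neg_sub]
          · rw [← smul_add]
            have : x + f₀ x + (x - f₀ x) = (2 : K) • x := by rw [two_smul]; abel
            rw [this, smul_smul, inv_mul_cancel₀ h2, one_smul]
      have hVp_ne : Vp ≠ ⊤ := by
        intro h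
        apply hf₀1
        ext x
        have : x ∈ Vp := by rw [h]; trivial
        simpa using (memVp x).1 this
      have hVm_ne : Vm ≠ ⊤ := by
        intro h
        apply hf₀m1
        ext x
        have : x ∈ Vm := by rw [h]; trivial
        simpa using (memVm x).1 this
      have hsum : Module.finrank K Vp + Module.finrank K Vm = n := by
        rw [← hn]; exact Submodule.finrank_add_eq_of_isCompl hcompl
      have hlt_p : Module.finrank K Vp < n := by
        rw [← hn]; exact Submodule.finrank_lt hVp_ne
      have hlt_m : Module.finrank K Vm < n := by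
        rw [← hn]; exact Submodule.finrank_lt hVm_ne
      -- elements of S preserve Vp and Vm
      have hcommapp : ∀ f ∈ S, ∀ x, f (f₀ x) = f₀ (f x) := fun f hf x => by
        have := congrArg (fun g : Module.End K V => g x) (hcomm f hf f₀ hf₀S)
        simpa using this
      have presp : ∀ f ∈ S, ∀ x ∈ Vp, f x ∈ Vp := fun f hf x hx => by
        rw [memVp] at hx ⊢
        rw [← hcommapp f hf, hx]
      have presm : ∀ f ∈ S, ∀ x ∈ Vm, f x ∈ Vm := fun f hf x hx => by
        rw [memVm] at hx ⊢
        rw [← hcommapp f hf, hx, map_neg]
      let rp : Module.End K V → Module.End K Vp := fun f =>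
        (Submodule.projectionOnto Vp Vm hcompl) ∘ₗ f ∘ₗ Vp.subtype
      let rm : Module.End K V → Module.End K Vm := fun f =>
        (Submodule.projectionOnto Vm Vp hcompl.symm) ∘ₗ f ∘ₗ Vm.subtype
      have rp_apply : ∀ f ∈ S, ∀ x : Vp, ((rp f x : Vp) : V) = f x := fun f hf x => by
        have := Submodule.projectionOnto_apply_left hcompl ⟨f x, presp f hf x x.2⟩
        simp only [rp, LinearMap.comp_apply, Submodule.subtype_apply]
        rw [this]
      have rm_apply : ∀ f ∈ S, ∀ x : Vm, ((rm f x : Vm) : V) = f x := fun f hf x => by
        have := Submodule.projectionOnto_apply_left hcompl.symm ⟨f x, presm f hf x x.2⟩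
        simp only [rm, LinearMap.comp_apply, Submodule.subtype_apply]
        rw [this]
      have hSp : (S.image rp).card ≤ 2 ^ Module.finrank K Vp := by
        apply ih _ hlt_p Vp rfl
        · intro F hF
          obtain ⟨f, hf, rfl⟩ := Finset.mem_image.1 hF
          ext x
          rw [Module.End.mul_apply, rp_apply f hf, rp_apply f hf]
          have := congrArg (fun g : Module.End K V => g (x : V)) (hinv f hf)
          simpa using this
        · intro F hF F' hF'
          obtain ⟨f, hf, rfl⟩ := Finset.mem_image.1 hF
          obtain ⟨f', hf', rfl⟩ := Finset.mem_image.1 hF'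
          ext x
          rw [Module.End.mul_apply, Module.End.mul_apply, rp_apply f hf, rp_apply f' hf',
            rp_apply f' hf', rp_apply f hf]
          have := congrArg (fun g : Module.End K V => g (x : V)) (hcomm f hf f' hf')
          simpa using this
      have hSm : (S.image rm).card ≤ 2 ^ Module.finrank K Vm := by
        apply ih _ hlt_m Vm rfl
        · intro F hF
          obtain ⟨f, hf, rfl⟩ := Finset.mem_image.1 hF
          ext x
          rw [Module.End.mul_apply, rm_apply f hf, rm_apply f hf]
          have := congrArg (fun g : Module.End K V => g (x : V)) (hinv f hf)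
          simpa using this
        · intro F hF F' hF'
          obtain ⟨f, hf, rfl⟩ := Finset.mem_image.1 hF
          obtain ⟨f', hf', rfl⟩ := Finset.mem_image.1 hF'
          ext x
          rw [Module.End.mul_apply, Module.End.mul_apply, rm_apply f hf, rm_apply f' hf',
            rm_apply f' hf', rm_apply f hf]
          have := congrArg (fun g : Module.End K V => g (x : V)) (hcomm f hf f' hf')
          simpa using this
      have hinj : Set.InjOn (fun f => (rp f, rm f)) (S : Set (Module.End K V)) := by
        intro f hf f' hf' hff'
        simp only [Prod.mk.injEq] at hff'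
        obtain ⟨e1, e2⟩ := hff'
        ext x
        have hx : x ∈ Vp ⊔ Vm := by rw [hcompl.sup_eq_top]; trivial
        rw [Submodule.mem_sup] at hx
        obtain ⟨a, ha, b, hb, rfl⟩ := hx
        have h1 : f a = f' a := by
          have := congrArg (fun F : Module.End K Vp => ((F ⟨a, ha⟩ : Vp) : V)) e1
          simpa [rp_apply f hf, rp_apply f' hf'] using this
        have h2' : f b = f' b := by
          have := congrArg (fun F : Module.End K Vm => ((F ⟨b, hb⟩ : Vm) : V)) e2
          simpa [rm_apply f hf, rm_apply f' hf'] using this
        rw [map_add, map_add, h1, h2']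
      calc S.card ≤ ((S.image rp) ×ˢ (S.image rm)).card := by
            apply Finset.card_le_card_of_injOn (fun f => (rp f, rm f)) _ hinj
            intro f hf
            simp only [Finset.coe_product, Set.mem_prod, Finset.mem_coe]
            exact ⟨Finset.mem_image_of_mem _ hf, Finset.mem_image_of_mem _ hf⟩
        _ = (S.image rp).card * (S.image rm).card := Finset.card_product _ _
        _ ≤ 2 ^ Module.finrank K Vp * 2 ^ Module.finrank K Vm := Nat.mul_le_mul hSp hSm
        _ = 2 ^ n := by rw [← pow_add, hsum]

end Groth.Agent.Lib.helper22.Involutions
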