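import Mathlib

/-! Helper lemmas on isometries of anisotropic quadratic forms (for S15165, S15166). -/

set_option autoImplicit false
universe u v

namespace Groth.Agent.Lib.helper22.Isometry

/-- A unipotent isometry of an anisotropic quadratic form (char ≠ 2) is trivial. -/
theorem eq_one_of_isNilpotent_sub_one (K : Type u) [Field K] (h2 : (2 : K) ≠ 0)
    (V : Type v) [AddCommGroup V] [Module K V]
    (q : QuadraticForm K V) (hq : q.Anisotropic)
    (g : V ≃ₗ[K] V) (hg : ∀ x : V, q (g x) = q x)
    (hnil : IsNilpotent ((g : V →ₗ[K] V) - 1 : Module.End K V)) : g = 1 := by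
  set G : Module.End K V := (g : V →ₗ[K] V) with hG
  set N : Module.End K V := G - 1 with hN
  have hNapp : ∀ x, N x = g x - x := fun x => by simp [hN, hG]
  by_contra hne
  have hN0 : N ≠ 0 := by
    intro h
    apply hne
    ext x
    have := hNapp x
    rw [h, LinearMap.zero_apply] at this
    simpa using (sub_eq_zero.1 this.symm)
  classical
  have hex : ∃ m, N ^ m = 0 := hnil
  have hm0 : N ^ (Nat.find hex) = 0 := Nat.find_spec hex
  have hm2 : 2 ≤ Nat.find hex := by
    by_contra h
    have : Nat.find hex = 0 ∨ Nat.find hex = 1 := by omega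
    rcases this with h | h
    · rw [h, pow_zero] at hm0
      apply hN0
      calc N = N * 1 := (mul_one N).symm
        _ = 0 := by rw [hm0, mul_zero]
    · rw [h, pow_one] at hm0; exact hN0 hm0
  have hm1 : N ^ (Nat.find hex - 1) ≠ 0 := Nat.find_min hex (by omega)
  obtain ⟨u, hu⟩ : ∃ u, (N ^ (Nat.find hex - 1)) u ≠ 0 := by
    by_contra h
    push_neg at h
    apply hm1
    ext x
    simpa using h x
  obtain ⟨m, hm⟩ : ∃ m, Nat.find hex = m + 2 := ⟨Nat.find hex - 2, by omega⟩
  rw [hm] at hm0 hu
  have e0 : m + 2 - 1 = m + 1 := by omega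
  rw [e0] at hu
  set w := (N ^ (m + 1)) u with hw
  set v := (N ^ m) u with hv
  have hNv : N v = w := by
    rw [hv, hw, ← Module.End.mul_apply, ← pow_succ']
  have hNw : N w = 0 := by
    rw [hw, ← Module.End.mul_apply, ← pow_succ', hm0]; rfl
  have hgw : g w = w := by
    have := hNapp w
    rw [hNw] at this
    exact (sub_eq_zero.1 this.symm)
  have hgv : g v = v + w := by
    have := hNapp v
    rw [hNv] at this
    rw [this]; abel
  have e1 : q (v + w) = q v := by
    have := hg v
    rwa [hgv] at this
  have e2 : q (v + w + w) = q (v + w) := by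
    have := hg (v + w)
    rwa [map_add, hgv, hgw] at this
  have p1 : QuadraticMap.polar q v w = q (v + w) - q v - q w := rfl
  have p2 : QuadraticMap.polar q (v + w) w = q (v + w + w) - q (v + w) - q w := rfl
  have p3 : QuadraticMap.polar q (v + w) w = QuadraticMap.polar q v w + QuadraticMap.polar q w w :=
    QuadraticMap.polar_add_left q v w w
  have p4 : QuadraticMap.polar q w w = 2 * q w := by
    rw [QuadraticMap.polar_self q w, two_smul, two_mul]
  have hqw : 2 * q w = 0 := by
    rw [p2, p1, p4, e2, e1] at p3
    linear_combination -p3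
  have hqw0 : q w = 0 := by
    rcases mul_eq_zero.1 hqw with h | h
    · exact absurd h h2
    · exact h
  exact hu (hq w hqw0)

theorem coe_pow_apply {K : Type u} [Field K] {V : Type v} [AddCommGroup V] [Module K V]
    (g : V ≃ₗ[K] V) (n : ℕ) (x : V) :
    (((g : V →ₗ[K] V) : Module.End K V) ^ n) x = (g ^ n) x := by
  induction n generalizing x with
  | zero => simp
  | succ n ih =>
    rw [pow_succ, pow_succ, Module.End.mul_apply, LinearEquiv.mul_apply, ih]
    rfl

open Polynomial in
/-- An isometry of finite order of an anisotropic form over a field containing all roots of unity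
(char ≠ 2) is an involution. -/
theorem sq_eq_one (K : Type u) [Field K] (hK : ∀ n : ℕ, 0 < n → (X ^ n - 1 : K[X]).Splits)
    (h2 : (2 : K) ≠ 0)
    (V : Type v) [AddCommGroup V] [Module K V]
    (q : QuadraticForm K V) (hq : q.Anisotropic)
    (g : V ≃ₗ[K] V) (hg : ∀ x : V, q (g x) = q x) (d : ℕ) (hd : 0 < d) (hgd : g ^ d = 1) :
    g ^ 2 = 1 := by
  set G : Module.End K V := (g : V →ₗ[K] V) with hG
  have hGd : G ^ d = 1 := by
    ext x
    rw [coe_pow_apply, hgd]
    simp
  have hP : Polynomial.aeval G (X ^ d - 1 : K[X]) = 0 := by simp [hGd]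
  have hmonic : (X ^ d - 1 : K[X]).Monic := by
    have := monic_X_pow_sub_C (1 : K) hd.ne'
    simpa using this
  have hprod := (hK d hd).eq_prod_roots_of_monic hmonic
  have key : ∀ (s : Multiset K) (v : V),
      Polynomial.aeval G ((s.map (fun a => (X - C a : K[X]))).prod) v = 0 →
        Polynomial.aeval G ((X ^ 2 - 1 : K[X]) ^ (Multiset.card s)) v = 0 := by
    intro s
    induction s using Multiset.induction_on with
    | empty => intro v hv; simpa using hv
    | cons a s ih =>
      intro v hv
      rw [Multiset.map_cons, Multiset.prod_cons, mul_comm, map_mul, Module.End.mul_apply] at hv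
      have h1 := ih _ hv
      rw [← Module.End.mul_apply, ← map_mul, mul_comm, map_mul, Module.End.mul_apply] at h1
      rw [Multiset.card_cons, pow_succ', map_mul, Module.End.mul_apply]
      set u := Polynomial.aeval G ((X ^ 2 - 1 : K[X]) ^ (Multiset.card s)) v with hu
      have hGu : g u = a • u := by
        have : Polynomial.aeval G (X - C a : K[X]) u = g u - a • u := by
          simp [hG]
        rw [this] at h1
        exact sub_eq_zero.1 h1
      by_cases ha : a ^ 2 = 1
      · have : Polynomial.aeval G (X ^ 2 - 1 : K[X]) u = g (g u) - u := by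
          simp [hG, pow_two]
        rw [this, hGu, map_smul, hGu, smul_smul, ← pow_two, ha, one_smul, sub_self]
      · have hqu : q u = 0 := by
          have h3 := hg u
          rw [hGu, QuadraticMap.map_smul, smul_eq_mul] at h3
          have h4 : (a ^ 2 - 1) * q u = 0 := by linear_combination h3
          rcases mul_eq_zero.1 h4 with h | h
          · exact absurd (sub_eq_zero.1 h) ha
          · exact h
        rw [hq u hqu, map_zero]
  apply eq_one_of_isNilpotent_sub_one K h2 V q hq (g ^ 2)
  · intro x
    rw [pow_two, LinearEquiv.mul_apply, hg, hg]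
  · refine ⟨Multiset.card (X ^ d - 1 : K[X]).roots, ?_⟩
    have e : (((g ^ 2 : V ≃ₗ[K] V) : V →ₗ[K] V) - 1 : Module.End K V) =
        Polynomial.aeval G (X ^ 2 - 1 : K[X]) := by
      ext x
      simp [hG, pow_two]
    rw [e, ← map_pow]
    ext v
    rw [LinearMap.zero_apply]
    apply key
    rw [← hprod, hP, LinearMap.zero_apply]

end Groth.Agent.Lib.helper22.Isometry
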