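import Mathlib
import Groth.Prelude.Def_W4c1nerontoraddGraph

/-!
# The total blow-up graph: multidegrees along the inserted paths (helper22)
-/

set_option autoImplicit false
universe u

namespace Groth.Agent.H22.Blowup

open LabGraph

variable {V E : Type u} [Fintype V] [Fintype E] [DecidableEq V] [DecidableEq E]

/-- value of `ψ` at the `j`-th vertex of the path replacing `e` -/
def av (ends : E → V × V) (l : E → ℕ) (ψ : BlVert V E l → ℤ) (e : E) (j : ℕ) : ℤ :=
  ψ (pathVert ends l e j)

/-- value of `β` at the new vertex of path index `t` (zero if `t` is not an interior index) -/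
def bv (l : E → ℕ) (β : BlVert V E l → ℤ) (e : E) (t : ℕ) : ℤ :=
  if h : 0 < t ∧ t < l e then β (Sum.inr ⟨e, ⟨t - 1, by omega⟩⟩) else 0

theorem sum_fin_ite (n m : ℕ) (F : ℕ → ℤ) :
    ∑ k : Fin n, (if k.val = m then F k.val else 0) = if m < n then F m else 0 := by
  rw [Fin.sum_univ_eq_sum_range (fun k => if k = m then F k else 0) n]
  rw [Finset.sum_ite_eq' (Finset.range n) m F]
  simp

omit [Fintype V] [Fintype E] [DecidableEq V] in
theorem pathVert_eq_inr_iff (ends : E → V × V) (l : E → ℕ) (e' : E) (k : ℕ) (e : E) (j : ℕ)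
    (hj : j < l e - 1) :
    pathVert ends l e' k = Sum.inr ⟨e, ⟨j, hj⟩⟩ ↔ e' = e ∧ k = j + 1 ∧ k < l e' := by
  unfold pathVert
  by_cases h0 : k = 0
  · simp [h0]
  · rw [dif_neg h0]
    by_cases h : k < l e'
    · rw [dif_pos h]
      constructor
      · intro hh
        have h1 := Sum.inr.inj hh
        have h2 : e' = e := congrArg Sigma.fst h1
        subst h2
        have h3 := eq_of_heq (Sigma.mk.inj h1).2
        have h4 : k - 1 = j := congrArg Fin.val h3
        exact ⟨rfl, by omega, h⟩
      · rintro ⟨rfl, hk, -⟩
        congr 2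
        ext
        simp only
        omega
    · rw [dif_neg h]
      simp [h]

omit [Fintype V] [Fintype E] [DecidableEq E] in
theorem pathVert_eq_inl_iff (ends : E → V × V) (l : E → ℕ) (e : E) (k : ℕ) (v : V) :
    pathVert ends l e k = Sum.inl v ↔
      (k = 0 ∧ (ends e).1 = v) ∨ (k ≠ 0 ∧ ¬ k < l e ∧ (ends e).2 = v) := by
  unfold pathVert
  by_cases h0 : k = 0
  · simp [h0]
  · rw [dif_neg h0]
    by_cases h : k < l e
    · rw [dif_pos h]; simp [h0, h]
    · rw [dif_neg h]; simp [h0, h]

/-- multidegree on the blow-up graph, summed edge by edge -/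
theorem mdeg_bl (ends : E → V × V) (l : E → ℕ) (ψ : BlVert V E l → ℤ) (w : BlVert V E l) :
    mdeg (blEnds ends l) (fun _ => 1) ψ w =
      ∑ e : E, ∑ k : Fin (l e),
        ((if pathVert ends l e k.val = w then av ends l ψ e (k.val + 1) - av ends l ψ e k.val else 0) +
         (if pathVert ends l e (k.val + 1) = w then av ends l ψ e k.val - av ends l ψ e (k.val + 1)
            else 0)) := by
  unfold mdeg
  rw [Fintype.sum_sigma]
  refine Finset.sum_congr rfl fun e _ => Finset.sum_congr rfl fun k _ => ?_
  simp only [blEnds, av, Nat.cast_one, Int.ediv_one]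

/-- multidegree at a new vertex: the second difference along the path -/
theorem mdeg_new (ends : E → V × V) (l : E → ℕ) (ψ : BlVert V E l → ℤ) (e : E) (j : ℕ)
    (hj : j < l e - 1) :
    mdeg (blEnds ends l) (fun _ => 1) ψ (Sum.inr ⟨e, ⟨j, hj⟩⟩) =
      av ends l ψ e j - 2 * av ends l ψ e (j + 1) + av ends l ψ e (j + 2) := by
  rw [mdeg_bl]
  rw [Finset.sum_eq_single e]
  · have hterm : ∀ k : Fin (l e),
        ((if pathVert ends l e k.val = Sum.inr ⟨e, ⟨j, hj⟩⟩ then
            av ends l ψ e (k.val + 1) - av ends l ψ e k.val else 0) +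
         (if pathVert ends l e (k.val + 1) = Sum.inr ⟨e, ⟨j, hj⟩⟩ then
            av ends l ψ e k.val - av ends l ψ e (k.val + 1) else 0)) =
        (if k.val = j + 1 then av ends l ψ e (k.val + 1) - av ends l ψ e k.val else 0) +
        (if k.val = j then av ends l ψ e k.val - av ends l ψ e (k.val + 1) else 0) := by
      intro k
      have hk := k.isLt
      congr 1
      · refine if_congr ?_ rfl rfl
        rw [pathVert_eq_inr_iff]
        constructor
        · exact fun h => h.2.1
        · exact fun h => ⟨rfl, h, hk⟩
      · refine if_congr ?_ rfl rfl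
        rw [pathVert_eq_inr_iff]
        constructor
        · intro h; omega
        · intro h; exact ⟨rfl, by omega, by omega⟩
    rw [Finset.sum_congr rfl (fun k _ => hterm k), Finset.sum_add_distrib]
    have hA := sum_fin_ite (l e) (j + 1) (fun t => av ends l ψ e (t + 1) - av ends l ψ e t)
    have hB := sum_fin_ite (l e) j (fun t => av ends l ψ e t - av ends l ψ e (t + 1))
    beta_reduce at hA hB
    rw [hA, hB, if_pos (by omega), if_pos (by omega)]
    ring
  · intro e' _ he'
    apply Finset.sum_eq_zero
    intro k _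
    rw [if_neg, if_neg, add_zero]
    · rw [pathVert_eq_inr_iff]; exact fun h => he' h.1
    · rw [pathVert_eq_inr_iff]; exact fun h => he' h.1
  · intro h; exact absurd (Finset.mem_univ e) h

/-- multidegree at an old vertex -/
theorem mdeg_old (ends : E → V × V) (l : E → ℕ) (hl : ∀ e, 0 < l e) (ψ : BlVert V E l → ℤ)
    (v : V) :
    mdeg (blEnds ends l) (fun _ => 1) ψ (Sum.inl v) =
      ∑ e : E, ((if (ends e).1 = v then av ends l ψ e 1 - av ends l ψ e 0 else 0) +
        (if (ends e).2 = v then av ends l ψ e (l e - 1) - av ends l ψ e (l e) else 0)) := by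
  rw [mdeg_bl]
  refine Finset.sum_congr rfl fun e _ => ?_
  have hterm : ∀ k : Fin (l e),
      ((if pathVert ends l e k.val = Sum.inl v then
          av ends l ψ e (k.val + 1) - av ends l ψ e k.val else 0) +
       (if pathVert ends l e (k.val + 1) = Sum.inl v then
          av ends l ψ e k.val - av ends l ψ e (k.val + 1) else 0)) =
      (if k.val = 0 then (if (ends e).1 = v then
          av ends l ψ e (k.val + 1) - av ends l ψ e k.val else 0) else 0) +
      (if k.val = l e - 1 then (if (ends e).2 = v then
          av ends l ψ e k.val - av ends l ψ e (k.val + 1) else 0) else 0) := by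
    intro k
    have hk := k.isLt
    congr 1
    · rw [← ite_and]
      refine if_congr ?_ rfl rfl
      rw [pathVert_eq_inl_iff]
      constructor
      · rintro (h | ⟨-, h2, -⟩)
        · exact h
        · exact absurd hk h2
      · exact fun h => Or.inl h
    · rw [← ite_and]
      refine if_congr ?_ rfl rfl
      rw [pathVert_eq_inl_iff]
      constructor
      · rintro (⟨h2, -⟩ | ⟨-, h2, h3⟩)
        · omega
        · exact ⟨by omega, h3⟩
      · rintro ⟨h1, h2⟩
        exact Or.inr ⟨by omega, by omega, h2⟩
  rw [Finset.sum_congr rfl (fun k _ => hterm k), Finset.sum_add_distrib]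
  have hA := sum_fin_ite (l e) 0 (fun t => if (ends e).1 = v then
    av ends l ψ e (t + 1) - av ends l ψ e t else 0)
  have hB := sum_fin_ite (l e) (l e - 1) (fun t => if (ends e).2 = v then
    av ends l ψ e t - av ends l ψ e (t + 1) else 0)
  beta_reduce at hA hB
  have h3 : l e - 1 < l e := by have := hl e; omega
  rw [hA, hB, if_pos (hl e), if_pos h3]
  have : l e - 1 + 1 = l e := by have := hl e; omega
  simp only [this, zero_add]

/-- pure sequence lemma: first differences along a path with prescribed second differences -/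
theorem diff_formula (a b : ℕ → ℤ) (n : ℕ)
    (h : ∀ j, j + 1 < n → a j - 2 * a (j + 1) + a (j + 2) + b (j + 1) = 0) :
    ∀ j, j < n → a (j + 1) - a j = (a 1 - a 0) - ∑ t ∈ Finset.range j, b (t + 1) := by
  intro j
  induction j with
  | zero => intro _; simp
  | succ j ih =>
    intro hj
    have h1 := ih (by omega)
    have h2 := h j hj
    rw [Finset.sum_range_succ]
    linarith

theorem total_formula (a b : ℕ → ℤ) (n : ℕ)
    (h : ∀ j, j + 1 < n → a j - 2 * a (j + 1) + a (j + 2) + b (j + 1) = 0) :
    ∀ m, m ≤ n → a m - a 0 = m * (a 1 - a 0) -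
      ∑ j ∈ Finset.range m, ∑ t ∈ Finset.range j, b (t + 1) := by
  intro m
  induction m with
  | zero => intro _; simp
  | succ m ih =>
    intro hm
    have h1 := ih (by omega)
    have h2 := diff_formula a b n h m (by omega)
    rw [Finset.sum_range_succ]
    push_cast
    linarith

end Groth.Agent.H22.Blowup
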