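import Mathlib
import Groth.Prelude.Def_W4c2conddiscmodels

/-!
# Contractions of multigraphs with a multiplicity function

Matrix of the contraction in terms of the matrix of the graph (`mfMatrix_ctr`, `mulVec_ctr`).
-/

set_option autoImplicit false
universe u

namespace Groth.Agent.H22.LabGraphCtr

open LabGraph DualGr Finset

variable {V E : Type u} [Fintype V] [Fintype E] [DecidableEq V] [DecidableEq E]
variable (ends : E → V × V) (β : V → ℤ)

theorem edgeMult_comm (v w : V) : edgeMult ends v w = edgeMult ends w v := by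
  unfold edgeMult
  congr 1
  ext e
  simp only [mem_filter, mem_univ, true_and]
  exact Or.comm

theorem mfMatrix_off {v w : V} (h : v ≠ w) : mfMatrix ends β v w = (edgeMult ends v w : ℤ) := by
  unfold mfMatrix
  rw [if_neg h]

theorem mfMatrix_symm_off {v w : V} (h : v ≠ w) : mfMatrix ends β v w = mfMatrix ends β w v := by
  rw [mfMatrix_off ends β h, mfMatrix_off ends β (Ne.symm h), edgeMult_comm]

theorem mfMatrix_off_nonneg {v w : V} (h : v ≠ w) : 0 ≤ mfMatrix ends β v w := by
  rw [mfMatrix_off ends β h]; positivity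

variable {ends β}

theorem mfMatrix_row (hβ : IsMultFn ends β) (v : V) : ∑ w, mfMatrix ends β v w * β w = 0 := by
  rw [← Finset.add_sum_erase _ _ (mem_univ v)]
  have h1 : ∑ w ∈ univ.erase v, mfMatrix ends β v w * β w =
      ∑ w ∈ univ.erase v, β w * (edgeMult ends v w : ℤ) := by
    apply Finset.sum_congr rfl
    intro w hw
    rw [mfMatrix_off ends β (Finset.ne_of_mem_erase hw).symm, mul_comm]
  rw [h1]
  have h2 : mfMatrix ends β v v = -(∑ u ∈ univ.erase v, β u * (edgeMult ends v u : ℤ)) / β v := by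
    unfold mfMatrix; rw [if_pos rfl]
  rw [h2, Int.ediv_mul_cancel ((dvd_neg).2 (hβ v).2)]
  ring

/-- mulVec against the row relation. -/
theorem mulVec_beta (hβ : IsMultFn ends β) : (mfMatrix ends β).mulVec β = 0 := by
  funext v
  exact mfMatrix_row hβ v

variable (ends) (D : Finset E)

theorem ctrFn_mk (hcls : ∀ v w, ctrMk ends D v = ctrMk ends D w → β v = β w) (v : V) :
    ctrFn ends D β (ctrMk ends D v) = β v := by
  unfold ctrFn
  apply hcls
  exact Quotient.out_eq (s := ctrSetoid ends D) (ctrMk ends D v)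

theorem out_const {z : V → ℤ} (hcls : ∀ v w, ctrMk ends D v = ctrMk ends D w → z v = z w) (v : V) :
    z (Quotient.out (s := ctrSetoid ends D) (ctrMk ends D v)) = z v := by
  apply hcls
  exact Quotient.out_eq (s := ctrSetoid ends D) (ctrMk ends D v)

/-- sums over edges of the contraction as sums over all edges -/
theorem sum_ctrEdge (F : E → ℤ) :
    ∑ e : CtrEdge D, F e.1 = ∑ e : E, if e ∉ D then F e else 0 := by
  rw [← Finset.sum_filter,
    Finset.sum_subtype (Finset.univ.filter (fun e : E => e ∉ D)) (p := fun e => e ∉ D)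
      (by intro e; simp)]

theorem edgeMult_eq_sum (v w : V) :
    (edgeMult ends v w : ℤ) = ∑ e : E, if ends e = (v, w) ∨ ends e = (w, v) then 1 else 0 := by
  unfold edgeMult
  rw [Finset.card_filter]
  push_cast
  rfl

theorem edgeMult_ctr {c c' : CtrVert ends D} (h : c ≠ c') :
    (edgeMult (ctrEnds ends D) c c' : ℤ) =
      ∑ v, ∑ w, if ctrMk ends D v = c ∧ ctrMk ends D w = c' then (edgeMult ends v w : ℤ) else 0 := by
  rw [edgeMult_eq_sum]
  have h1 : (∑ e : CtrEdge D, if ctrEnds ends D e = (c, c') ∨ ctrEnds ends D e = (c', c) then (1:ℤ) else 0)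
      = ∑ e : E, if e ∉ D then (if (ctrMk ends D (ends e).1, ctrMk ends D (ends e).2) = (c, c') ∨
          (ctrMk ends D (ends e).1, ctrMk ends D (ends e).2) = (c', c) then (1:ℤ) else 0) else 0 :=
    sum_ctrEdge D (fun e => if (ctrMk ends D (ends e).1, ctrMk ends D (ends e).2) = (c, c') ∨
          (ctrMk ends D (ends e).1, ctrMk ends D (ends e).2) = (c', c) then (1:ℤ) else 0)
  rw [h1]
  have h2 : ∀ v w : V, (if ctrMk ends D v = c ∧ ctrMk ends D w = c' then (edgeMult ends v w : ℤ) else 0)
      = ∑ e : E, if ctrMk ends D v = c ∧ ctrMk ends D w = c' ∧ (ends e = (v, w) ∨ ends e = (w, v))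
          then 1 else 0 := by
    intro v w
    by_cases hvw : ctrMk ends D v = c ∧ ctrMk ends D w = c'
    · rw [if_pos hvw, edgeMult_eq_sum]
      apply Finset.sum_congr rfl
      intro e _
      simp only [hvw.1, hvw.2, true_and]
    · rw [if_neg hvw]
      symm
      apply Finset.sum_eq_zero
      intro e _
      rw [if_neg]
      tauto
  simp_rw [h2]
  conv_rhs => arg 2; ext v; rw [Finset.sum_comm]
  rw [Finset.sum_comm]
  apply Finset.sum_congr rfl
  intro e _
  by_cases he : e ∈ D
  · rw [if_neg (not_not.2 he)]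
    symm
    apply Finset.sum_eq_zero
    intro v _
    apply Finset.sum_eq_zero
    intro w _
    rw [if_neg]
    rintro ⟨hv, hw, h3 | h3⟩
    · have := ctrMk_fst_eq_ctrMk_snd ends D he
      rw [h3] at this
      exact h (hv.symm.trans (this.trans hw))
    · have := ctrMk_fst_eq_ctrMk_snd ends D he
      rw [h3] at this
      exact h (hv.symm.trans (this.symm.trans hw))
  · rw [if_pos he]
    obtain ⟨a, b, hab⟩ : ∃ a b, ends e = (a, b) := ⟨_, _, rfl⟩
    simp only [hab, Prod.mk.injEq]
    by_cases h1 : ctrMk ends D a = c ∧ ctrMk ends D b = c'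
    · rw [if_pos (Or.inl h1)]
      rw [Finset.sum_eq_single a, Finset.sum_eq_single b]
      · rw [if_pos ⟨h1.1, h1.2, Or.inl ⟨rfl, rfl⟩⟩]
      · intro w _ hw
        rw [if_neg]
        rintro ⟨hv, hw', h3 | h3⟩
        · exact hw h3.2.symm
        · exact h (h1.1.symm.trans (h3.1 ▸ hw'))
      · intro hh; exact absurd (mem_univ _) hh
      · intro v _ hv
        apply Finset.sum_eq_zero
        intro w _
        rw [if_neg]
        rintro ⟨hv', hw', h3 | h3⟩
        · exact hv h3.1.symm
        · exact h (hv'.symm.trans (h3.2 ▸ h1.2))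
      · intro hh; exact absurd (mem_univ _) hh
    · by_cases h2 : ctrMk ends D a = c' ∧ ctrMk ends D b = c
      · rw [if_pos (Or.inr h2)]
        rw [Finset.sum_eq_single b, Finset.sum_eq_single a]
        · rw [if_pos ⟨h2.2, h2.1, Or.inr ⟨rfl, rfl⟩⟩]
        · intro w _ hw
          rw [if_neg]
          rintro ⟨hv, hw', h3 | h3⟩
          · exact h1 ⟨h3.1 ▸ hv, h3.2 ▸ hw'⟩
          · exact hw h3.1.symm
        · intro hh; exact absurd (mem_univ _) hh
        · intro v _ hv
          apply Finset.sum_eq_zero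
          intro w _
          rw [if_neg]
          rintro ⟨hv', hw', h3 | h3⟩
          · exact h1 ⟨h3.1 ▸ hv', h3.2 ▸ hw'⟩
          · exact hv h3.2.symm
        · intro hh; exact absurd (mem_univ _) hh
      · rw [if_neg (by tauto)]
        symm
        apply Finset.sum_eq_zero
        intro v _
        apply Finset.sum_eq_zero
        intro w _
        rw [if_neg]
        rintro ⟨hv', hw', h3 | h3⟩
        · exact h1 ⟨h3.1 ▸ hv', h3.2 ▸ hw'⟩
        · exact h2 ⟨h3.1 ▸ hw', h3.2 ▸ hv'⟩

variable (β)

/-- The candidate matrix of the contraction: block sums. -/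
noncomputable def blk (c c' : CtrVert ends D) : ℤ :=
  ∑ v, ∑ w, if ctrMk ends D v = c ∧ ctrMk ends D w = c' then mfMatrix ends β v w else 0

theorem blk_off {c c' : CtrVert ends D} (h : c ≠ c') :
    blk ends β D c c' = (edgeMult (ctrEnds ends D) c c' : ℤ) := by
  rw [edgeMult_ctr ends D h, blk]
  apply Finset.sum_congr rfl
  intro v _
  apply Finset.sum_congr rfl
  intro w _
  by_cases hvw : ctrMk ends D v = c ∧ ctrMk ends D w = c'
  · rw [if_pos hvw, if_pos hvw, mfMatrix_off]
    rintro rfl
    exact h (hvw.1.symm.trans hvw.2)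
  · rw [if_neg hvw, if_neg hvw]

variable {ends β}

theorem blk_row (hβ : IsMultFn ends β)
    (hcls : ∀ v w, ctrMk ends D v = ctrMk ends D w → β v = β w) (c : CtrVert ends D) :
    ∑ c', blk ends β D c c' * ctrFn ends D β c' = 0 := by
  have h0 : ∑ v, (if ctrMk ends D v = c then ∑ w, mfMatrix ends β v w * β w else 0) = 0 := by
    apply Finset.sum_eq_zero
    intro v _
    rw [mfMatrix_row hβ v]; simp
  rw [← h0]
  simp_rw [blk, Finset.sum_mul]
  rw [Finset.sum_comm]
  apply Finset.sum_congr rfl
  intro v _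
  rw [Finset.sum_comm]
  by_cases hv : ctrMk ends D v = c
  · rw [if_pos hv]
    apply Finset.sum_congr rfl
    intro w _
    rw [Finset.sum_eq_single (ctrMk ends D w)]
    · rw [if_pos ⟨hv, rfl⟩, ctrFn_mk ends D hcls]
    · intro c' _ hc'
      rw [if_neg (fun h => hc' h.2.symm), zero_mul]
    · intro h; exact absurd (mem_univ _) h
  · rw [if_neg hv]
    apply Finset.sum_eq_zero
    intro w _
    apply Finset.sum_eq_zero
    intro c' _
    rw [if_neg (fun h => hv h.1), zero_mul]

theorem ctrFn_pos (hβ : IsMultFn ends β) (c : CtrVert ends D) : 0 < ctrFn ends D β c :=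
  (hβ _).1

theorem blk_diag_mul (hβ : IsMultFn ends β)
    (hcls : ∀ v w, ctrMk ends D v = ctrMk ends D w → β v = β w) (c : CtrVert ends D) :
    ctrFn ends D β c * blk ends β D c c =
      -(∑ c' ∈ univ.erase c, ctrFn ends D β c' * (edgeMult (ctrEnds ends D) c c' : ℤ)) := by
  have h := blk_row D hβ hcls c
  rw [← Finset.add_sum_erase _ _ (mem_univ c)] at h
  have h1 : ∑ c' ∈ univ.erase c, blk ends β D c c' * ctrFn ends D β c' =
      ∑ c' ∈ univ.erase c, ctrFn ends D β c' * (edgeMult (ctrEnds ends D) c c' : ℤ) := by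
    apply Finset.sum_congr rfl
    intro c' hc'
    rw [blk_off ends β D (Finset.ne_of_mem_erase hc').symm, mul_comm]
  rw [h1] at h
  linarith

/-- **S14800 core**: the contraction is again a graph with a multiplicity function. -/
theorem isMultFn_ctr (hβ : IsMultFn ends β)
    (hcls : ∀ v w, ctrMk ends D v = ctrMk ends D w → β v = β w) :
    IsMultFn (ctrEnds ends D) (ctrFn ends D β) := by
  intro c
  refine ⟨ctrFn_pos D hβ c, ?_⟩
  have h := blk_diag_mul D hβ hcls c
  refine ⟨-blk ends β D c c, ?_⟩
  linarith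

theorem mfMatrix_ctr (hβ : IsMultFn ends β)
    (hcls : ∀ v w, ctrMk ends D v = ctrMk ends D w → β v = β w) (c c' : CtrVert ends D) :
    mfMatrix (ctrEnds ends D) (ctrFn ends D β) c c' = blk ends β D c c' := by
  by_cases h : c = c'
  · subst h
    unfold mfMatrix
    rw [if_pos rfl, ← blk_diag_mul D hβ hcls c,
      Int.mul_ediv_cancel_left _ (ne_of_gt (ctrFn_pos D hβ c))]
  · rw [mfMatrix_off _ _ h, blk_off ends β D h]

/-- **Key identity**: `α' x' = push (α (x' ∘ mk))`. -/
theorem mulVec_ctr (hβ : IsMultFn ends β)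
    (hcls : ∀ v w, ctrMk ends D v = ctrMk ends D w → β v = β w) (x' : CtrVert ends D → ℤ) :
    (mfMatrix (ctrEnds ends D) (ctrFn ends D β)).mulVec x' =
      pushV ends D ((mfMatrix ends β).mulVec (fun v => x' (ctrMk ends D v))) := by
  funext c
  change ∑ c', mfMatrix (ctrEnds ends D) (ctrFn ends D β) c c' * x' c' =
    ∑ v ∈ univ.filter (fun v => ctrMk ends D v = c),
      ∑ w, mfMatrix ends β v w * x' (ctrMk ends D w)
  simp_rw [mfMatrix_ctr D hβ hcls, blk, Finset.sum_mul]
  rw [Finset.sum_filter, Finset.sum_comm]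
  apply Finset.sum_congr rfl
  intro v _
  rw [Finset.sum_comm]
  by_cases hv : ctrMk ends D v = c
  · rw [if_pos hv]
    apply Finset.sum_congr rfl
    intro w _
    rw [Finset.sum_eq_single (ctrMk ends D w)]
    · rw [if_pos ⟨hv, rfl⟩]
    · intro c' _ hc'
      rw [if_neg (fun h => hc' h.2.symm), zero_mul]
    · intro h; exact absurd (mem_univ _) h
  · rw [if_neg hv]
    apply Finset.sum_eq_zero
    intro w _
    apply Finset.sum_eq_zero
    intro c' _
    rw [if_neg (fun h => hv h.1), zero_mul]

section chain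

variable {k : ℕ} {f : Fin (k + 1) → V} {e : Fin k → E}

theorem ctrMk_chain (hC : IsChain ends f e) (i : Fin (k + 1)) :
    ctrMk ends (univ.image e) (f i) = ctrMk ends (univ.image e) (f 0) := by
  induction i using Fin.induction with
  | zero => rfl
  | succ i ih =>
    rw [← ih]
    have he : e i ∈ univ.image e := Finset.mem_image_of_mem _ (mem_univ _)
    have h := ctrMk_fst_eq_ctrMk_snd ends (univ.image e) he
    rcases hC.2.2 i with h1 | h1
    · rw [h1] at h; exact h.symm
    · rw [h1] at h; exact h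

theorem ctrMk_eq_iff (hC : IsChain ends f e) (v w : V) :
    ctrMk ends (univ.image e) v = ctrMk ends (univ.image e) w ↔
      v = w ∨ (v ∈ Set.range f ∧ w ∈ Set.range f) := by
  constructor
  · intro h
    have h' : Relation.EqvGen (CtrRel ends (univ.image e)) v w := Quotient.exact h
    induction h' with
    | rel x y hxy =>
      obtain ⟨e', he', hends⟩ := hxy
      obtain ⟨i, -, rfl⟩ := Finset.mem_image.1 he'
      right
      rcases hC.2.2 i with h1 | h1
      · rw [h1] at hends
        simp only [Prod.mk.injEq] at hends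
        exact ⟨⟨_, hends.1⟩, ⟨_, hends.2⟩⟩
      · rw [h1] at hends
        simp only [Prod.mk.injEq] at hends
        exact ⟨⟨_, hends.1⟩, ⟨_, hends.2⟩⟩
    | refl x => left; rfl
    | symm x y _ ih =>
      rcases ih (Quotient.sound (by assumption)) with h1 | h1
      · left; exact h1.symm
      · right; exact ⟨h1.2, h1.1⟩
    | trans x y z hxy hyz ih1 ih2 =>
      rcases ih1 (Quotient.sound hxy) with h1 | h1
      · subst h1; exact ih2 (Quotient.sound hyz)
      · rcases ih2 (Quotient.sound hyz) with h2 | h2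
        · subst h2; right; exact h1
        · right; exact ⟨h1.1, h2.2⟩
  · rintro (rfl | ⟨⟨i, rfl⟩, ⟨j, rfl⟩⟩)
    · rfl
    · rw [ctrMk_chain hC i, ctrMk_chain hC j]

theorem cls_of_const (hC : IsChain ends f e) {z : V → ℤ} (hconst : ∀ i j, z (f i) = z (f j))
    (v w : V) (h : ctrMk ends (univ.image e) v = ctrMk ends (univ.image e) w) : z v = z w := by
  rcases (ctrMk_eq_iff hC v w).1 h with rfl | ⟨⟨i, rfl⟩, ⟨j, rfl⟩⟩
  · rfl
  · exact hconst i j

end chain

end Groth.Agent.H22.LabGraphCtr
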