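import Mathlib
import Groth.Agent.Lib.helper22.LabGraphCtr

/-!
# Contraction of a connecting chain with `β = m`, `α = -2`
-/

set_option autoImplicit false
universe u

namespace Groth.Agent.H22.LabGraphChain

open LabGraph DualGr Finset Groth.Agent.H22.LabGraphCtr

variable {V E : Type u} [Fintype V] [Fintype E] [DecidableEq V] [DecidableEq E]

section telescope

variable {A : Type*} [AddCommGroup A]

theorem telescope1 (d : ℕ → A) (n : ℕ) :
    ∑ k ∈ range n, (d k - (2:ℤ) • d (k + 1) + d (k + 2)) = d 0 - d 1 - d n + d (n + 1) := by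
  induction n with
  | zero => simp
  | succ n ih =>
    rw [Finset.sum_range_succ, ih]
    module

theorem telescope2 (d : ℕ → A) (n : ℕ) :
    ∑ k ∈ range n, ((n:ℤ) - (k:ℤ)) • (d k - (2:ℤ) • d (k + 1) + d (k + 2)) =
      (n:ℤ) • d 0 - ((n:ℤ) + 1) • d 1 + d (n + 1) := by
  induction n with
  | zero => simp
  | succ n ih =>
    rw [Finset.sum_range_succ]
    have h1 : ∑ k ∈ range n, (((n + 1 : ℕ) : ℤ) - (k:ℤ)) • (d k - (2:ℤ) • d (k + 1) + d (k + 2)) =
        ∑ k ∈ range n, ((n:ℤ) - (k:ℤ)) • (d k - (2:ℤ) • d (k + 1) + d (k + 2)) +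
        ∑ k ∈ range n, (d k - (2:ℤ) • d (k + 1) + d (k + 2)) := by
      rw [← Finset.sum_add_distrib]
      apply Finset.sum_congr rfl
      intro k _
      push_cast
      module
    rw [h1, ih, telescope1]
    push_cast
    module

end telescope

section rowsum

variable {ends : E → V × V} {β : V → ℤ}

/-- If `u` has `α u u = -2`, and two distinct neighbours `a, b` with `β u = β a = β b = m`,
then the row of `u` is `(1, -2, 1)` at `a, u, b` and zero elsewhere. -/
theorem row_of_two_nbrs (hβ : IsMultFn ends β) {u a b : V} {m : ℤ} (hab : a ≠ b) (hau : a ≠ u)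
    (hbu : b ≠ u) (hu : mfMatrix ends β u u = -2) (hβu : β u = m) (hβa : β a = m) (hβb : β b = m)
    (ha : 1 ≤ edgeMult ends u a) (hb : 1 ≤ edgeMult ends u b) (w : V) :
    mfMatrix ends β u w = (if w = a then 1 else 0) + (if w = b then 1 else 0) +
      (if w = u then -2 else 0) := by
  set h : V → ℤ := fun w => (mfMatrix ends β u w - ((if w = a then 1 else 0) +
    (if w = b then 1 else 0) + (if w = u then -2 else 0))) * β w with hh
  have hnn : ∀ w ∈ (univ : Finset V), 0 ≤ h w := by
    intro w _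
    have hβw : 0 < β w := (hβ w).1
    apply mul_nonneg _ hβw.le
    by_cases hwu : w = u
    · subst hwu
      rw [if_neg (Ne.symm hau), if_neg (Ne.symm hbu), if_pos rfl, hu]; norm_num
    · rw [if_neg hwu, mfMatrix_off ends β (Ne.symm hwu)]
      by_cases hwa : w = a
      · subst hwa
        rw [if_pos rfl, if_neg hab]
        have : (1:ℤ) ≤ (edgeMult ends u w : ℤ) := by exact_mod_cast ha
        linarith
      · rw [if_neg hwa]
        by_cases hwb : w = b
        · subst hwb
          rw [if_pos rfl]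
          have : (1:ℤ) ≤ (edgeMult ends u w : ℤ) := by exact_mod_cast hb
          linarith
        · rw [if_neg hwb]
          have : (0:ℤ) ≤ (edgeMult ends u w : ℤ) := by positivity
          linarith
  have hsum : ∑ w, h w = 0 := by
    simp only [hh, sub_mul, add_mul, ite_mul, one_mul, zero_mul]
    rw [Finset.sum_sub_distrib, mfMatrix_row hβ u, Finset.sum_add_distrib, Finset.sum_add_distrib,
      Finset.sum_ite_eq', Finset.sum_ite_eq', Finset.sum_ite_eq']
    simp only [mem_univ, if_true, hβa, hβb, hβu]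
    ring
  have hz := (Finset.sum_eq_zero_iff_of_nonneg hnn).1 hsum w (mem_univ w)
  have hβw : β w ≠ 0 := ne_of_gt (hβ w).1
  have := (mul_eq_zero.1 hz).resolve_right hβw
  linarith

end rowsum

/-- hypotheses bundle -/
structure ChainData (ends : E → V × V) (β : V → ℤ) (m : ℕ) (f : Fin (m + 1) → V)
    (e : Fin m → E) : Prop where
  hβ : IsMultFn ends β
  hC : IsChain ends f e
  hconn : ∀ i, IsConnecting ends (e i)
  hβm : ∀ i, β (f i) = m
  hα : ∀ i, mfMatrix ends β (f i) (f i) = -2

/-- chain vertices indexed by `ℕ` -/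
def gg {m : ℕ} (f : Fin (m + 1) → V) (j : ℕ) : V := if h : j < m + 1 then f ⟨j, h⟩ else f 0

section chain

variable {ends : E → V × V} {β : V → ℤ} {m : ℕ} {f : Fin (m + 1) → V} {e : Fin m → E}

theorem gg_of_le {j : ℕ} (h : j ≤ m) : gg f j = f ⟨j, Nat.lt_succ_of_le h⟩ := by
  unfold gg; rw [dif_pos (Nat.lt_succ_of_le h)]

theorem gg_fin (i : Fin (m + 1)) : gg f i.val = f i := by
  rw [gg_of_le (Nat.le_of_lt_succ i.2)]

theorem gg_zero : gg f 0 = f 0 := by
  rw [gg_of_le (Nat.zero_le m)]; rfl

theorem gg_mem_range (j : ℕ) : gg f j ∈ Set.range f := by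
  unfold gg; split_ifs <;> exact ⟨_, rfl⟩

theorem mem_range_iff (v : V) : v ∈ Set.range f ↔ ∃ j, j ≤ m ∧ v = gg f j := by
  constructor
  · rintro ⟨i, rfl⟩
    exact ⟨i.val, Nat.le_of_lt_succ i.2, (gg_fin i).symm⟩
  · rintro ⟨j, _, rfl⟩; exact gg_mem_range j

namespace ChainData

variable (h : ChainData ends β m f e)
include h

theorem m_pos : 0 < m := by
  have := (h.hβ (f 0)).1
  rw [h.hβm 0] at this
  exact_mod_cast this

theorem gg_inj {i j : ℕ} (hi : i ≤ m) (hj : j ≤ m) (hij : gg f i = gg f j) : i = j := by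
  rw [gg_of_le hi, gg_of_le hj] at hij
  have := h.hC.1 hij
  exact Fin.mk.inj_iff.1 this

theorem beta_gg (j : ℕ) : β (gg f j) = m := by
  unfold gg; split_ifs <;> exact h.hβm _

theorem diag_gg (j : ℕ) : mfMatrix ends β (gg f j) (gg f j) = -2 := by
  unfold gg; split_ifs <;> exact h.hα _

/-- the edge joining `g j` and `g (j+1)` -/
theorem edge_gg {j : ℕ} (hj : j < m) :
    ends (e ⟨j, hj⟩) = (gg f j, gg f (j + 1)) ∨ ends (e ⟨j, hj⟩) = (gg f (j + 1), gg f j) := by
  have := h.hC.2.2 ⟨j, hj⟩
  rw [gg_of_le hj.le, gg_of_le (Nat.succ_le_of_lt hj)]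
  exact this

theorem edgeMult_gg_pos {j : ℕ} (hj : j < m) : 1 ≤ edgeMult ends (gg f j) (gg f (j + 1)) := by
  unfold edgeMult
  apply Finset.card_pos.2
  exact ⟨e ⟨j, hj⟩, by simp only [mem_filter, mem_univ, true_and]; exact h.edge_gg hj⟩

/-- interior rows -/
theorem row_interior {j : ℕ} (hj : j + 2 ≤ m) (w : V) :
    mfMatrix ends β (gg f (j + 1)) w = (if w = gg f j then 1 else 0) +
      (if w = gg f (j + 2) then 1 else 0) + (if w = gg f (j + 1) then -2 else 0) := by
  apply row_of_two_nbrs h.hβ (m := m)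
  · intro hh; have := h.gg_inj (by omega) (by omega) hh; omega
  · intro hh; have := h.gg_inj (by omega) (by omega) hh; omega
  · intro hh; have := h.gg_inj (by omega) (by omega) hh; omega
  · exact h.diag_gg _
  · exact h.beta_gg _
  · exact h.beta_gg _
  · exact h.beta_gg _
  · rw [edgeMult_comm]; exact h.edgeMult_gg_pos (by omega)
  · exact h.edgeMult_gg_pos (j := j + 1) (by omega)

theorem mulVec_interior {j : ℕ} (hj : j + 2 ≤ m) (z : V → ℤ) :
    (mfMatrix ends β).mulVec z (gg f (j + 1)) =
      z (gg f j) - 2 * z (gg f (j + 1)) + z (gg f (j + 2)) := by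
  change ∑ w, mfMatrix ends β (gg f (j + 1)) w * z w = _
  simp_rw [h.row_interior hj, add_mul, ite_mul, one_mul, zero_mul]
  rw [Finset.sum_add_distrib, Finset.sum_add_distrib, Finset.sum_ite_eq', Finset.sum_ite_eq',
    Finset.sum_ite_eq']
  simp only [mem_univ, if_true]
  ring

theorem mfMatrix_symm (v w : V) : mfMatrix ends β v w = mfMatrix ends β w v := by
  by_cases hvw : v = w
  · rw [hvw]
  · exact mfMatrix_symm_off ends β hvw

/-- interior columns as vectors -/
theorem mulVec_single_interior {j : ℕ} (hj : j + 2 ≤ m) :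
    (mfMatrix ends β).mulVec (Pi.single (gg f (j + 1)) 1) =
      Pi.single (gg f j) 1 - (2:ℤ) • Pi.single (gg f (j + 1)) 1 + Pi.single (gg f (j + 2)) 1 := by
  funext v
  rw [Matrix.mulVec_single_one]
  change mfMatrix ends β v (gg f (j + 1)) = _
  rw [h.mfMatrix_symm, h.row_interior hj]
  simp only [Pi.add_apply, Pi.sub_apply, Pi.smul_apply, Pi.single_apply, smul_eq_mul]
  split_ifs <;> ring

end ChainData

end chain

section cut

variable {ends : E → V × V} {β : V → ℤ} {m : ℕ} {f : Fin (m + 1) → V} {e : Fin m → E}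

namespace ChainData

variable (h : ChainData ends β m f e)
include h

theorem exists_cut : ∃ S : Finset V,
    (∀ e', ((ends e').1 ∈ S ↔ (ends e').2 ∉ S) ↔ e' = e ⟨0, h.m_pos⟩) ∧ gg f 0 ∉ S ∧
      ∀ j, 1 ≤ j → j ≤ m → gg f j ∈ S := by
  obtain ⟨S₀, hS₀⟩ := h.hconn ⟨0, h.m_pos⟩
  -- choose the side
  obtain ⟨S, hS, h0⟩ : ∃ S : Finset V,
      (∀ e', ((ends e').1 ∈ S ↔ (ends e').2 ∉ S) ↔ e' = e ⟨0, h.m_pos⟩) ∧ gg f 0 ∉ S := by
    by_cases h0 : gg f 0 ∈ S₀
    · refine ⟨S₀ᶜ, ?_, ?_⟩
      · intro e'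
        rw [← hS₀ e']
        simp only [Finset.mem_compl]
        tauto
      · simpa using h0
    · exact ⟨S₀, hS₀, h0⟩
  refine ⟨S, hS, h0, ?_⟩
  intro j hj1
  induction j, hj1 using Nat.le_induction with
  | base =>
    intro _
    have hcross := (hS (e ⟨0, h.m_pos⟩)).2 rfl
    rcases h.edge_gg h.m_pos with h1 | h1
    · rw [h1] at hcross
      simp only at hcross
      by_contra hc
      exact h0 (hcross.2 hc)
    · rw [h1] at hcross
      simp only at hcross
      exact hcross.2 h0
  | succ j hj ih =>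
    intro hjm
    have hjm' : j < m := by omega
    have ihj := ih (by omega)
    have hne : e ⟨j, hjm'⟩ ≠ e ⟨0, h.m_pos⟩ := by
      intro hh
      have := h.hC.2.1 hh
      have := Fin.mk.inj_iff.1 this
      omega
    have hnc := mt (hS (e ⟨j, hjm'⟩)).1 hne
    rcases h.edge_gg hjm' with h1 | h1
    · rw [h1] at hnc
      simp only at hnc
      by_contra hc
      exact hnc ⟨fun _ => hc, fun _ => ihj⟩
    · rw [h1] at hnc
      simp only at hnc
      by_contra hc
      exact hnc ⟨fun hh => absurd hh hc, fun hh => absurd ihj hh⟩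

end ChainData

/-- Crossing count for a cut with a unique crossing edge. -/
theorem edgeMult_cross {S : Finset V} {e₀ : E}
    (hS : ∀ e', ((ends e').1 ∈ S ↔ (ends e').2 ∉ S) ↔ e' = e₀) {a b : V}
    (he₀ : ends e₀ = (a, b) ∨ ends e₀ = (b, a)) (ha : a ∉ S) (hb : b ∈ S)
    {v w : V} (hv : v ∉ S) (hw : w ∈ S) :
    edgeMult ends v w = if v = a ∧ w = b then 1 else 0 := by
  unfold edgeMult
  have hsub : ∀ e', (ends e' = (v, w) ∨ ends e' = (w, v)) → e' = e₀ := by
    intro e' he'
    apply (hS e').1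
    rcases he' with h1 | h1
    · rw [h1]; simp only; exact ⟨fun hh => absurd hh hv, fun hh => absurd hw hh⟩
    · rw [h1]; simp only; exact ⟨fun _ => hv, fun _ => hw⟩
  by_cases hvw : v = a ∧ w = b
  · rw [if_pos hvw]
    obtain ⟨rfl, rfl⟩ := hvw
    rw [Finset.card_eq_one]
    refine ⟨e₀, ?_⟩
    ext e'
    simp only [mem_filter, mem_univ, true_and, mem_singleton]
    constructor
    · exact hsub e'
    · rintro rfl; exact he₀
  · rw [if_neg hvw, Finset.card_eq_zero]
    ext e'
    simp only [mem_filter, mem_univ, true_and, Finset.notMem_empty, iff_false]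
    intro he'
    have := hsub e' he'
    subst this
    apply hvw
    rcases he' with h1 | h1 <;> rcases he₀ with h2 | h2 <;> rw [h1] at h2 <;>
      simp only [Prod.mk.injEq] at h2
    · exact h2
    · exact absurd (h2.1 ▸ hb) hv
    · exact absurd (h2.2 ▸ hb) hv
    · exact ⟨h2.2, h2.1⟩

end cut

section cutvec

variable {ends : E → V × V} {β : V → ℤ}

/-- the cut vector `β · 1_S` -/
def cutVec (β : V → ℤ) (S : Finset V) : V → ℤ := fun v => if v ∈ S then β v else 0

theorem mulVec_cutVec (hβ : IsMultFn ends β) {S : Finset V} {e₀ : E}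
    (hS : ∀ e', ((ends e').1 ∈ S ↔ (ends e').2 ∉ S) ↔ e' = e₀) {a b : V}
    (he₀ : ends e₀ = (a, b) ∨ ends e₀ = (b, a)) (ha : a ∉ S) (hb : b ∈ S) :
    (mfMatrix ends β).mulVec (cutVec β S) = β b • Pi.single a 1 - β a • Pi.single b 1 := by
  funext v
  simp only [Pi.sub_apply, Pi.smul_apply, Pi.single_apply, smul_eq_mul, mul_ite, mul_one, mul_zero]
  change ∑ w, mfMatrix ends β v w * cutVec β S w = _
  by_cases hv : v ∈ S
  · have hva : v ≠ a := fun hh => ha (hh ▸ hv)
    rw [if_neg hva, zero_sub]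
    have h1 : ∑ w, mfMatrix ends β v w * cutVec β S w =
        ∑ w, mfMatrix ends β v w * β w - ∑ w, (if w = a ∧ v = b then β w else 0) := by
      rw [← Finset.sum_sub_distrib]
      apply Finset.sum_congr rfl
      intro w _
      unfold cutVec
      by_cases hw : w ∈ S
      · rw [if_pos hw, if_neg (fun hh : w = a ∧ v = b => ha (hh.1 ▸ hw)), sub_zero]
      · rw [if_neg hw, mul_zero]
        have hvw : v ≠ w := fun hh => hw (hh ▸ hv)
        rw [mfMatrix_off ends β hvw, edgeMult_comm, edgeMult_cross hS he₀ ha hb hw hv]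
        split_ifs <;> simp
    rw [h1, mfMatrix_row hβ v, zero_sub]
    congr 1
    by_cases hvb : v = b
    · simp only [hvb, and_true, Finset.sum_ite_eq', mem_univ, if_true]
    · simp only [hvb, and_false, if_false, Finset.sum_const_zero]
  · have hvb : v ≠ b := fun hh => hv (hh ▸ hb)
    rw [if_neg hvb, sub_zero]
    have h1 : ∑ w, mfMatrix ends β v w * cutVec β S w =
        ∑ w, (if v = a ∧ w = b then β w else 0) := by
      apply Finset.sum_congr rfl
      intro w _
      unfold cutVec
      by_cases hw : w ∈ S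
      · rw [if_pos hw]
        have hvw : v ≠ w := fun hh => hv (hh ▸ hw)
        rw [mfMatrix_off ends β hvw, edgeMult_cross hS he₀ ha hb hv hw]
        split_ifs <;> simp
      · rw [if_neg hw, mul_zero, if_neg (fun hh : v = a ∧ w = b => hw (hh.2 ▸ hb))]
    rw [h1]
    by_cases hva : v = a
    · simp only [hva, true_and, Finset.sum_ite_eq', mem_univ, if_true]
    · simp only [hva, false_and, if_false, Finset.sum_const_zero]

end cutvec

section psi

variable {ends : E → V × V} {β : V → ℤ} {m : ℕ} {f : Fin (m + 1) → V} {e : Fin m → E}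

/-- `δ_j` -/
def dl (f : Fin (m + 1) → V) (j : ℕ) : V → ℤ := Pi.single (gg f j) 1

/-- `Z_n = Σ_{k<n} (n-k) δ_{k+1}` -/
def Zvec (f : Fin (m + 1) → V) (n : ℕ) : V → ℤ :=
  ∑ k ∈ range n, ((n:ℤ) - (k:ℤ)) • dl f (k + 1)

namespace ChainData

variable (h : ChainData ends β m f e)
include h

theorem dl_apply_gg {i j : ℕ} (hi : i ≤ m) (hj : j ≤ m) :
    dl f j (gg f i) = if i = j then 1 else 0 := by
  unfold dl
  rw [Pi.single_apply]
  by_cases hij : i = j
  · rw [if_pos hij, if_pos (by rw [hij])]
  · rw [if_neg hij, if_neg (fun hh => hij (h.gg_inj hi hj hh))]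

theorem mulVec_dl_interior {j : ℕ} (hj : j + 2 ≤ m) :
    (mfMatrix ends β).mulVec (dl f (j + 1)) = dl f j - (2:ℤ) • dl f (j + 1) + dl f (j + 2) :=
  h.mulVec_single_interior hj

theorem mulVec_Zvec {n : ℕ} (hn : n + 1 ≤ m) :
    (mfMatrix ends β).mulVec (Zvec f n) =
      (n:ℤ) • dl f 0 - ((n:ℤ) + 1) • dl f 1 + dl f (n + 1) := by
  rw [← telescope2 (dl f) n, ← Matrix.mulVecLin_apply, Zvec, map_sum]
  apply Finset.sum_congr rfl
  intro k hk
  rw [map_smul, Matrix.mulVecLin_apply, h.mulVec_dl_interior (by have := Finset.mem_range.1 hk; omega)]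

theorem Zvec_apply_gg {n i : ℕ} (hn : n + 1 ≤ m) (hi : i ≤ m) :
    Zvec f n (gg f i) = if 1 ≤ i ∧ i ≤ n then (n:ℤ) + 1 - i else 0 := by
  unfold Zvec
  rw [Finset.sum_apply]
  simp only [Pi.smul_apply, smul_eq_mul]
  by_cases hin : 1 ≤ i ∧ i ≤ n
  · rw [if_pos hin, Finset.sum_eq_single (i - 1)]
    · rw [h.dl_apply_gg hi (by omega), if_pos (by omega)]
      have : ((i - 1 : ℕ) : ℤ) = (i:ℤ) - 1 := by
        rw [Nat.cast_sub hin.1]; simp
      rw [this]; ring
    · intro k hk hki
      have := Finset.mem_range.1 hk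
      rw [h.dl_apply_gg hi (by omega), if_neg (by omega), mul_zero]
    · intro hh
      exact absurd (Finset.mem_range.2 (by omega)) hh
  · rw [if_neg hin]
    apply Finset.sum_eq_zero
    intro k hk
    have := Finset.mem_range.1 hk
    rw [h.dl_apply_gg hi (by omega), if_neg (by omega), mul_zero]

/-- The vector `ψ` with `α ψ = δ_0 - δ_m` and `ψ (g i) = i`. -/
theorem exists_psi : ∃ ψ : V → ℤ,
    (mfMatrix ends β).mulVec ψ = dl f 0 - dl f m ∧ ∀ i, i ≤ m → ψ (gg f i) = i := by
  obtain ⟨S, hS, h0, hS1⟩ := h.exists_cut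
  have hm := h.m_pos
  refine ⟨cutVec β S - Zvec f (m - 1), ?_, ?_⟩
  · rw [Matrix.mulVec_sub, mulVec_cutVec h.hβ hS (h.edge_gg hm) h0 (hS1 1 le_rfl hm),
      h.mulVec_Zvec (by omega), h.beta_gg, h.beta_gg]
    have h1 : m - 1 + 1 = m := by omega
    have h2 : ((m - 1 : ℕ) : ℤ) = (m:ℤ) - 1 := by rw [Nat.cast_sub hm]; simp
    rw [h1, h2]
    unfold dl
    simp only [zero_add]
    module
  · intro i hi
    rw [Pi.sub_apply, h.Zvec_apply_gg (by omega) hi]
    unfold cutVec
    have h2 : ((m - 1 : ℕ) : ℤ) = (m:ℤ) - 1 := by rw [Nat.cast_sub hm]; simp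
    rcases Nat.eq_zero_or_pos i with rfl | hipos
    · rw [if_neg h0, if_neg (by omega)]; simp
    · rw [if_pos (hS1 i hipos hi), h.beta_gg]
      by_cases him : i ≤ m - 1
      · rw [if_pos ⟨hipos, him⟩, h2]; ring
      · rw [if_neg (fun hh => him hh.2)]
        have : i = m := by omega
        rw [this]; ring

end ChainData

end psi

section lift

variable {ends : E → V × V} {β : V → ℤ} {m : ℕ} {f : Fin (m + 1) → V} {e : Fin m → E}

theorem pushV_apply (D : Finset E) (φ : V → ℤ) (c : CtrVert ends D) :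
    pushV ends D φ c = ∑ x ∈ univ.filter (fun x => ctrMk ends D x = c), φ x := rfl

theorem pushV_single (D : Finset E) (v : V) (a : ℤ) :
    pushV ends D (Pi.single v a) = Pi.single (ctrMk ends D v) a := by
  funext c
  rw [pushV_apply, Finset.sum_pi_single', Pi.single_apply]
  simp only [mem_filter, mem_univ, true_and]
  by_cases hc : ctrMk ends D v = c
  · rw [if_pos hc, if_pos hc.symm]
  · rw [if_neg hc, if_neg (Ne.symm hc)]

theorem betaHom_apply (β : V → ℤ) (x : V → ℤ) : betaHom β x = ∑ v, x v * β v := by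
  unfold betaHom
  rw [Fintype.linearCombination_apply]
  rfl

theorem betaHom_pushV (D : Finset E)
    (hcls : ∀ v w, ctrMk ends D v = ctrMk ends D w → β v = β w) (y : V → ℤ) :
    betaHom (ctrFn ends D β) (pushV ends D y) = betaHom β y := by
  rw [betaHom_apply, betaHom_apply]
  simp_rw [pushV_apply, Finset.sum_mul]
  rw [← Finset.sum_fiberwise (univ : Finset V) (ctrMk ends D) (fun v => y v * β v)]
  apply Finset.sum_congr rfl
  intro c _
  apply Finset.sum_congr rfl
  intro v hv
  have : ctrMk ends D v = c := (Finset.mem_filter.1 hv).2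
  rw [← this, ctrFn_mk ends D hcls]

/-- `liftAt` as a linear map -/
noncomputable def liftLin (ends : E → V × V) (e : Fin m → E) (f : Fin (m + 1) → V) :
    (CtrVert ends (univ.image e) → ℤ) →ₗ[ℤ] (V → ℤ) where
  toFun := liftAt ends (univ.image e) (f 0)
  map_add' x y := by
    funext v
    simp only [liftAt, Pi.add_apply]
    split_ifs <;> simp
  map_smul' c x := by
    funext v
    simp only [liftAt, Pi.smul_apply, RingHom.id_apply]
    split_ifs <;> simp

theorem liftLin_apply (x' : CtrVert ends (univ.image e) → ℤ) :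
    liftLin ends e f x' = liftAt ends (univ.image e) (f 0) x' := rfl

namespace ChainData

variable (h : ChainData ends β m f e)
include h

theorem hcls (v w : V) (hvw : ctrMk ends (univ.image e) v = ctrMk ends (univ.image e) w) :
    β v = β w :=
  cls_of_const h.hC (fun i j => by rw [h.hβm, h.hβm]) v w hvw

theorem ctrMk_eq_zero_iff (v : V) :
    ctrMk ends (univ.image e) v = ctrMk ends (univ.image e) (f 0) ↔ v ∈ Set.range f := by
  rw [ctrMk_eq_iff h.hC]
  constructor
  · rintro (rfl | hh)
    · exact ⟨0, rfl⟩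
    · exact hh.1
  · intro hv
    exact Or.inr ⟨hv, ⟨0, rfl⟩⟩

theorem liftAt_apply (x' : CtrVert ends (univ.image e) → ℤ) (v : V) :
    liftAt ends (univ.image e) (f 0) x' v =
      if v ∈ Set.range f ∧ v ≠ f 0 then 0 else x' (ctrMk ends (univ.image e) v) := by
  unfold liftAt
  simp only [h.ctrMk_eq_zero_iff]

theorem filter_class_off {v : V} (hv : v ∉ Set.range f) :
    univ.filter (fun x => ctrMk ends (univ.image e) x = ctrMk ends (univ.image e) v) = {v} := by
  ext x
  simp only [mem_filter, mem_univ, true_and, mem_singleton, ctrMk_eq_iff h.hC]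
  constructor
  · rintro (rfl | hh)
    · rfl
    · exact absurd hh.2 hv
  · rintro rfl; exact Or.inl rfl

theorem filter_class_chain :
    univ.filter (fun x => ctrMk ends (univ.image e) x = ctrMk ends (univ.image e) (f 0)) =
      univ.image f := by
  ext x
  simp only [mem_filter, mem_univ, true_and, h.ctrMk_eq_zero_iff, mem_image, Set.mem_range]

theorem pushV_off (q : V → ℤ) {v : V} (hv : v ∉ Set.range f) :
    pushV ends (univ.image e) q (ctrMk ends (univ.image e) v) = q v := by
  rw [pushV_apply, h.filter_class_off hv, Finset.sum_singleton]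

theorem pushV_chain (q : V → ℤ) :
    pushV ends (univ.image e) q (ctrMk ends (univ.image e) (f 0)) =
      ∑ i ∈ range (m + 1), q (gg f i) := by
  rw [pushV_apply, h.filter_class_chain, Finset.sum_image (fun a _ b _ hab => h.hC.1 hab),
    Finset.sum_range]
  apply Finset.sum_congr rfl
  intro i _
  rw [gg_fin]

theorem pushV_liftAt (x' : CtrVert ends (univ.image e) → ℤ) :
    pushV ends (univ.image e) (liftAt ends (univ.image e) (f 0) x') = x' := by
  funext c
  obtain ⟨v, rfl⟩ := ctrMk_surjective ends (univ.image e) c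
  by_cases hv : v ∈ Set.range f
  · rw [(h.ctrMk_eq_zero_iff v).2 hv, pushV_apply, Finset.sum_eq_single (f 0)]
    · rw [h.liftAt_apply, if_neg (fun hh => hh.2 rfl)]
    · intro x _ hx0
      rw [h.liftAt_apply]
      by_cases hx : x ∈ Set.range f
      · rw [if_pos ⟨hx, hx0⟩]
      · exfalso
        rename_i hmem
        exact hx ((h.ctrMk_eq_zero_iff x).1 (Finset.mem_filter.1 hmem).2)
    · intro hh
      exfalso
      apply hh
      rw [Finset.mem_filter]
      exact ⟨mem_univ (f 0), rfl⟩
  · rw [h.pushV_off _ hv, h.liftAt_apply, if_neg (fun hh => hv hh.1)]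

theorem betaHom_liftAt (x' : CtrVert ends (univ.image e) → ℤ) :
    betaHom β (liftAt ends (univ.image e) (f 0) x') =
      betaHom (ctrFn ends (univ.image e) β) x' := by
  conv_rhs => rw [← h.pushV_liftAt x']
  rw [betaHom_pushV _ h.hcls]

/-- `liftAt (pushV q) = q - Σ_{i<m} q(g(i+1)) (δ_{i+1} - δ_0)` -/
theorem liftAt_pushV (q : V → ℤ) :
    liftAt ends (univ.image e) (f 0) (pushV ends (univ.image e) q) =
      q - ∑ i ∈ range m, q (gg f (i + 1)) • (dl f (i + 1) - dl f 0) := by
  funext v
  rw [h.liftAt_apply, Pi.sub_apply, Finset.sum_apply]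
  simp only [Pi.smul_apply, Pi.sub_apply, smul_eq_mul]
  by_cases hv : v ∈ Set.range f
  · obtain ⟨j, hj, rfl⟩ := (mem_range_iff v).1 hv
    rcases Nat.eq_zero_or_pos j with rfl | hjpos
    · rw [if_neg (fun hh => hh.2 gg_zero), gg_zero, h.pushV_chain, Finset.sum_range_succ']
      have : ∀ i ∈ range m, q (gg f (i + 1)) * (dl f (i + 1) (f 0) - dl f 0 (f 0)) =
          - q (gg f (i + 1)) := by
        intro i hi
        have him := Finset.mem_range.1 hi
        rw [← gg_zero (f := f), h.dl_apply_gg (Nat.zero_le _) (by omega), if_neg (by omega),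
          h.dl_apply_gg (Nat.zero_le _) (Nat.zero_le _), if_pos rfl]
        ring
      rw [Finset.sum_congr rfl this, Finset.sum_neg_distrib, gg_zero]
      ring
    · have hne : gg f j ≠ f 0 := by
        rw [← gg_zero (f := f)]
        intro hh
        have := h.gg_inj hj (Nat.zero_le _) hh
        omega
      rw [if_pos ⟨hv, hne⟩, Finset.sum_eq_single (j - 1)]
      · rw [show j - 1 + 1 = j by omega, h.dl_apply_gg hj hj, if_pos rfl,
          h.dl_apply_gg hj (Nat.zero_le _), if_neg (by omega)]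
        ring
      · intro i hi hij
        have him := Finset.mem_range.1 hi
        rw [h.dl_apply_gg hj (by omega), if_neg (by omega), h.dl_apply_gg hj (Nat.zero_le _),
          if_neg (by omega)]
        ring
      · intro hh
        exact absurd (Finset.mem_range.2 (by omega)) hh
  · rw [if_neg (fun hh => hv hh.1), h.pushV_off _ hv]
    have : ∀ i ∈ range m, q (gg f (i + 1)) * (dl f (i + 1) v - dl f 0 v) = 0 := by
      intro i _
      have h1 : ∀ j, dl f j v = 0 := by
        intro j
        unfold dl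
        rw [Pi.single_apply, if_neg]
        intro hh
        exact hv (hh ▸ gg_mem_range j)
      rw [h1, h1]; ring
    rw [Finset.sum_eq_zero this, sub_zero]

end ChainData

end lift

section main

variable {ends : E → V × V} {β : V → ℤ} {m : ℕ} {f : Fin (m + 1) → V} {e : Fin m → E}

theorem betaHom_mulVec (hβ : IsMultFn ends β) (ζ : V → ℤ) :
    betaHom β ((mfMatrix ends β).mulVec ζ) = 0 := by
  rw [betaHom_apply]
  change ∑ v, (∑ w, mfMatrix ends β v w * ζ w) * β v = 0
  simp_rw [Finset.sum_mul]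
  rw [Finset.sum_comm]
  apply Finset.sum_eq_zero
  intro w _
  have : ∑ v, mfMatrix ends β v w * ζ w * β v = ζ w * ∑ v, mfMatrix ends β w v * β v := by
    rw [Finset.mul_sum]
    apply Finset.sum_congr rfl
    intro v _
    have hs : mfMatrix ends β v w = mfMatrix ends β w v := by
      by_cases hvw : v = w
      · rw [hvw]
      · exact mfMatrix_symm_off ends β hvw
    rw [hs]; ring
  rw [this, mfMatrix_row hβ, mul_zero]

namespace ChainData

variable (h : ChainData ends β m f e)
include h

theorem ctrMk_gg (j : ℕ) :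
    ctrMk ends (univ.image e) (gg f j) = ctrMk ends (univ.image e) (f 0) :=
  (h.ctrMk_eq_zero_iff _).2 (gg_mem_range j)

theorem gg_ne_zero {j : ℕ} (hj1 : 1 ≤ j) (hj : j ≤ m) : gg f j ≠ f 0 := by
  rw [← gg_zero (f := f)]
  intro hh
  have := h.gg_inj hj (Nat.zero_le _) hh
  omega

/-- row of `g 0` along the chain -/
theorem row_zero_chain {j : ℕ} (hj1 : 1 ≤ j) (hj : j ≤ m) :
    mfMatrix ends β (gg f 0) (gg f j) = if j = 1 then 1 else 0 := by
  obtain ⟨S, hS, h0, hS1⟩ := h.exists_cut
  have hm := h.m_pos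
  have hne : gg f 0 ≠ gg f j := by
    rw [gg_zero]; exact (h.gg_ne_zero hj1 hj).symm
  rw [mfMatrix_off ends β hne,
    edgeMult_cross hS (h.edge_gg hm) h0 (hS1 1 le_rfl hm) h0 (hS1 j hj1 hj)]
  by_cases hj' : j = 1
  · subst hj'
    rw [if_pos ⟨rfl, rfl⟩, if_pos rfl]; rfl
  · rw [if_neg hj', if_neg]
    · rfl
    · rintro ⟨-, hh⟩
      exact hj' (h.gg_inj hj hm hh)

/-- (W): `liftAt` maps `im α'` into `im α`. -/
theorem lift_range (z' : CtrVert ends (univ.image e) → ℤ) :
    ∃ ζ : V → ℤ, (mfMatrix ends β).mulVec ζ = liftAt ends (univ.image e) (f 0)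
      ((mfMatrix (ctrEnds ends (univ.image e)) (ctrFn ends (univ.image e) β)).mulVec z') := by
  obtain ⟨ψ, hψ, -⟩ := h.exists_psi
  have hm := h.m_pos
  set zt : V → ℤ := fun v => z' (ctrMk ends (univ.image e) v) with hzt
  set q := (mfMatrix ends β).mulVec zt with hq
  rw [mulVec_ctr (univ.image e) h.hβ h.hcls z', h.liftAt_pushV]
  have hint : ∀ i ∈ range m, i ≠ m - 1 → q (gg f (i + 1)) • (dl f (i + 1) - dl f 0) = 0 := by
    intro i hi hne
    have him := Finset.mem_range.1 hi
    have : q (gg f (i + 1)) = 0 := by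
      rw [hq, h.mulVec_interior (by omega)]
      simp only [hzt, h.ctrMk_gg]
      ring
    rw [this, zero_smul]
  rw [Finset.sum_eq_single (m - 1) hint
    (fun hh => absurd (Finset.mem_range.2 (by omega)) hh), show m - 1 + 1 = m by omega]
  refine ⟨zt + q (gg f m) • ψ, ?_⟩
  rw [Matrix.mulVec_add, Matrix.mulVec_smul, hψ]
  module

/-- (Surj) -/
theorem surj (y : V → ℤ) (hy : betaHom β y = 0) :
    ∃ x' : CtrVert ends (univ.image e) → ℤ, betaHom (ctrFn ends (univ.image e) β) x' = 0 ∧
      ∃ ζ : V → ℤ, y - liftAt ends (univ.image e) (f 0) x' = (mfMatrix ends β).mulVec ζ := by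
  have hm := h.m_pos
  set col := (mfMatrix ends β).mulVec (dl f 0) with hcol
  set s : ℤ := ∑ i ∈ range m, ((i:ℤ) + 1) * y (gg f (i + 1)) with hs
  have hcolg : ∀ i ∈ range m, col (gg f (i + 1)) = if i = 0 then 1 else 0 := by
    intro i hi
    have him := Finset.mem_range.1 hi
    rw [hcol]
    unfold dl
    rw [Matrix.mulVec_single_one]
    change mfMatrix ends β (gg f (i + 1)) (gg f 0) = _
    rw [h.mfMatrix_symm, h.row_zero_chain (by omega) (by omega)]
    simp
  have hliftcol : liftAt ends (univ.image e) (f 0) (pushV ends (univ.image e) col) =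
      col - (dl f 1 - dl f 0) := by
    rw [h.liftAt_pushV, Finset.sum_eq_single 0]
    · rw [hcolg 0 (Finset.mem_range.2 hm), if_pos rfl, one_smul]
    · intro i hi hi0
      rw [hcolg i hi, if_neg hi0, zero_smul]
    · intro hh; exact absurd (Finset.mem_range.2 hm) hh
  refine ⟨pushV ends (univ.image e) y + s • (-(pushV ends (univ.image e) col)), ?_, ?_⟩
  · rw [map_add, map_smul, map_neg, betaHom_pushV _ h.hcls, betaHom_pushV _ h.hcls, hy, hcol,
      betaHom_mulVec h.hβ]
    simp
  · refine ⟨∑ i ∈ range m, y (gg f (i + 1)) • Zvec f i + s • dl f 0, ?_⟩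
    have hlin : liftAt ends (univ.image e) (f 0)
        (pushV ends (univ.image e) y + s • (-(pushV ends (univ.image e) col))) =
        liftAt ends (univ.image e) (f 0) (pushV ends (univ.image e) y) +
          s • (-(liftAt ends (univ.image e) (f 0) (pushV ends (univ.image e) col))) := by
      rw [← liftLin_apply, ← liftLin_apply, ← liftLin_apply, map_add, map_smul, map_neg]
    rw [hlin, hliftcol, h.liftAt_pushV, ← Matrix.mulVecLin_apply, map_add, map_sum, map_smul,
      Matrix.mulVecLin_apply, ← hcol]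
    have hZ : ∀ i ∈ range m, (Matrix.mulVecLin (mfMatrix ends β)) (y (gg f (i + 1)) • Zvec f i) =
        y (gg f (i + 1)) • (dl f (i + 1) - dl f 0) -
          (((i:ℤ) + 1) * y (gg f (i + 1))) • (dl f 1 - dl f 0) := by
      intro i hi
      have him := Finset.mem_range.1 hi
      rw [map_smul, Matrix.mulVecLin_apply, h.mulVec_Zvec (by omega)]
      module
    rw [Finset.sum_congr rfl hZ, Finset.sum_sub_distrib, ← Finset.sum_smul, ← hs]
    module

/-- (Inj) -/
theorem inj (x' : CtrVert ends (univ.image e) → ℤ) (z : V → ℤ)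
    (hz : liftAt ends (univ.image e) (f 0) x' = (mfMatrix ends β).mulVec z) :
    ∃ z' : CtrVert ends (univ.image e) → ℤ,
      x' = (mfMatrix (ctrEnds ends (univ.image e)) (ctrFn ends (univ.image e) β)).mulVec z' := by
  obtain ⟨ψ, hψ, hψg⟩ := h.exists_psi
  have hm := h.m_pos
  set t : ℤ := z (gg f 1) - z (gg f 0) with ht
  -- z is linear along the chain
  have hlin : ∀ i, i ≤ m → z (gg f i) = z (gg f 0) + (i:ℤ) * t := by
    intro i
    induction i using Nat.strong_induction_on with
    | _ i ih =>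
      intro hi
      match i, ih, hi with
      | 0, _, _ => simp
      | 1, _, _ => rw [ht]; push_cast; ring
      | (j + 2), ih, hi =>
        have h1 := ih j (by omega) (by omega)
        have h2 := ih (j + 1) (by omega) (by omega)
        have h3 := h.mulVec_interior hi z
        rw [← hz, h.liftAt_apply, if_pos ⟨gg_mem_range _, h.gg_ne_zero (by omega) (by omega)⟩] at h3
        push_cast at h1 h2 ⊢
        linarith
  set z0 : V → ℤ := z - t • ψ with hz0
  have hz0g : ∀ i, i ≤ m → z0 (gg f i) = z (gg f 0) := by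
    intro i hi
    rw [hz0, Pi.sub_apply, Pi.smul_apply, hlin i hi, hψg i hi, smul_eq_mul]
    ring
  have hcls0 : ∀ v w, ctrMk ends (univ.image e) v = ctrMk ends (univ.image e) w → z0 v = z0 w := by
    apply cls_of_const h.hC
    intro i j
    have hi := hz0g i.val (Nat.le_of_lt_succ i.2)
    have hj := hz0g j.val (Nat.le_of_lt_succ j.2)
    rw [gg_fin] at hi hj
    rw [hi, hj]
  refine ⟨fun c => z0 (Quotient.out (s := ctrSetoid ends (univ.image e)) c), ?_⟩
  rw [mulVec_ctr (univ.image e) h.hβ h.hcls]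
  have : (fun v => z0 (Quotient.out (s := ctrSetoid ends (univ.image e))
      (ctrMk ends (univ.image e) v))) = z0 := by
    funext v
    exact out_const ends (univ.image e) hcls0 v
  rw [this, hz0, Matrix.mulVec_sub, Matrix.mulVec_smul, hψ, ← hz, map_sub, map_smul, map_sub,
    h.pushV_liftAt]
  unfold dl
  rw [pushV_single, pushV_single, h.ctrMk_gg, h.ctrMk_gg, sub_self, smul_zero, sub_zero]

end ChainData

end main

end Groth.Agent.H22.LabGraphChain
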