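import Mathlib
import Groth.Prelude.Def_W4c1nerontoraddGraph

/-!
# Circuits, reachability and cuts in labelled multigraphs (helper22)

General lemmas on `LabGraph.IsCircuit` (minimal nonempty even edge sets):
* `Reach ends F a b`: `a`, `b` joined by a chain of edges of `F`;
* `exists_chain_of_reach`: an integer 1-chain supported in `F` with boundary `b - a`;
* `reach_of_even`: in an even edge set no edge is a bridge;
* `exists_circuit_subset`: a nonempty even edge set contains a circuit;
* `not_reach_of_forest`: in an edge set without circuits every edge is a bridge;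
* `coprime_imp_decomp`: circuit-coprime implies `ℤ^E = im δ + l·ℤ^E`;
* `coprime_of_orth`: the converse, stated with orthogonality to cycles.
-/

set_option autoImplicit false
universe u

namespace Groth.Agent.H22.Circ

open LabGraph

variable {V E : Type u} [Fintype V] [Fintype E] [DecidableEq V] [DecidableEq E]

/-- adjacency through an edge of `F` -/
def AdjIn (ends : E → V × V) (F : Finset E) (a b : V) : Prop :=
  ∃ e ∈ F, ends e = (a, b) ∨ ends e = (b, a)

/-- joined by a chain of edges of `F` -/
def Reach (ends : E → V × V) (F : Finset E) (a b : V) : Prop :=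
  Relation.ReflTransGen (AdjIn ends F) a b

omit [Fintype V] [Fintype E] [DecidableEq V] [DecidableEq E] in
theorem Reach.refl (ends : E → V × V) (F : Finset E) (a : V) : Reach ends F a a :=
  Relation.ReflTransGen.refl

omit [Fintype V] [Fintype E] [DecidableEq V] [DecidableEq E] in
theorem Reach.tail {ends : E → V × V} {F : Finset E} {a b c : V} (h : Reach ends F a b)
    (h' : AdjIn ends F b c) : Reach ends F a c :=
  Relation.ReflTransGen.tail h h'

omit [Fintype V] [Fintype E] [DecidableEq V] [DecidableEq E] in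
theorem Reach.mono {ends : E → V × V} {F F' : Finset E} (hF : F ⊆ F') {a b : V}
    (h : Reach ends F a b) : Reach ends F' a b := by
  unfold Reach at *
  have hle : AdjIn ends F ≤ AdjIn ends F' := by
    rintro x y ⟨e, he, h⟩
    exact ⟨e, hF he, h⟩
  exact Relation.ReflTransGen.mono hle _ _ h

omit [Fintype V] [DecidableEq E] in
theorem boundary_add (ends : E → V × V) (γ γ' : E → ℤ) (u : V) :
    boundary ends (γ + γ') u = boundary ends γ u + boundary ends γ' u := by
  simp only [boundary, Pi.add_apply, ← Finset.sum_add_distrib]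
  refine Finset.sum_congr rfl fun e _ => ?_
  split_ifs <;> ring

theorem boundary_single (ends : E → V × V) (e : E) (s : ℤ) (u : V) :
    boundary ends (Pi.single e s) u =
      (if (ends e).2 = u then s else 0) - (if (ends e).1 = u then s else 0) := by
  unfold boundary
  rw [Finset.sum_eq_single e]
  · simp
  · intro b _ hb
    simp [Pi.single_apply, hb]
  · intro h; exact absurd (Finset.mem_univ e) h

omit [Fintype V] [DecidableEq E] in
theorem boundary_zero (ends : E → V × V) (u : V) : boundary ends (0 : E → ℤ) u = 0 := by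
  simp [boundary]

/-- a chain of edges of `F` from `v` to `w` gives an integer 1-chain supported in `F` with
boundary `w - v` -/
theorem exists_chain_of_reach {ends : E → V × V} {F : Finset E} {v w : V}
    (h : Reach ends F v w) :
    ∃ γ : E → ℤ, (∀ e, e ∉ F → γ e = 0) ∧
      ∀ u, boundary ends γ u = (if u = w then 1 else 0) - (if u = v then 1 else 0) := by
  induction h with
  | refl => exact ⟨0, fun _ _ => rfl, fun u => by simp [boundary_zero]⟩
  | @tail b c _ hbc ih =>
    obtain ⟨γ, hγ, hb⟩ := ih
    obtain ⟨e, he, hec⟩ := hbc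
    rcases hec with hec | hec
    · refine ⟨γ + Pi.single e 1, ?_, ?_⟩
      · intro e' he'
        have : e' ≠ e := fun h => he' (h ▸ he)
        simp [hγ e' he', Pi.single_apply, this]
      · intro u
        rw [boundary_add, hb, boundary_single, hec]
        have e1 : ∀ (x : V) (s : ℤ), (if x = u then s else 0) = if u = x then s else 0 :=
          fun x s => by simp [eq_comm]
        simp only [e1]
        split_ifs <;> ring
    · refine ⟨γ + Pi.single e (-1), ?_, ?_⟩
      · intro e' he'
        have : e' ≠ e := fun h => he' (h ▸ he)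
        simp [hγ e' he', Pi.single_apply, this]
      · intro u
        rw [boundary_add, hb, boundary_single, hec]
        have e1 : ∀ (x : V) (s : ℤ), (if x = u then s else 0) = if u = x then s else 0 :=
          fun x s => by simp [eq_comm]
        simp only [e1]
        split_ifs <;> ring

/-- the parity of the end count of the odd-support of `γ` is that of its boundary -/
theorem even_endCount_sub_boundary (ends : E → V × V) (γ : E → ℤ) (u : V) :
    Even ((endCount ends (Finset.univ.filter fun e => Odd (γ e)) u : ℤ) - boundary ends γ u) := by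
  unfold endCount boundary
  rw [Finset.sum_filter]
  push_cast
  rw [← Finset.sum_sub_distrib]
  apply Finset.even_sum
  intro e _
  rcases Int.even_or_odd (γ e) with ⟨k, hk⟩ | ⟨k, hk⟩
  · have ho : ¬ Odd (γ e) := by rw [Int.not_odd_iff_even]; exact ⟨k, hk⟩
    rw [if_neg ho]
    by_cases c1 : (ends e).1 = u <;> by_cases c2 : (ends e).2 = u <;>
      simp only [c1, c2, if_true, if_false] <;> (try rw [hk]) <;> rw [even_iff_two_dvd] <;> omega
  · have ho : Odd (γ e) := ⟨k, hk⟩
    rw [if_pos ho]
    by_cases c1 : (ends e).1 = u <;> by_cases c2 : (ends e).2 = u <;>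
      simp only [c1, c2, if_true, if_false] <;> (try rw [hk]) <;> rw [even_iff_two_dvd] <;> omega

theorem endCount_insert (ends : E → V × V) (D : Finset E) (e : E) (he : e ∉ D) (u : V) :
    endCount ends (insert e D) u =
      ((if (ends e).1 = u then 1 else 0) + (if (ends e).2 = u then 1 else 0)) + endCount ends D u := by
  unfold endCount
  rw [Finset.sum_insert he]

/-- a nonempty even edge set contains a circuit -/
theorem exists_circuit_subset (ends : E → V × V) :
    ∀ (n : ℕ) (C : Finset E), C.card = n → C.Nonempty → (∀ v, Even (endCount ends C v)) →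
      ∃ C' ⊆ C, IsCircuit ends C' := by
  intro n
  induction n using Nat.strong_induction_on with
  | _ n ih =>
    intro C hn hne hev
    by_cases hC : IsCircuit ends C
    · exact ⟨C, Finset.Subset.refl _, hC⟩
    · unfold IsCircuit at hC
      push_neg at hC
      obtain ⟨C', hC', hne', hev'⟩ := hC hne hev
      obtain ⟨C'', hsub, hcirc⟩ := ih C'.card (hn ▸ Finset.card_lt_card hC') C' rfl hne' hev'
      exact ⟨C'', hsub.trans hC'.subset, hcirc⟩

/-- in an even edge set, no edge is a bridge -/
theorem reach_of_even (ends : E → V × V) (C : Finset E) (hev : ∀ v, Even (endCount ends C v))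
    (e₀ : E) (he₀ : e₀ ∈ C) : Reach ends (C.erase e₀) (ends e₀).1 (ends e₀).2 := by
  classical
  by_contra hcon
  set S : Finset V := Finset.univ.filter fun u => Reach ends (C.erase e₀) (ends e₀).1 u with hS
  have hmem : ∀ u, u ∈ S ↔ Reach ends (C.erase e₀) (ends e₀).1 u := by
    intro u; simp [hS]
  have h1 : Even (∑ u ∈ S, endCount ends C u) := Finset.even_sum _ fun u _ => hev u
  have h2 : ∑ u ∈ S, endCount ends C u =
      ∑ e ∈ C, ((if (ends e).1 ∈ S then 1 else 0) + (if (ends e).2 ∈ S then 1 else 0)) := by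
    unfold endCount
    rw [Finset.sum_comm]
    refine Finset.sum_congr rfl fun e _ => ?_
    rw [Finset.sum_add_distrib]
    simp [Finset.sum_ite_eq]
  rw [h2, ← Finset.add_sum_erase C _ he₀] at h1
  have h3 : Even (∑ e ∈ C.erase e₀,
      ((if (ends e).1 ∈ S then 1 else 0) + (if (ends e).2 ∈ S then 1 else 0))) := by
    apply Finset.even_sum
    intro e he
    have hiff : (ends e).1 ∈ S ↔ (ends e).2 ∈ S := by
      rw [hmem, hmem]
      constructor
      · intro h; exact h.tail ⟨e, he, Or.inl rfl⟩
      · intro h; exact h.tail ⟨e, he, Or.inr rfl⟩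
    by_cases h : (ends e).1 ∈ S
    · rw [if_pos h, if_pos (hiff.mp h)]; exact ⟨1, rfl⟩
    · rw [if_neg h, if_neg (fun h' => h (hiff.mpr h'))]; exact ⟨0, rfl⟩
  have h4 : (ends e₀).1 ∈ S := (hmem _).2 (Reach.refl _ _ _)
  have h5 : (ends e₀).2 ∉ S := fun h => hcon ((hmem _).1 h)
  rw [if_pos h4, if_neg h5] at h1
  have h6 : Even (1 : ℕ) := by
    have := (Nat.even_add.mp h1).mpr h3
    simpa using this
  exact absurd h6 (by decide)

/-- in an edge set without circuits, every edge is a bridge -/
theorem not_reach_of_forest (ends : E → V × V) (F : Finset E)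
    (hF : ∀ C : Finset E, C ⊆ F → ¬ IsCircuit ends C) (e : E) (he : e ∈ F) :
    ¬ Reach ends (F.erase e) (ends e).1 (ends e).2 := by
  intro hr
  obtain ⟨γ, hγ, hb⟩ := exists_chain_of_reach hr
  set D : Finset E := Finset.univ.filter fun e' => Odd (γ e') with hD
  have hDsub : D ⊆ F.erase e := by
    intro e' he'
    by_contra hne
    have := hγ e' hne
    simp only [hD, Finset.mem_filter, Finset.mem_univ, true_and] at he'
    rw [this] at he'
    exact absurd he' (by decide)
  have heD : e ∉ D := fun h => (Finset.mem_erase.mp (hDsub h)).1 rfl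
  have hev : ∀ u, Even (endCount ends (insert e D) u) := by
    intro u
    rw [endCount_insert _ _ _ heD]
    have h1 := even_endCount_sub_boundary ends γ u
    rw [hb u] at h1
    rw [← Int.even_coe_nat]
    push_cast
    have : ((if (ends e).1 = u then (1 : ℤ) else 0) + (if (ends e).2 = u then 1 else 0)) +
        (endCount ends D u : ℤ) =
        ((endCount ends D u : ℤ) - ((if u = (ends e).2 then 1 else 0) -
          (if u = (ends e).1 then 1 else 0))) + 2 * (if u = (ends e).2 then 1 else 0) := by
      have e1 : ∀ (x : V) (s : ℤ), (if x = u then s else 0) = if u = x then s else 0 :=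
        fun x s => by simp [eq_comm]
      simp only [e1]
      split_ifs <;> ring
    rw [this]
    exact h1.add ⟨_, by ring⟩
  obtain ⟨C', hsub, hcirc⟩ := exists_circuit_subset ends _ (insert e D) rfl
    (Finset.insert_nonempty _ _) hev
  refine hF C' (hsub.trans ?_) hcirc
  intro e' he'
  rcases Finset.mem_insert.mp he' with rfl | h
  · exact he
  · exact Finset.mem_of_mem_erase (hDsub h)

/-- the coboundary `ℤ^V → ℤ^E` -/
def cobd (ends : E → V × V) : (V → ℤ) →ₗ[ℤ] (E → ℤ) where
  toFun φ e := φ (ends e).2 - φ (ends e).1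
  map_add' φ φ' := by funext e; simp; ring
  map_smul' c φ := by funext e; simp; ring

/-- multiplication by the labels -/
def mulL (l : E → ℕ) : (E → ℤ) →ₗ[ℤ] (E → ℤ) where
  toFun y e := (l e : ℤ) * y e
  map_add' y y' := by funext e; simp; ring
  map_smul' c y := by funext e; simp; ring

/-- `im δ + l · ℤ^E` -/
def NN (ends : E → V × V) (l : E → ℕ) : Submodule ℤ (E → ℤ) :=
  LinearMap.range (cobd ends) ⊔ LinearMap.range (mulL l)

omit [Fintype V] [Fintype E] [DecidableEq V] [DecidableEq E] in
theorem mem_NN_iff (ends : E → V × V) (l : E → ℕ) (x : E → ℤ) :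
    x ∈ NN ends l ↔ ∃ (φ : V → ℤ) (y : E → ℤ),
      ∀ e, x e = φ (ends e).2 - φ (ends e).1 + (l e : ℤ) * y e := by
  unfold NN
  rw [Submodule.mem_sup]
  constructor
  · rintro ⟨_, ⟨φ, rfl⟩, _, ⟨y, rfl⟩, rfl⟩
    exact ⟨φ, y, fun e => rfl⟩
  · rintro ⟨φ, y, h⟩
    exact ⟨_, ⟨φ, rfl⟩, _, ⟨y, rfl⟩, by funext e; rw [h e]; rfl⟩

/-- adjointness of boundary and coboundary -/
theorem sum_mul_cobd (ends : E → V × V) (γ : E → ℤ) (φ : V → ℤ) :
    ∑ e, γ e * (φ (ends e).2 - φ (ends e).1) = ∑ v, boundary ends γ v * φ v := by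
  unfold boundary
  simp_rw [Finset.sum_mul]
  rw [Finset.sum_comm]
  refine Finset.sum_congr rfl fun e _ => ?_
  simp_rw [sub_mul, ite_mul, zero_mul]
  rw [Finset.sum_sub_distrib]
  simp [Finset.sum_ite_eq]
  ring

theorem eq_sum_single (x : E → ℤ) : x = ∑ e, x e • (Pi.single e (1 : ℤ) : E → ℤ) := by
  funext e'
  rw [Finset.sum_apply]
  simp [Pi.single_apply]

/-- key descent step -/
theorem step (ends : E → V × V) (l : E → ℕ) (hco : IsCircuitCoprime ends l)
    (q k' : ℕ) (hq : q.Prime)
    (hk : ∀ x : E → ℤ, ((q * k' : ℕ) : ℤ) • x ∈ NN ends l) :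
    ∀ x : E → ℤ, (k' : ℤ) • x ∈ NN ends l := by
  classical
  -- case A
  have hA : ∀ e, ¬ q ∣ l e → (k' : ℤ) • (Pi.single e (1 : ℤ) : E → ℤ) ∈ NN ends l := by
    intro e hql
    have hcop : Nat.Coprime q (l e) := (Nat.Prime.coprime_iff_not_dvd hq).2 hql
    have hbez := Int.gcd_eq_gcd_ab (q : ℤ) (l e : ℤ)
    have hg : Int.gcd (q : ℤ) (l e : ℤ) = 1 := by
      rw [Int.gcd_natCast_natCast]; exact hcop
    rw [hg] at hbez
    set a := Int.gcdA (q : ℤ) (l e : ℤ)
    set b := Int.gcdB (q : ℤ) (l e : ℤ)
    have : (k' : ℤ) • (Pi.single e (1 : ℤ) : E → ℤ) =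
        a • (((q * k' : ℕ) : ℤ) • (Pi.single e (1 : ℤ) : E → ℤ)) +
          mulL l ((b * k') • (Pi.single e (1 : ℤ) : E → ℤ)) := by
      funext e'
      simp only [mulL, LinearMap.coe_mk, AddHom.coe_mk, Pi.add_apply, Pi.smul_apply, smul_eq_mul,
        Pi.single_apply]
      by_cases h : e' = e
      · subst h
        simp only [if_true]
        push_cast
        have h1 : (1 : ℤ) = (q : ℤ) * a + (l e' : ℤ) * b := by simpa using hbez
        linear_combination (k' : ℤ) * h1
      · simp [h]
    rw [this]
    refine Submodule.add_mem _ (Submodule.smul_mem _ _ (hk _)) ?_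
    exact Submodule.mem_sup_right ⟨_, rfl⟩
  -- case B
  have hB : ∀ e, q ∣ l e → (k' : ℤ) • (Pi.single e (1 : ℤ) : E → ℤ) ∈ NN ends l := by
    intro e hql
    set Eq : Finset E := Finset.univ.filter fun e' => q ∣ l e' with hEq
    have heEq : e ∈ Eq := by simp [hEq, hql]
    have hforest : ∀ C : Finset E, C ⊆ Eq → ¬ IsCircuit ends C := by
      intro C hC hcirc
      have h1 := hco C hcirc
      have h2 : q ∣ C.gcd l := Finset.dvd_gcd fun e' he' => by
        have := hC he'
        simp only [hEq, Finset.mem_filter, Finset.mem_univ, true_and] at this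
        exact this
      rw [h1] at h2
      exact hq.one_lt.ne' (Nat.dvd_one.mp h2)
    have hbridge := not_reach_of_forest ends Eq hforest e heEq
    set S : Finset V := Finset.univ.filter fun u => Reach ends (Eq.erase e) (ends e).1 u with hS
    have hmem : ∀ u, u ∈ S ↔ Reach ends (Eq.erase e) (ends e).1 u := by
      intro u; simp [hS]
    set ind : V → ℤ := fun u => if u ∈ S then 1 else 0 with hind
    set w : E → ℤ := Pi.single e (1 : ℤ) + cobd ends ind with hw
    have hw0 : ∀ e' ∈ Eq, w e' = 0 := by
      intro e' he'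
      by_cases hee : e' = e
      · subst hee
        have h4 : (ends e').1 ∈ S := (hmem _).2 (Reach.refl _ _ _)
        have h5 : (ends e').2 ∉ S := fun h => hbridge ((hmem _).1 h)
        simp [hw, cobd, hind, h4, h5]
      · have hiff : (ends e').1 ∈ S ↔ (ends e').2 ∈ S := by
          rw [hmem, hmem]
          have he'' : e' ∈ Eq.erase e := Finset.mem_erase.mpr ⟨hee, he'⟩
          constructor
          · intro h; exact h.tail ⟨e', he'', Or.inl rfl⟩
          · intro h; exact h.tail ⟨e', he'', Or.inr rfl⟩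
        by_cases h : (ends e').1 ∈ S
        · simp [hw, cobd, hind, h, hiff.mp h, Pi.single_apply, hee]
        · have h2 : (ends e').2 ∉ S := fun h' => h (hiff.mpr h')
          simp [hw, cobd, hind, h, h2, Pi.single_apply, hee]
    have hkw : (k' : ℤ) • w ∈ NN ends l := by
      rw [eq_sum_single w, Finset.smul_sum]
      refine Submodule.sum_mem _ fun e' _ => ?_
      by_cases he' : e' ∈ Eq
      · rw [hw0 e' he']; simp
      · rw [smul_comm]
        refine Submodule.smul_mem _ _ (hA e' ?_)
        simpa [hEq] using he'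
    have : (k' : ℤ) • (Pi.single e (1 : ℤ) : E → ℤ) = (k' : ℤ) • w - (k' : ℤ) • cobd ends ind := by
      rw [hw, smul_add]; abel
    rw [this]
    exact Submodule.sub_mem _ hkw (Submodule.smul_mem _ _ (Submodule.mem_sup_left ⟨_, rfl⟩))
  intro x
  rw [eq_sum_single x, Finset.smul_sum]
  refine Submodule.sum_mem _ fun e _ => ?_
  rw [smul_comm]
  refine Submodule.smul_mem _ _ ?_
  by_cases h : q ∣ l e
  · exact hB e h
  · exact hA e h

theorem descent (ends : E → V × V) (l : E → ℕ) (hco : IsCircuitCoprime ends l) :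
    ∀ k : ℕ, 0 < k → (∀ x : E → ℤ, (k : ℤ) • x ∈ NN ends l) → ∀ x : E → ℤ, x ∈ NN ends l := by
  intro k
  induction k using Nat.strong_induction_on with
  | _ k ih =>
    intro hk hP
    by_cases h1 : k = 1
    · subst h1
      intro x
      simpa using hP x
    · have hq : (k.minFac).Prime := Nat.minFac_prime h1
      obtain ⟨k', hk'⟩ := Nat.minFac_dvd k
      have hk'pos : 0 < k' := by
        rcases Nat.eq_zero_or_pos k' with h | h
        · rw [h, mul_zero] at hk'; omega
        · exact h
      have hlt : k' < k := by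
        rw [hk']
        exact lt_mul_of_one_lt_left hk'pos hq.one_lt
      refine ih k' hlt hk'pos (step ends l hco k.minFac k' hq ?_)
      rw [← hk']; exact hP

/-- circuit-coprime implies `ℤ^E = im δ + l·ℤ^E` -/
theorem coprime_imp_decomp (ends : E → V × V) (l : E → ℕ) (hl : ∀ e, 0 < l e)
    (hco : IsCircuitCoprime ends l) (x : E → ℤ) :
    ∃ (φ : V → ℤ) (y : E → ℤ), ∀ e, x e = φ (ends e).2 - φ (ends e).1 + (l e : ℤ) * y e := by
  rw [← mem_NN_iff]
  refine descent ends l hco (∏ e, l e) (Finset.prod_pos fun e _ => hl e) ?_ x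
  intro x
  refine Submodule.mem_sup_right ⟨fun e => ((∏ e' ∈ Finset.univ.erase e, l e' : ℕ) : ℤ) * x e, ?_⟩
  funext e
  simp only [mulL, LinearMap.coe_mk, AddHom.coe_mk, Pi.smul_apply, smul_eq_mul]
  rw [← Finset.mul_prod_erase Finset.univ l (Finset.mem_univ e)]
  push_cast
  ring

/-- orthogonality condition implies circuit-coprime -/
theorem coprime_of_orth (ends : E → V × V) (l : E → ℕ)
    (h : ∀ x : E → ℤ, ∃ y : E → ℤ, ∀ γ : E → ℤ, (∀ v : V, boundary ends γ v = 0) →
        ∑ e : E, γ e * (x e - (l e : ℤ) * y e) = 0) :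
    IsCircuitCoprime ends l := by
  intro C hC
  obtain ⟨hne, hev, -⟩ := hC
  obtain ⟨e₀, he₀⟩ := hne
  obtain ⟨γ₀, hγ₀, hb⟩ := exists_chain_of_reach (reach_of_even ends C hev e₀ he₀)
  obtain ⟨y, hy⟩ := h (Pi.single e₀ 1)
  set γ : E → ℤ := Pi.single e₀ 1 + (-1 : ℤ) • γ₀ with hγ
  have hcyc : ∀ v, boundary ends γ v = 0 := by
    intro v
    have hneg : boundary ends ((-1 : ℤ) • γ₀) v = - boundary ends γ₀ v := by
      unfold boundary
      rw [← Finset.sum_neg_distrib]
      refine Finset.sum_congr rfl fun e _ => ?_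
      simp only [Pi.smul_apply, smul_eq_mul]
      split_ifs <;> ring
    rw [hγ, boundary_add, boundary_single, hneg, hb]
    by_cases h1 : v = (ends e₀).1 <;> by_cases h2 : v = (ends e₀).2 <;>
      simp [h1, h2, eq_comm]
  have hsum := hy γ hcyc
  have hγe₀ : γ e₀ = 1 := by
    have : γ₀ e₀ = 0 := hγ₀ e₀ (by simp)
    simp [hγ, this]
  have hsupp : ∀ e, e ∉ C → γ e = 0 := by
    intro e he
    have hne : e ≠ e₀ := fun h => he (h ▸ he₀)
    have : γ₀ e = 0 := hγ₀ e (fun h' => he (Finset.mem_of_mem_erase h'))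
    simp [hγ, this, Pi.single_apply, hne]
  have hsplit : ∑ e : E, γ e * ((Pi.single e₀ (1 : ℤ) : E → ℤ) e - (l e : ℤ) * y e) =
      1 - ∑ e ∈ C, γ e * ((l e : ℤ) * y e) := by
    simp_rw [mul_sub]
    rw [Finset.sum_sub_distrib]
    congr 1
    · rw [Finset.sum_eq_single e₀]
      · simp [hγe₀]
      · intro b _ hb'; simp [Pi.single_apply, hb']
      · intro h'; exact absurd (Finset.mem_univ _) h'
    · symm
      apply Finset.sum_subset (Finset.subset_univ _)
      intro e _ he
      rw [hsupp e he]; ring
  rw [hsplit] at hsum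
  have hdvd : ((C.gcd l : ℕ) : ℤ) ∣ ∑ e ∈ C, γ e * ((l e : ℤ) * y e) := by
    apply Finset.dvd_sum
    intro e he
    have : ((C.gcd l : ℕ) : ℤ) ∣ (l e : ℤ) := Int.natCast_dvd_natCast.mpr (Finset.gcd_dvd he)
    exact Dvd.dvd.mul_left (Dvd.dvd.mul_right this _) _
  have h1 : ((C.gcd l : ℕ) : ℤ) ∣ 1 := by
    have : (1 : ℤ) = ∑ e ∈ C, γ e * ((l e : ℤ) * y e) := by linarith
    rw [this]; exact hdvd
  have := Int.natCast_dvd_natCast.mp (by simpa using h1 : ((C.gcd l : ℕ) : ℤ) ∣ ((1 : ℕ) : ℤ))
  exact Nat.dvd_one.mp this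

end Groth.Agent.H22.Circ
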