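import Mathlib
import Groth.Prelude.Def_W4c2conddiscmodels
import Groth.Agent.Lib.helper22.LabGraphCirc

/-!
# Spanning trees of labelled multigraphs in terms of `Reach` and circuits (helper22)
-/

set_option autoImplicit false
universe u

namespace Groth.Agent.H22.Tree

open LabGraph Groth.Agent.H22.Circ

variable {V E : Type u} [Fintype V] [Fintype E] [DecidableEq V] [DecidableEq E]

omit [Fintype V] [Fintype E] [DecidableEq V] [DecidableEq E] in
theorem AdjIn.symm {ends : E → V × V} {F : Finset E} {a b : V} (h : AdjIn ends F a b) :
    AdjIn ends F b a := by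
  obtain ⟨e, he, h⟩ := h
  exact ⟨e, he, h.symm⟩

omit [Fintype V] [Fintype E] [DecidableEq V] [DecidableEq E] in
theorem Reach.symm {ends : E → V × V} {F : Finset E} {a b : V} (h : Reach ends F a b) :
    Reach ends F b a := by
  unfold Reach at *
  induction h with
  | refl => exact Relation.ReflTransGen.refl
  | tail _ hbc ih => exact Relation.ReflTransGen.head (AdjIn.symm hbc) ih

omit [Fintype V] [Fintype E] [DecidableEq V] [DecidableEq E] in
theorem Reach.trans {ends : E → V × V} {F : Finset E} {a b c : V} (h : Reach ends F a b)
    (h' : Reach ends F b c) : Reach ends F a c :=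
  Relation.ReflTransGen.trans h h'

omit [Fintype V] [Fintype E] [DecidableEq V] in
/-- removing a non-bridge keeps reachability -/
theorem reach_erase {ends : E → V × V} {F : Finset E} {e : E}
    (he : Reach ends (F.erase e) (ends e).1 (ends e).2) {a b : V} (h : Reach ends F a b) :
    Reach ends (F.erase e) a b := by
  induction h with
  | refl => exact Reach.refl _ _ _
  | @tail b c _ hbc ih =>
    refine Reach.trans ih ?_
    obtain ⟨e', he', h⟩ := hbc
    by_cases hee : e' = e
    · subst hee
      rcases h with h | h
      · rw [h] at he; exact he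
      · rw [h] at he; exact Reach.symm he
    · exact (Reach.refl _ _ _).tail ⟨e', Finset.mem_erase.mpr ⟨hee, he'⟩, h⟩

/-- a chain of `F` between the ends of an edge `e ∉ F` closes up to a circuit in `insert e F` -/
theorem exists_circuit_insert (ends : E → V × V) (F : Finset E) (e : E) (he : e ∉ F)
    (hr : Reach ends F (ends e).1 (ends e).2) :
    ∃ C : Finset E, C ⊆ insert e F ∧ IsCircuit ends C := by
  by_contra hcon
  push_neg at hcon
  have := not_reach_of_forest ends (insert e F) hcon e (Finset.mem_insert_self _ _)
  rw [Finset.erase_insert he] at this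
  exact this hr

section Restrict

variable (ends : E → V × V) (T : Finset E)

omit [Fintype V] [Fintype E] [DecidableEq V] [DecidableEq E] in
theorem adj_restrict_iff (v w : V) :
    LabGraph.Adj (fun e : T => ends e.1) v w ↔ AdjIn ends T v w := by
  constructor
  · rintro ⟨⟨e, he⟩, h⟩; exact ⟨e, he, h⟩
  · rintro ⟨e, he, h⟩; exact ⟨⟨e, he⟩, h⟩

omit [Fintype V] [Fintype E] [DecidableEq V] [DecidableEq E] in
theorem connected_restrict_iff :
    LabGraph.Connected (fun e : T => ends e.1) ↔ Nonempty V ∧ ∀ v w, Reach ends T v w := by
  have : LabGraph.Adj (fun e : T => ends e.1) = AdjIn ends T := by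
    funext v w; exact propext (adj_restrict_iff ends T v w)
  unfold LabGraph.Connected Reach
  rw [this]

omit [Fintype V] [Fintype E] in
theorem endCount_restrict (C : Finset T) (v : V) :
    endCount (fun e : T => ends e.1) C v =
      endCount ends (C.map (Function.Embedding.subtype _)) v := by
  unfold endCount
  rw [Finset.sum_map]
  rfl

omit [Fintype V] [Fintype E] in
theorem isCircuit_restrict_iff (C : Finset T) :
    IsCircuit (fun e : T => ends e.1) C ↔
      IsCircuit ends (C.map (Function.Embedding.subtype _)) := by
  unfold IsCircuit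
  simp only [endCount_restrict, Finset.map_nonempty]
  constructor
  · rintro ⟨h1, h2, h3⟩
    refine ⟨h1, h2, ?_⟩
    intro C' hC' hne
    have hsub : ∀ x ∈ C', x ∈ T := by
      intro x hx
      have := hC'.subset hx
      obtain ⟨y, _, rfl⟩ := Finset.mem_map.mp this
      exact y.2
    have hC'' : (C'.subtype (· ∈ T)).map (Function.Embedding.subtype _) = C' := by
      rw [Finset.subtype_map]
      exact Finset.filter_true_of_mem hsub
    have hss : C'.subtype (· ∈ T) ⊂ C := by
      rw [← Finset.map_ssubset_map (f := Function.Embedding.subtype _), hC'']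
      exact hC'
    have hne' : (C'.subtype (· ∈ T)).Nonempty := by
      rw [← Finset.map_nonempty (f := Function.Embedding.subtype _), hC'']; exact hne
    obtain ⟨v, hv⟩ := h3 _ hss hne'
    rw [hC''] at hv
    exact ⟨v, hv⟩
  · rintro ⟨h1, h2, h3⟩
    refine ⟨h1, h2, ?_⟩
    intro C' hC' hne
    exact h3 _ (Finset.map_ssubset_map.mpr hC') (by simpa using hne)

omit [Fintype V] [Fintype E] in
theorem isForest_restrict_iff :
    DualGr.IsForest (fun e : T => ends e.1) ↔ ∀ C : Finset E, C ⊆ T → ¬ IsCircuit ends C := by
  unfold DualGr.IsForest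
  constructor
  · intro h C hC hcirc
    have hC'' : (C.subtype (· ∈ T)).map (Function.Embedding.subtype _) = C := by
      rw [Finset.subtype_map]
      exact Finset.filter_true_of_mem fun x hx => hC hx
    refine h (C.subtype (· ∈ T)) ?_
    rw [isCircuit_restrict_iff, hC'']
    exact hcirc
  · intro h C hcirc
    rw [isCircuit_restrict_iff] at hcirc
    refine h _ ?_ hcirc
    intro x hx
    obtain ⟨y, _, rfl⟩ := Finset.mem_map.mp hx
    exact y.2

omit [Fintype V] [Fintype E] in
theorem isSpanningTree_iff :
    IsSpanningTree ends T ↔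
      (Nonempty V ∧ ∀ v w, Reach ends T v w) ∧ ∀ C : Finset E, C ⊆ T → ¬ IsCircuit ends C := by
  unfold IsSpanningTree DualGr.IsTree
  rw [connected_restrict_iff, isForest_restrict_iff]

end Restrict

/-- every connected edge set contains a spanning tree -/
theorem exists_spanningTree_subset (ends : E → V × V) [Nonempty V] :
    ∀ (n : ℕ) (F : Finset E), F.card = n → (∀ v w, Reach ends F v w) →
      ∃ T ⊆ F, IsSpanningTree ends T := by
  intro n
  induction n using Nat.strong_induction_on with
  | _ n ih =>
    intro F hn hconn
    by_cases hF : ∀ C : Finset E, C ⊆ F → ¬ IsCircuit ends C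
    · exact ⟨F, Finset.Subset.refl _, (isSpanningTree_iff ends F).2 ⟨⟨inferInstance, hconn⟩, hF⟩⟩
    · push_neg at hF
      obtain ⟨C, hCF, hcirc⟩ := hF
      obtain ⟨e, he⟩ := hcirc.1
      have hr : Reach ends (F.erase e) (ends e).1 (ends e).2 :=
        (reach_of_even ends C hcirc.2.1 e he).mono (Finset.erase_subset_erase _ hCF)
      have hlt : (F.erase e).card < n := by
        rw [← hn]; exact Finset.card_erase_lt_of_mem (hCF he)
      obtain ⟨T, hT, hST⟩ := ih _ hlt (F.erase e) rfl (fun v w => reach_erase hr (hconn v w))
      exact ⟨T, hT.trans (Finset.erase_subset _ _), hST⟩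

end Groth.Agent.H22.Tree
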