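import Mathlib
import Groth.Prelude.Def_W4c2conddiscmodels
import Groth.Agent.Lib.helper22.LabGraphTree
import Groth.Agent.Lib.helper22.CauchyBinet

/-!
# The weighted matrix-tree theorem for labelled multigraphs (helper22)
-/

set_option autoImplicit false
universe u

namespace Groth.Agent.H22.MT

open LabGraph Groth.Agent.H22.Circ Groth.Agent.H22.Tree Matrix

variable {V E : Type u} [Fintype V] [Fintype E] [DecidableEq V] [DecidableEq E]

/-- reduced incidence matrix (row `r` deleted) -/
def inc (ends : E → V × V) (r : V) : Matrix {v : V // v ≠ r} E ℤ :=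
  fun v e => (if (ends e).2 = v.1 then 1 else 0) - (if (ends e).1 = v.1 then 1 else 0)

omit [Fintype V] [DecidableEq E] in
theorem inc_mulVec (ends : E → V × V) (r : V) (γ : E → ℤ) (v : {v : V // v ≠ r}) :
    (inc ends r *ᵥ γ) v = boundary ends γ v.1 := by
  unfold inc boundary mulVec dotProduct
  refine Finset.sum_congr rfl fun e _ => ?_
  by_cases h1 : (ends e).2 = v.1 <;> by_cases h2 : (ends e).1 = v.1 <;> simp [h1, h2]

/-- the square submatrix of the reduced incidence matrix along an enumeration of `S` -/
def incSub (ends : E → V × V) (r : V) (S : Finset E) (e : {v : V // v ≠ r} ≃ S) :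
    Matrix {v : V // v ≠ r} {v : V // v ≠ r} ℤ :=
  (inc ends r).submatrix id (fun i => (e i : E))

omit [DecidableEq E] in
theorem incSub_mulVec (ends : E → V × V) (r : V) (S : Finset E) (e : {v : V // v ≠ r} ≃ S)
    (γ : E → ℤ) (hγ : ∀ x, x ∉ S → γ x = 0) (v : {v : V // v ≠ r}) :
    (incSub ends r S e *ᵥ (fun i => γ (e i))) v = boundary ends γ v.1 := by
  rw [← inc_mulVec]
  unfold incSub mulVec dotProduct
  simp only [submatrix_apply, id_eq]
  rw [Equiv.sum_comp e (fun s : S => inc ends r v s * γ s)]
  rw [Finset.sum_coe_sort S (fun s => inc ends r v s * γ s)]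
  apply Finset.sum_subset (Finset.subset_univ _)
  intro x _ hx
  rw [hγ x hx, mul_zero]

/-- for a spanning tree the square incidence matrix is unimodular -/
theorem incSub_det_sq_of_tree (ends : E → V × V) (r : V) (S : Finset E)
    (e : {v : V // v ≠ r} ≃ S) (hS : IsSpanningTree ends S) :
    (incSub ends r S e).det ^ 2 = 1 := by
  classical
  rw [isSpanningTree_iff] at hS
  obtain ⟨⟨_, hreach⟩, -⟩ := hS
  have hsurj : Function.Surjective (incSub ends r S e).mulVec := by
    intro z
    choose γ hγ hb using fun w : {v : V // v ≠ r} => exists_chain_of_reach (hreach r w.1)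
    set Γ : E → ℤ := ∑ w, z w • γ w with hΓ
    have hΓS : ∀ x, x ∉ S → Γ x = 0 := by
      intro x hx
      simp only [hΓ, Finset.sum_apply, Pi.smul_apply, smul_eq_mul]
      apply Finset.sum_eq_zero
      intro w _
      rw [hγ w x hx, mul_zero]
    refine ⟨fun i => Γ (e i), ?_⟩
    funext v
    rw [incSub_mulVec ends r S e Γ hΓS v]
    have : boundary ends Γ = ∑ w, z w • boundary ends (γ w) := by
      rw [← DualGr.boundaryHom_apply, hΓ, map_sum]
      simp_rw [map_smul]
      rfl
    rw [this]
    simp only [Finset.sum_apply, Pi.smul_apply, smul_eq_mul, hb]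
    have hvr : v.1 ≠ r := v.2
    simp only [hvr, if_false, sub_zero]
    rw [Finset.sum_eq_single v]
    · simp
    · intro w _ hw
      have : v.1 ≠ w.1 := fun h => hw (Subtype.ext h.symm)
      simp [this]
    · intro h; exact absurd (Finset.mem_univ _) h
  have hunit : IsUnit (incSub ends r S e) := mulVec_surjective_iff_isUnit.mp hsurj
  have hdet : IsUnit (incSub ends r S e).det := (Matrix.isUnit_iff_isUnit_det _).mp hunit
  rcases Int.isUnit_iff.mp hdet with h | h <;> rw [h] <;> norm_num

/-- a circuit inside `S` kills the determinant -/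
theorem incSub_det_of_circuit (ends : E → V × V) (r : V) (S : Finset E)
    (e : {v : V // v ≠ r} ≃ S) (C : Finset E) (hC : C ⊆ S) (hcirc : IsCircuit ends C) :
    (incSub ends r S e).det = 0 := by
  obtain ⟨hne, hev, -⟩ := hcirc
  obtain ⟨e₀, he₀⟩ := hne
  obtain ⟨γ₀, hγ₀, hb⟩ := exists_chain_of_reach (reach_of_even ends C hev e₀ he₀)
  set γ : E → ℤ := Pi.single e₀ 1 + (-1 : ℤ) • γ₀ with hγ
  have hcyc : ∀ v, boundary ends γ v = 0 := by
    intro v
    have hneg : boundary ends ((-1 : ℤ) • γ₀) v = - boundary ends γ₀ v := by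
      unfold boundary
      rw [← Finset.sum_neg_distrib]
      refine Finset.sum_congr rfl fun e _ => ?_
      simp only [Pi.smul_apply, smul_eq_mul]
      split_ifs <;> ring
    rw [hγ, boundary_add, boundary_single, hneg, hb]
    have e1 : ∀ (x : V) (s : ℤ), (if x = v then s else 0) = if v = x then s else 0 :=
      fun x s => by simp [eq_comm]
    simp only [e1]
    split_ifs <;> ring
  have hγe₀ : γ e₀ = 1 := by
    have : γ₀ e₀ = 0 := hγ₀ e₀ (by simp)
    simp [hγ, this]
  have hsupp : ∀ x, x ∉ S → γ x = 0 := by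
    intro x hx
    have hne : x ≠ e₀ := fun h => hx (hC (h ▸ he₀))
    have : γ₀ x = 0 := hγ₀ x (fun h' => hx (hC (Finset.mem_of_mem_erase h')))
    simp [hγ, this, Pi.single_apply, hne]
  rw [← exists_mulVec_eq_zero_iff]
  refine ⟨fun i => γ (e i), ?_, ?_⟩
  · intro h
    have := congrFun h (e.symm ⟨e₀, hC he₀⟩)
    simp [hγe₀] at this
  · funext v
    rw [incSub_mulVec ends r S e γ hsupp v, hcyc]
    rfl

/-- a disconnected `S` kills the determinant -/
theorem incSub_det_of_not_reach (ends : E → V × V) (r : V) (S : Finset E)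
    (e : {v : V // v ≠ r} ≃ S) (w : V) (hw : ¬ Reach ends S r w) :
    (incSub ends r S e).det = 0 := by
  classical
  rw [← exists_vecMul_eq_zero_iff]
  refine ⟨fun v => if Reach ends S r v.1 then 0 else 1, ?_, ?_⟩
  · intro h
    have hwr : w ≠ r := fun h' => hw (h' ▸ Reach.refl _ _ _)
    have := congrFun h ⟨w, hwr⟩
    simp [hw] at this
  · funext i
    unfold vecMul dotProduct incSub inc
    simp only [submatrix_apply, id_eq, Pi.zero_apply]
    have hiff : Reach ends S r (ends (e i : E)).1 ↔ Reach ends S r (ends (e i : E)).2 := by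
      constructor
      · intro h; exact h.tail ⟨_, (e i).2, Or.inl rfl⟩
      · intro h; exact h.tail ⟨_, (e i).2, Or.inr rfl⟩
    have hsum : ∀ (f : V → ℤ), f r = 0 → ∑ v : {v : V // v ≠ r}, f v.1 = ∑ v, f v := by
      intro f hf
      rw [← Finset.sum_subtype (Finset.univ.erase r) (by simp) f]
      rw [Finset.sum_erase _ hf]
    have := hsum (fun v => (if Reach ends S r v then (0 : ℤ) else 1) *
      ((if (ends (e i : E)).2 = v then 1 else 0) - (if (ends (e i : E)).1 = v then 1 else 0)))
      (by simp [Reach.refl])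
    rw [this]
    simp_rw [mul_sub, mul_ite, mul_one, mul_zero]
    rw [Finset.sum_sub_distrib, Finset.sum_ite_eq, Finset.sum_ite_eq]
    simp only [Finset.mem_univ, if_true]
    by_cases h : Reach ends S r (ends (e i : E)).1
    · simp [h, hiff.mp h]
    · have h2 : ¬ Reach ends S r (ends (e i : E)).2 := fun h' => h (hiff.mpr h')
      simp [h, h2]

/-- the square incidence matrix of a non-tree has determinant zero -/
theorem incSub_det_of_not_tree (ends : E → V × V) (r : V) (S : Finset E)
    (e : {v : V // v ≠ r} ≃ S) (hS : ¬ IsSpanningTree ends S) :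
    (incSub ends r S e).det = 0 := by
  rw [isSpanningTree_iff] at hS
  by_cases hconn : ∀ w, Reach ends S r w
  · have : ¬ ∀ C : Finset E, C ⊆ S → ¬ IsCircuit ends C := by
      intro hf
      exact hS ⟨⟨⟨r⟩, fun v w => Reach.trans (Reach.symm (hconn v)) (hconn w)⟩, hf⟩
    push_neg at this
    obtain ⟨C, hC, hcirc⟩ := this
    exact incSub_det_of_circuit ends r S e C hC hcirc
  · push_neg at hconn
    obtain ⟨w, hw⟩ := hconn
    exact incSub_det_of_not_reach ends r S e w hw

/-- the (non-square) incidence matrix restricted to the columns in `T` -/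
def incT (ends : E → V × V) (r : V) (T : Finset E) : Matrix {v : V // v ≠ r} T ℤ :=
  (inc ends r).submatrix id Subtype.val

omit [DecidableEq E] in
theorem incT_mulVec (ends : E → V × V) (r : V) (T : Finset E)
    (γ : E → ℤ) (hγ : ∀ x, x ∉ T → γ x = 0) (v : {v : V // v ≠ r}) :
    (incT ends r T *ᵥ (fun t => γ t.1)) v = boundary ends γ v.1 := by
  rw [← inc_mulVec]
  unfold incT mulVec dotProduct
  simp only [submatrix_apply, id_eq]
  rw [Finset.sum_coe_sort T (fun s => inc ends r v s * γ s)]
  apply Finset.sum_subset (Finset.subset_univ _)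
  intro x _ hx
  rw [hγ x hx, mul_zero]

theorem sum_boundary (ends : E → V × V) (γ : E → ℤ) : ∑ v, boundary ends γ v = 0 := by
  have := sum_mul_cobd ends γ (fun _ => 1)
  simp at this
  exact this.symm

theorem incT_surjective (ends : E → V × V) (r : V) (T : Finset E)
    (hreach : ∀ w, Reach ends T r w) : Function.Surjective (incT ends r T).mulVecLin := by
  classical
  intro z
  choose γ hγ hb using fun w : {v : V // v ≠ r} => exists_chain_of_reach (hreach w.1)
  set Γ : E → ℤ := ∑ w, z w • γ w with hΓ
  have hΓS : ∀ x, x ∉ T → Γ x = 0 := by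
    intro x hx
    simp only [hΓ, Finset.sum_apply, Pi.smul_apply, smul_eq_mul]
    apply Finset.sum_eq_zero
    intro w _
    rw [hγ w x hx, mul_zero]
  refine ⟨fun t => Γ t.1, ?_⟩
  funext v
  rw [Matrix.mulVecLin_apply, incT_mulVec ends r T Γ hΓS v]
  have : boundary ends Γ = ∑ w, z w • boundary ends (γ w) := by
    rw [← DualGr.boundaryHom_apply, hΓ, map_sum]
    simp_rw [map_smul]
    rfl
  rw [this]
  simp only [Finset.sum_apply, Pi.smul_apply, smul_eq_mul, hb]
  have hvr : v.1 ≠ r := v.2
  simp only [hvr, if_false, sub_zero]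
  rw [Finset.sum_eq_single v]
  · simp
  · intro w _ hw
    have : v.1 ≠ w.1 := fun h => hw (Subtype.ext h.symm)
    simp [this]
  · intro h; exact absurd (Finset.mem_univ _) h

theorem incT_injective (ends : E → V × V) (r : V) (T : Finset E)
    (hforest : ∀ C : Finset E, C ⊆ T → ¬ IsCircuit ends C) :
    Function.Injective (incT ends r T).mulVecLin := by
  classical
  rw [← LinearMap.ker_eq_bot, LinearMap.ker_eq_bot']
  intro x hx
  set γ : E → ℤ := fun s => if h : s ∈ T then x ⟨s, h⟩ else 0 with hγ
  have hγT : ∀ s, s ∉ T → γ s = 0 := fun s hs => by simp [hγ, hs]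
  have hxγ : x = fun t => γ t.1 := by
    funext t; simp [hγ, t.2]
  have hb : ∀ v, v ≠ r → boundary ends γ v = 0 := by
    intro v hv
    have := congrFun hx ⟨v, hv⟩
    rw [Matrix.mulVecLin_apply, hxγ, incT_mulVec ends r T γ hγT] at this
    exact this
  have hbr : boundary ends γ r = 0 := by
    have h1 := sum_boundary ends γ
    rw [← Finset.add_sum_erase _ _ (Finset.mem_univ r)] at h1
    rw [Finset.sum_eq_zero (fun v hv => hb v (Finset.ne_of_mem_erase hv))] at h1
    simpa using h1
  have hball : ∀ v, boundary ends γ v = 0 := fun v => by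
    by_cases hv : v = r
    · rw [hv]; exact hbr
    · exact hb v hv
  funext t
  show x t = 0
  have hbridge := not_reach_of_forest ends T hforest t.1 t.2
  set ind : V → ℤ := fun u => if Reach ends (T.erase t.1) (ends t.1).1 u then 1 else 0 with hind
  have hadj := sum_mul_cobd ends γ ind
  simp only [hball, zero_mul, Finset.sum_const_zero] at hadj
  rw [Finset.sum_eq_single t.1] at hadj
  · have h4 : Reach ends (T.erase t.1) (ends t.1).1 (ends t.1).1 := Reach.refl _ _ _
    simp only [hind, h4, hbridge, if_true, if_false] at hadj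
    have : γ t.1 = 0 := by linarith
    rw [hxγ]; exact this
  · intro s _ hs
    by_cases hsT : s ∈ T
    · have hs' : s ∈ T.erase t.1 := Finset.mem_erase.mpr ⟨hs, hsT⟩
      have hiff : Reach ends (T.erase t.1) (ends t.1).1 (ends s).1 ↔
          Reach ends (T.erase t.1) (ends t.1).1 (ends s).2 := by
        constructor
        · intro h; exact h.tail ⟨s, hs', Or.inl rfl⟩
        · intro h; exact h.tail ⟨s, hs', Or.inr rfl⟩
      by_cases h : Reach ends (T.erase t.1) (ends t.1).1 (ends s).1
      · simp [hind, h, hiff.mp h]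
      · have h2 : ¬ Reach ends (T.erase t.1) (ends t.1).1 (ends s).2 := fun h' => h (hiff.mpr h')
        simp [hind, h, h2]
    · rw [hγT s hsT, zero_mul]
  · intro h; exact absurd (Finset.mem_univ _) h

/-- a spanning tree has `|V| - 1` edges -/
theorem card_of_tree (ends : E → V × V) (r : V) (T : Finset E) (hT : IsSpanningTree ends T) :
    T.card = Fintype.card {v : V // v ≠ r} := by
  rw [isSpanningTree_iff] at hT
  obtain ⟨⟨_, hreach⟩, hforest⟩ := hT
  have e := LinearEquiv.ofBijective (incT ends r T).mulVecLin
    ⟨incT_injective ends r T hforest, incT_surjective ends r T (fun w => hreach r w)⟩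
  have := e.finrank_eq
  rw [Module.finrank_fintype_fun_eq_card, Module.finrank_fintype_fun_eq_card] at this
  rw [← this]
  simp

open Classical in
/-- **Weighted matrix-tree theorem.** -/
theorem matrix_tree (ends : E → V × V) (r : V) (c : E → ℤ) :
    (inc ends r * diagonal c * (inc ends r)ᵀ).det =
      ∑ T ∈ Finset.univ.powerset.filter (fun T : Finset E => IsSpanningTree ends T),
        ∏ e ∈ T, c e := by
  rw [Matrix.mul_assoc, CB.det_mul_eq_sum]
  have hterm : ∀ S ∈ Finset.powersetCard (Fintype.card {v : V // v ≠ r}) (Finset.univ : Finset E),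
      CB.cbTerm (inc ends r) (diagonal c * (inc ends r)ᵀ) S =
        if IsSpanningTree ends S then ∏ e ∈ S, c e else 0 := by
    intro S hS
    have hcard : S.card = Fintype.card {v : V // v ≠ r} := (Finset.mem_powersetCard.mp hS).2
    unfold CB.cbTerm
    rw [dif_pos hcard]
    set e := CB.enum (m := {v : V // v ≠ r}) S hcard with he
    have h1 : (inc ends r).submatrix id (fun i => (e i : E)) = incSub ends r S e := rfl
    have h2 : (diagonal c * (inc ends r)ᵀ).submatrix (fun i => (e i : E)) id =
        diagonal (fun i => c (e i)) * (incSub ends r S e)ᵀ := by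
      ext i j
      simp [incSub, Matrix.diagonal_mul]
    rw [h1, h2, det_mul, det_diagonal, det_transpose]
    have h3 : ∏ i, c (e i) = ∏ s ∈ S, c s := by
      rw [Equiv.prod_comp e (fun s : S => c s), Finset.prod_coe_sort S c]
    rw [h3]
    by_cases hS' : IsSpanningTree ends S
    · rw [if_pos hS']
      have := incSub_det_sq_of_tree ends r S e hS'
      calc (incSub ends r S e).det * ((∏ s ∈ S, c s) * (incSub ends r S e).det)
          = (∏ s ∈ S, c s) * (incSub ends r S e).det ^ 2 := by ring
        _ = _ := by rw [this, mul_one]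
    · rw [if_neg hS', incSub_det_of_not_tree ends r S e hS', zero_mul]
  rw [Finset.sum_congr rfl hterm, ← Finset.sum_filter]
  apply Finset.sum_congr _ fun _ _ => rfl
  ext T
  simp only [Finset.mem_filter, Finset.mem_powersetCard, Finset.mem_powerset, Finset.subset_univ,
    true_and]
  constructor
  · rintro ⟨_, h⟩; exact h
  · intro h; exact ⟨card_of_tree ends r T h, h⟩

end Groth.Agent.H22.MT
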