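import Mathlib
import Groth.Prelude.Def_W4c2conddiscmodels
import Groth.Agent.Lib.helper22.LabGraphMT

/-!
# Cycles of a multigraph: potentials and generation by circuit cycles (helper22)
-/

set_option autoImplicit false
universe u

namespace Groth.Agent.H22.Cycle

open LabGraph Groth.Agent.H22.Circ Groth.Agent.H22.Tree Groth.Agent.H22.MT

variable {V E : Type u} [Fintype V] [Fintype E] [DecidableEq V] [DecidableEq E]

theorem boundary_sub (ends : E → V × V) (γ γ' : E → ℤ) (u : V) :
    boundary ends (γ - γ') u = boundary ends γ u - boundary ends γ' u := by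
  have := congrFun (map_sub (DualGr.boundaryHom ends) γ γ') u
  simpa [DualGr.boundaryHom_apply] using this

theorem boundary_smul (ends : E → V × V) (c : ℤ) (γ : E → ℤ) (u : V) :
    boundary ends (c • γ) u = c * boundary ends γ u := by
  have := congrFun (map_smul (DualGr.boundaryHom ends) c γ) u
  simpa [DualGr.boundaryHom_apply] using this

theorem boundary_sum {ι : Type*} (ends : E → V × V) (s : Finset ι) (γ : ι → E → ℤ) (u : V) :
    boundary ends (∑ i ∈ s, γ i) u = ∑ i ∈ s, boundary ends (γ i) u := by
  have := congrFun (map_sum (DualGr.boundaryHom ends) γ s) u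
  rw [Finset.sum_apply] at this
  exact this

/-- a 1-cochain vanishing on all cycles of a connected graph is a coboundary -/
theorem exists_potential (ends : E → V × V) (hreach : ∀ a b, Reach ends Finset.univ a b)
    (r : V) (ω : E → ℤ)
    (hω : ∀ γ : E → ℤ, (∀ v, boundary ends γ v = 0) → ∑ e, γ e * ω e = 0) :
    ∃ φ : V → ℤ, ∀ e, φ (ends e).2 - φ (ends e).1 = ω e := by
  choose γ _ hb using fun v : V => exists_chain_of_reach (hreach r v)
  refine ⟨fun v => ∑ e, γ v e * ω e, fun e => ?_⟩
  set c : E → ℤ := γ (ends e).2 - γ (ends e).1 - Pi.single e 1 with hc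
  have hcyc : ∀ v, boundary ends c v = 0 := by
    intro v
    rw [hc, boundary_sub, boundary_sub, hb, hb, boundary_single]
    have e1 : ∀ (x : V) (s : ℤ), (if x = v then s else 0) = if v = x then s else 0 :=
      fun x s => by simp [eq_comm]
    simp only [e1]
    split_ifs <;> ring
  have := hω c hcyc
  simp only [hc, Pi.sub_apply, sub_mul, Finset.sum_sub_distrib] at this
  have h1 : ∑ x, (Pi.single e (1 : ℤ) : E → ℤ) x * ω x = ω e := by
    rw [Finset.sum_eq_single e]
    · simp
    · intro b _ hb'; simp [Pi.single_apply, hb']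
    · intro h; exact absurd (Finset.mem_univ _) h
  rw [h1] at this
  simp only
  linarith

/-- a cycle supported in an edge set without circuits vanishes -/
theorem cycle_eq_zero_of_forest (ends : E → V × V) (T : Finset E)
    (hforest : ∀ C : Finset E, C ⊆ T → ¬ IsCircuit ends C) (γ : E → ℤ)
    (hγT : ∀ e, e ∉ T → γ e = 0) (hcyc : ∀ v, boundary ends γ v = 0) : γ = 0 := by
  classical
  funext t
  by_cases htT : t ∈ T
  · have hbridge := not_reach_of_forest ends T hforest t htT
    set ind : V → ℤ := fun u => if Reach ends (T.erase t) (ends t).1 u then 1 else 0 with hind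
    have hadj := sum_mul_cobd ends γ ind
    simp only [hcyc, zero_mul, Finset.sum_const_zero] at hadj
    rw [Finset.sum_eq_single t] at hadj
    · have h4 : Reach ends (T.erase t) (ends t).1 (ends t).1 := Reach.refl _ _ _
      simp only [hind, h4, hbridge, if_true, if_false] at hadj
      show γ t = 0
      linarith
    · intro s _ hs
      by_cases hsT : s ∈ T
      · have hs' : s ∈ T.erase t := Finset.mem_erase.mpr ⟨hs, hsT⟩
        have hiff : Reach ends (T.erase t) (ends t).1 (ends s).1 ↔
            Reach ends (T.erase t) (ends t).1 (ends s).2 := by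
          constructor
          · intro h; exact h.tail ⟨s, hs', Or.inl rfl⟩
          · intro h; exact h.tail ⟨s, hs', Or.inr rfl⟩
        by_cases h : Reach ends (T.erase t) (ends t).1 (ends s).1
        · simp [hind, h, hiff.mp h]
        · have h2 : ¬ Reach ends (T.erase t) (ends t).1 (ends s).2 := fun h' => h (hiff.mpr h')
          simp [hind, h, h2]
      · rw [hγT s hsT, zero_mul]
    · intro h; exact absurd (Finset.mem_univ _) h
  · exact hγT t htT

/-- fundamental circuit cycles of a spanning tree -/
theorem exists_fundamental (ends : E → V × V) (T : Finset E) (hT : IsSpanningTree ends T)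
    (e : E) (he : e ∉ T) :
    ∃ (C : Finset E) (c : E → ℤ), IsCircuit ends C ∧ C ⊆ insert e T ∧ e ∈ C ∧ c e = 1 ∧
      (∀ e', e' ∉ C → c e' = 0) ∧ ∀ v, boundary ends c v = 0 := by
  rw [isSpanningTree_iff] at hT
  obtain ⟨⟨_, hreach⟩, hforest⟩ := hT
  obtain ⟨C, hC, hcirc⟩ := exists_circuit_insert ends T e he (hreach _ _)
  have heC : e ∈ C := by
    by_contra hne
    refine hforest C ?_ hcirc
    intro x hx
    rcases Finset.mem_insert.mp (hC hx) with rfl | h
    · exact absurd hx hne
    · exact h
  obtain ⟨γ₀, hγ₀, hb⟩ := exists_chain_of_reach (reach_of_even ends C hcirc.2.1 e heC)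
  refine ⟨C, Pi.single e 1 - γ₀, hcirc, hC, heC, ?_, ?_, ?_⟩
  · have : γ₀ e = 0 := hγ₀ e (by simp)
    simp [this]
  · intro e' he'
    have hne : e' ≠ e := fun h => he' (h ▸ heC)
    have : γ₀ e' = 0 := hγ₀ e' (fun h' => he' (Finset.mem_of_mem_erase h'))
    simp [this, Pi.single_apply, hne]
  · intro v
    rw [boundary_sub, boundary_single, hb]
    have e1 : ∀ (x : V) (s : ℤ), (if x = v then s else 0) = if v = x then s else 0 :=
      fun x s => by simp [eq_comm]
    simp only [e1]
    split_ifs <;> ring

/-- every cycle is an integer combination of cycles supported on circuits: if an additive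
functional kills the circuit cycles, it kills all cycles -/
theorem cycle_induction (ends : E → V × V) (T : Finset E) (hT : IsSpanningTree ends T)
    (F : (E → ℤ) →+ ℤ)
    (hF : ∀ (C : Finset E) (c : E → ℤ), IsCircuit ends C → (∀ e', e' ∉ C → c e' = 0) →
      (∀ v, boundary ends c v = 0) → F c = 0)
    (γ : E → ℤ) (hcyc : ∀ v, boundary ends γ v = 0) : F γ = 0 := by
  classical
  have hforest := ((isSpanningTree_iff ends T).1 hT).2
  choose C c hcirc hCsub heC hce hcsupp hccyc using
    fun e : {e : E // e ∉ T} => exists_fundamental ends T hT e.1 e.2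
  set γ' : E → ℤ := γ - ∑ e : {e : E // e ∉ T}, γ e.1 • c e with hγ'
  have h0 : γ' = 0 := by
    apply cycle_eq_zero_of_forest ends T hforest
    · intro e' he'
      simp only [hγ', Pi.sub_apply, Finset.sum_apply, Pi.smul_apply, smul_eq_mul]
      rw [Finset.sum_eq_single ⟨e', he'⟩]
      · rw [hce]; ring
      · intro b _ hb
        have : e' ∉ C b := by
          intro hmem
          rcases Finset.mem_insert.mp (hCsub b hmem) with h | h
          · exact hb (Subtype.ext h.symm)
          · exact he' h
        rw [hcsupp b e' this, mul_zero]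
      · intro h; exact absurd (Finset.mem_univ _) h
    · intro v
      rw [hγ', boundary_sub, boundary_sum, hcyc]
      simp only [boundary_smul, hccyc, mul_zero, Finset.sum_const_zero, sub_zero]
  have : γ = ∑ e : {e : E // e ∉ T}, γ e.1 • c e := by
    have := h0
    rw [hγ', sub_eq_zero] at this
    exact this
  rw [this, map_sum]
  apply Finset.sum_eq_zero
  intro e _
  rw [map_zsmul, hF (C e) (c e) (hcirc e) (hcsupp e) (hccyc e), smul_zero]

end Groth.Agent.H22.Cycle
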