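import Mathlib
import Groth.Prelude.Def_W4c2conddiscmodels
import Groth.Agent.Lib.helper22.LabGraphMT
import Groth.Agent.Lib.helper22.LabGraphCtr

/-!
# The weighted Laplacian of a multigraph with multiplicity function (helper22)

`inc * diag(β_t β_h) * incᵀ = - B α_r B`, degree products, `endCount = nbrCount` on trees.
-/

set_option autoImplicit false
universe u

namespace Groth.Agent.H22.Lap

open LabGraph Matrix Groth.Agent.H22.MT Groth.Agent.H22.LabGraphCtr Groth.Agent.H22.Circ
  Groth.Agent.H22.Tree

variable {V E : Type u} [Fintype V] [Fintype E] [DecidableEq V] [DecidableEq E]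
variable (ends : E → V × V) (β : V → ℤ)

/-- edge weights -/
def cw (e : E) : ℤ := β (ends e).1 * β (ends e).2

/-- signed incidence -/
def dd (e : E) (v : V) : ℤ := (if (ends e).2 = v then 1 else 0) - (if (ends e).1 = v then 1 else 0)

omit [Fintype E] [DecidableEq E] in
theorem sum_dd (e : E) : ∑ w, dd ends e w = 0 := by
  unfold dd
  rw [Finset.sum_sub_distrib]
  simp

theorem lap_off {v w : V} (h : v ≠ w) :
    ∑ e, dd ends e v * cw ends β e * dd ends e w = - (β v * β w * (edgeMult ends v w : ℤ)) := by
  rw [edgeMult_eq_sum, Finset.mul_sum, ← Finset.sum_neg_distrib]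
  refine Finset.sum_congr rfl fun e _ => ?_
  unfold dd cw
  rcases hte : ends e with ⟨t, h'⟩
  simp only [Prod.mk.injEq]
  by_cases h1 : t = v
  · subst h1
    by_cases h4 : h' = w
    · subst h4
      have h2 : ¬ h' = t := fun hh => h hh.symm
      simp [h, h2]
    · have h3 : ¬ t = w := h
      by_cases h2 : h' = t
      · subst h2; simp [h3]
      · simp [h2, h3, h4]
  · by_cases h2 : h' = v
    · subst h2
      by_cases h3 : t = w
      · subst h3
        have : ¬ h' = t := fun hh => h1 hh.symm
        simp [h1, this]
        ring
      · have h4 : ¬ h' = w := h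
        simp [h1, h3, h4]
    · simp [h1, h2]

theorem lap_diag (v : V) :
    ∑ e, dd ends e v * cw ends β e * dd ends e v =
      ∑ w ∈ Finset.univ.erase v, β v * β w * (edgeMult ends v w : ℤ) := by
  have h0 : ∑ w, ∑ e, dd ends e v * cw ends β e * dd ends e w = 0 := by
    rw [Finset.sum_comm]
    apply Finset.sum_eq_zero
    intro e _
    rw [← Finset.mul_sum, sum_dd, mul_zero]
  rw [← Finset.add_sum_erase _ _ (Finset.mem_univ v)] at h0
  have h1 : ∑ w ∈ Finset.univ.erase v, ∑ e, dd ends e v * cw ends β e * dd ends e w =
      - ∑ w ∈ Finset.univ.erase v, β v * β w * (edgeMult ends v w : ℤ) := by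
    rw [← Finset.sum_neg_distrib]
    refine Finset.sum_congr rfl fun w hw => ?_
    exact lap_off ends β (Finset.ne_of_mem_erase hw).symm
  rw [h1] at h0
  linarith

variable {ends β}

theorem mfMatrix_diag_mul (hβ : IsMultFn ends β) (v : V) :
    mfMatrix ends β v v * β v = - ∑ w ∈ Finset.univ.erase v, β w * (edgeMult ends v w : ℤ) := by
  have h := mfMatrix_row hβ v
  rw [← Finset.add_sum_erase _ _ (Finset.mem_univ v)] at h
  have h1 : ∑ w ∈ Finset.univ.erase v, mfMatrix ends β v w * β w =
      ∑ w ∈ Finset.univ.erase v, β w * (edgeMult ends v w : ℤ) := by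
    refine Finset.sum_congr rfl fun w hw => ?_
    rw [mfMatrix_off ends β (Finset.ne_of_mem_erase hw).symm, mul_comm]
  rw [h1] at h
  linarith

/-- the weighted Laplacian is `- B α B` entrywise -/
theorem lap_entry (hβ : IsMultFn ends β) (v w : V) :
    ∑ e, dd ends e v * cw ends β e * dd ends e w = - (β v * mfMatrix ends β v w * β w) := by
  by_cases h : v = w
  · subst h
    rw [lap_diag]
    have := mfMatrix_diag_mul hβ v
    have h2 : β v * mfMatrix ends β v v * β v = β v * (mfMatrix ends β v v * β v) := by ring
    rw [h2, this, mul_neg, neg_neg, Finset.mul_sum]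
    refine Finset.sum_congr rfl fun w _ => ?_
    ring
  · rw [lap_off ends β h, mfMatrix_off ends β h]
    ring

theorem lap_matrix (hβ : IsMultFn ends β) (r : V) :
    inc ends r * diagonal (cw ends β) * (inc ends r)ᵀ =
      - (diagonal (fun v : {v : V // v ≠ r} => β v.1) *
          (mfMatrix ends β).submatrix Subtype.val Subtype.val *
          diagonal (fun v : {v : V // v ≠ r} => β v.1)) := by
  ext v w
  rw [Matrix.mul_apply]
  simp only [Matrix.mul_diagonal, Matrix.transpose_apply, Matrix.neg_apply, Matrix.diagonal_mul,
    Matrix.submatrix_apply]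
  exact lap_entry hβ v.1 w.1

theorem det_lap (hβ : IsMultFn ends β) (r : V) :
    (inc ends r * diagonal (cw ends β) * (inc ends r)ᵀ).det =
      (-1) ^ (Fintype.card {v : V // v ≠ r}) * (∏ v : {v : V // v ≠ r}, β v.1) ^ 2 *
        ((mfMatrix ends β).submatrix (Subtype.val : {v : V // v ≠ r} → V) Subtype.val).det := by
  rw [lap_matrix hβ r, Matrix.det_neg, Matrix.det_mul, Matrix.det_mul, Matrix.det_diagonal]
  ring

variable (ends β)

/-- product of edge weights over `T` as a product of vertex powers -/
theorem prod_cw (T : Finset E) :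
    ∏ e ∈ T, cw ends β e = ∏ v, β v ^ endCount ends T v := by
  unfold cw endCount
  have h1 : ∀ e : E, β (ends e).1 * β (ends e).2 =
      ∏ v, β v ^ ((if (ends e).1 = v then 1 else 0) + (if (ends e).2 = v then 1 else 0)) := by
    intro e
    simp_rw [pow_add, Finset.prod_mul_distrib, Finset.prod_pow_boole]
    simp
  simp_rw [h1]
  rw [Finset.prod_comm]
  refine Finset.prod_congr rfl fun v _ => ?_
  rw [Finset.prod_pow_eq_pow_sum]

/-- a loop is a circuit -/
theorem isCircuit_loop (e : E) (he : (ends e).1 = (ends e).2) : IsCircuit ends {e} := by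
  refine ⟨Finset.singleton_nonempty e, ?_, ?_⟩
  · intro v
    unfold endCount
    rw [Finset.sum_singleton, he]
    split_ifs
    · exact ⟨1, rfl⟩
    · exact ⟨0, rfl⟩
  · intro C' hC' hne
    rw [Finset.ssubset_singleton_iff] at hC'
    rw [hC'] at hne
    exact absurd hne Finset.not_nonempty_empty

/-- two parallel edges form a circuit -/
theorem isCircuit_parallel (e e' : E) (hne : e ≠ e') (hloop : (ends e).1 ≠ (ends e).2)
    (hpar : ends e' = ends e ∨ ends e' = ((ends e).2, (ends e).1)) : IsCircuit ends {e, e'} := by
  have hsingle : ∀ x : E, (ends x).1 ≠ (ends x).2 → ¬ Even (endCount ends {x} (ends x).1) := by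
    intro x hx
    unfold endCount
    rw [Finset.sum_singleton, if_pos rfl, if_neg (Ne.symm hx)]
    decide
  have hloop' : (ends e').1 ≠ (ends e').2 := by
    rcases hpar with h | h <;> rw [h]
    · exact hloop
    · exact Ne.symm hloop
  refine ⟨⟨e, by simp⟩, ?_, ?_⟩
  · intro v
    unfold endCount
    rw [Finset.sum_pair hne]
    rcases hpar with h | h <;> rw [h]
    · exact ⟨_, rfl⟩
    · simp only
      exact ⟨(if (ends e).1 = v then 1 else 0) + (if (ends e).2 = v then 1 else 0), by ring⟩
  · intro C' hC' hne'
    have hsub := hC'.subset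
    by_cases h1 : e ∈ C'
    · have h2 : e' ∉ C' := by
        intro h2
        apply hC'.ne
        apply Finset.Subset.antisymm hsub
        intro x hx
        rcases Finset.mem_insert.mp hx with rfl | hx
        · exact h1
        · rw [Finset.mem_singleton] at hx; rw [hx]; exact h2
      have : C' = {e} := by
        ext x
        constructor
        · intro hx
          rcases Finset.mem_insert.mp (hsub hx) with rfl | hx'
          · simp
          · rw [Finset.mem_singleton] at hx'; rw [hx'] at hx; exact absurd hx h2
        · intro hx; rw [Finset.mem_singleton] at hx; rw [hx]; exact h1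
      rw [this]
      exact ⟨_, hsingle e hloop⟩
    · have : C' = {e'} := by
        ext x
        constructor
        · intro hx
          rcases Finset.mem_insert.mp (hsub hx) with rfl | hx'
          · exact absurd hx h1
          · exact hx'
        · intro hx
          rw [Finset.mem_singleton] at hx
          obtain ⟨y, hy⟩ := hne'
          rcases Finset.mem_insert.mp (hsub hy) with rfl | hy'
          · exact absurd hy h1
          · rw [Finset.mem_singleton] at hy'; rw [hx, ← hy']; exact hy
      rw [this]
      exact ⟨_, hsingle e' hloop'⟩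

/-- in a spanning tree the number of edge-ends at a vertex is the number of neighbours -/
theorem endCount_eq_nbrCount (T : Finset E) (hT : IsSpanningTree ends T) (v : V) :
    endCount ends T v = nbrCount ends T v := by
  classical
  rw [isSpanningTree_iff] at hT
  obtain ⟨-, hforest⟩ := hT
  have hnoloop : ∀ e ∈ T, (ends e).1 ≠ (ends e).2 := by
    intro e he hl
    exact hforest {e} (by simpa using he) (isCircuit_loop ends e hl)
  have hnopar : ∀ e ∈ T, ∀ e' ∈ T, e ≠ e' →
      ¬ (ends e' = ends e ∨ ends e' = ((ends e).2, (ends e).1)) := by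
    intro e he e' he' hne hpar
    refine hforest {e, e'} ?_ (isCircuit_parallel ends e e' hne (hnoloop e he) hpar)
    intro x hx
    rcases Finset.mem_insert.mp hx with rfl | hx
    · exact he
    · rw [Finset.mem_singleton] at hx; rw [hx]; exact he'
  -- endCount = number of edges of T at v
  have h1 : endCount ends T v = (T.filter fun e => (ends e).1 = v ∨ (ends e).2 = v).card := by
    unfold endCount
    rw [Finset.card_filter]
    refine Finset.sum_congr rfl fun e he => ?_
    have := hnoloop e he
    by_cases h1 : (ends e).1 = v <;> by_cases h2 : (ends e).2 = v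
    · exact absurd (h1.trans h2.symm) this
    · simp [h1, h2]
    · simp [h1, h2]
    · simp [h1, h2]
  rw [h1]
  unfold nbrCount
  -- other endpoint map
  refine Finset.card_bij (fun e _ => if (ends e).1 = v then (ends e).2 else (ends e).1) ?_ ?_ ?_
  · intro e he
    simp only [Finset.mem_filter, Finset.mem_univ, true_and] at he ⊢
    obtain ⟨heT, hev⟩ := he
    have hl := hnoloop e heT
    by_cases h1 : (ends e).1 = v
    · rw [if_pos h1]
      refine ⟨fun h => hl (h1.trans h.symm), e, heT, Or.inl ?_⟩
      rw [← h1]
    · rw [if_neg h1]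
      have h2 : (ends e).2 = v := hev.resolve_left h1
      refine ⟨h1, e, heT, Or.inr ?_⟩
      rw [← h2]
  · intro e he e' he' heq
    simp only [Finset.mem_filter] at he he'
    by_contra hne
    apply hnopar e he.1 e' he'.1 hne
    have hl := hnoloop e he.1
    have hl' := hnoloop e' he'.1
    by_cases h1 : (ends e).1 = v <;> by_cases h1' : (ends e').1 = v
    · simp only [h1, h1', if_true] at heq
      left; exact Prod.ext (h1'.trans h1.symm) heq.symm
    · simp only [h1, h1', if_true, if_false] at heq
      have h2' : (ends e').2 = v := he'.2.resolve_left h1'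
      right; exact Prod.ext heq.symm (h2'.trans h1.symm)
    · simp only [h1, h1', if_true, if_false] at heq
      have h2 : (ends e).2 = v := he.2.resolve_left h1
      right; exact Prod.ext (h1'.trans h2.symm) heq.symm
    · simp only [h1, h1', if_false] at heq
      have h2 : (ends e).2 = v := he.2.resolve_left h1
      have h2' : (ends e').2 = v := he'.2.resolve_left h1'
      left; exact Prod.ext heq.symm (h2'.trans h2.symm)
  · intro w hw
    simp only [Finset.mem_filter, Finset.mem_univ, true_and] at hw
    obtain ⟨hwv, e, heT, he⟩ := hw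
    refine ⟨e, ?_, ?_⟩
    · simp only [Finset.mem_filter]
      refine ⟨heT, ?_⟩
      rcases he with he | he <;> rw [he] <;> simp
    · rcases he with he | he
      · rw [he]; simp
      · rw [he]; simp [hwv]

end Groth.Agent.H22.Lap
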