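import Mathlib

/-!
# An index computation for symmetric integer matrices with a one-dimensional kernel (helper22)

Let `β : V → ℤ` be positive, `α` a symmetric integer matrix with `α β = 0` whose principal
minor `α_r` (row and column `r` deleted) is nonzero.  Then
`|ker β / im α| * (β r / gcd β)^2 = |det α_r|`.
-/

set_option autoImplicit false
universe u

namespace Groth.Agent.H22.LatIdx

open Matrix

section Modular

variable {G : Type*} [AddCommGroup G]

theorem relIndex_sup_sup (A B Z : AddSubgroup G) (hAB : A ≤ B) (hBZ : B ⊓ Z = ⊥) :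
    (A ⊔ Z).relIndex (B ⊔ Z) = A.relIndex B := by
  have h1 : B ⊔ (A ⊔ Z) = B ⊔ Z := by
    rw [← sup_assoc, sup_eq_left.mpr hAB]
  have h2 := AddSubgroup.relIndex_sup_right (H := B) (K := A ⊔ Z)
  rw [h1] at h2
  rw [h2, ← AddSubgroup.inf_relIndex_right]
  congr 1
  rw [sup_inf_assoc_of_le Z hAB, inf_comm Z B, hBZ, sup_bot_eq]

end Modular

variable {V : Type u} [Fintype V] [DecidableEq V]

/-- the linear form `x ↦ ∑ x v * β v` as an additive hom -/
def bhom (β : V → ℤ) : (V → ℤ) →+ ℤ where
  toFun x := ∑ v, x v * β v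
  map_zero' := by simp
  map_add' x y := by simp [add_mul, Finset.sum_add_distrib]

/-- `mulVec` as an additive hom -/
def ahom (α : Matrix V V ℤ) : (V → ℤ) →+ (V → ℤ) := (α.mulVecLin).toAddMonoidHom

/-- restriction to the complement of `r` -/
def pihom (r : V) : (V → ℤ) →+ ({v : V // v ≠ r} → ℤ) where
  toFun x v := x v.1
  map_zero' := rfl
  map_add' _ _ := rfl

/-- evaluation at `r` -/
def evr (r : V) : (V → ℤ) →+ ℤ := Pi.evalAddMonoidHom _ r

theorem pihom_surjective (r : V) : Function.Surjective (pihom r) := by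
  intro y
  refine ⟨fun v => if h : v ≠ r then y ⟨v, h⟩ else 0, ?_⟩
  funext v
  simp [pihom, v.2]

theorem mem_ker_pihom (r : V) (x : V → ℤ) : x ∈ (pihom r).ker ↔ ∀ v, v ≠ r → x v = 0 := by
  rw [AddMonoidHom.mem_ker]
  constructor
  · intro h v hv
    exact congrFun h ⟨v, hv⟩
  · intro h
    funext v
    exact h v.1 v.2

theorem eq_single_of_mem_ker_pihom (r : V) (x : V → ℤ) (hx : x ∈ (pihom r).ker) :
    x = Pi.single r (x r) := by
  rw [mem_ker_pihom] at hx
  funext v
  by_cases hv : v = r
  · subst hv; simp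
  · rw [hx v hv, Pi.single_eq_of_ne hv]

variable (β : V → ℤ) (α : Matrix V V ℤ) (r : V)

theorem bhom_single (t : ℤ) : bhom β (Pi.single r t) = t * β r := by
  unfold bhom
  simp only [AddMonoidHom.coe_mk, ZeroHom.coe_mk]
  rw [Finset.sum_eq_single r]
  · simp
  · intro v _ hv; simp [Pi.single_eq_of_ne hv]
  · intro h; exact absurd (Finset.mem_univ _) h

/-- `β ∘ α = 0` -/
theorem range_le_ker (hsymm : αᵀ = α) (hαβ : α *ᵥ β = 0) : (ahom α).range ≤ (bhom β).ker := by
  rintro _ ⟨x, rfl⟩
  rw [AddMonoidHom.mem_ker]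
  show ∑ v, (α *ᵥ x) v * β v = 0
  simp only [mulVec, dotProduct, Finset.sum_mul]
  rw [Finset.sum_comm]
  apply Finset.sum_eq_zero
  intro w _
  have h1 : ∀ v, α v w * x w * β v = x w * (α w v * β v) := by
    intro v
    have : α v w = α w v := by
      have := congrFun (congrFun hsymm w) v
      simpa [Matrix.transpose_apply] using this
    rw [this]; ring
  simp_rw [h1]
  rw [← Finset.mul_sum]
  have := congrFun hαβ w
  simp only [mulVec, dotProduct, Pi.zero_apply] at this
  rw [this, mul_zero]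

theorem ker_inf_ker_pihom (hβ : ∀ v, 0 < β v) : (bhom β).ker ⊓ (pihom r).ker = ⊥ := by
  rw [eq_bot_iff]
  rintro x ⟨h1, h2⟩
  have hx := eq_single_of_mem_ker_pihom r x h2
  have h1' : bhom β x = 0 := h1
  rw [hx, bhom_single] at h1'
  have : x r = 0 := by
    rcases mul_eq_zero.mp h1' with h | h
    · exact h
    · exact absurd h (hβ r).ne'
  rw [AddSubgroup.mem_bot, hx, this]
  simp

/-- `range β = gℤ` -/
theorem range_bhom : (bhom β).range = AddSubgroup.zmultiples (Finset.univ.gcd β) := by
  apply le_antisymm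
  · rintro _ ⟨x, rfl⟩
    rw [Int.mem_zmultiples_iff]
    show Finset.univ.gcd β ∣ ∑ v, x v * β v
    apply Finset.dvd_sum
    intro v _
    exact Dvd.dvd.mul_left (Finset.gcd_dvd (Finset.mem_univ v)) _
  · apply AddSubgroup.zmultiples_le_of_mem
    obtain ⟨c, hc⟩ := Finset.gcd_eq_sum_mul Finset.univ β
    refine ⟨c, ?_⟩
    show ∑ v, c v * β v = _
    rw [hc]
    refine Finset.sum_congr rfl fun v _ => ?_
    ring

theorem sup_eq_comap (hβ : ∀ v, 0 < β v) :
    (bhom β).ker ⊔ (pihom r).ker = (AddSubgroup.zmultiples (β r)).comap (bhom β) := by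
  apply le_antisymm
  · rw [sup_le_iff]
    constructor
    · intro x hx
      rw [AddSubgroup.mem_comap, (AddMonoidHom.mem_ker).mp hx]
      exact zero_mem _
    · intro x hx
      rw [AddSubgroup.mem_comap, eq_single_of_mem_ker_pihom r x hx, bhom_single,
        Int.mem_zmultiples_iff]
      exact Dvd.intro_left _ rfl
  · intro x hx
    rw [AddSubgroup.mem_comap, Int.mem_zmultiples_iff] at hx
    obtain ⟨t, ht⟩ := hx
    have hx' : x = (x - Pi.single r t) + Pi.single r t := by abel
    rw [hx']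
    refine AddSubgroup.add_mem _ (AddSubgroup.mem_sup_left ?_) (AddSubgroup.mem_sup_right ?_)
    · rw [AddMonoidHom.mem_ker, map_sub, bhom_single, ht]; ring
    · rw [mem_ker_pihom]
      intro v hv
      exact Pi.single_eq_of_ne hv _

/-- the top index -/
theorem index_map_ker (hβ : ∀ v, 0 < β v) :
    ((bhom β).ker.map (pihom r)).index * (Finset.univ.gcd β).natAbs = (β r).natAbs := by
  rw [AddSubgroup.index_map, AddMonoidHom.range_eq_top.mpr (pihom_surjective r),
    AddSubgroup.index_top, mul_one, sup_eq_comap β r hβ, AddSubgroup.index_comap, range_bhom]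
  have hle : AddSubgroup.zmultiples (β r) ≤ AddSubgroup.zmultiples (Finset.univ.gcd β) := by
    apply AddSubgroup.zmultiples_le_of_mem
    rw [Int.mem_zmultiples_iff]
    exact Finset.gcd_dvd (Finset.mem_univ r)
  have := AddSubgroup.relIndex_mul_index hle
  rw [Int.index_zmultiples, Int.index_zmultiples] at this
  exact this

/-- the reduced matrix -/
def redMat : Matrix {v : V // v ≠ r} {v : V // v ≠ r} ℤ := α.submatrix Subtype.val Subtype.val

theorem pihom_ahom_of_evr (x : V → ℤ) (hx : x r = 0) :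
    pihom r (ahom α x) = (redMat α r) *ᵥ (pihom r x) := by
  funext v
  show (α *ᵥ x) v.1 = _
  simp only [mulVec, dotProduct, redMat, submatrix_apply, pihom, AddMonoidHom.coe_mk,
    ZeroHom.coe_mk]
  rw [← Finset.sum_subtype (Finset.univ.erase r) (by simp) (fun w => α v.1 w * x w)]
  rw [Finset.sum_erase]
  rw [hx, mul_zero]

theorem map_map_evr_ker :
    (((evr r).ker.map (ahom α)).map (pihom r)) =
      ((redMat α r).mulVecLin).toAddMonoidHom.range := by
  ext y
  constructor
  · rintro ⟨_, ⟨x, hx, rfl⟩, rfl⟩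
    refine ⟨pihom r x, ?_⟩
    rw [pihom_ahom_of_evr α r x hx]
    rfl
  · rintro ⟨z, rfl⟩
    obtain ⟨x, hx⟩ : ∃ x : V → ℤ, x r = 0 ∧ pihom r x = z := by
      refine ⟨fun v => if h : v ≠ r then z ⟨v, h⟩ else 0, by simp, ?_⟩
      funext v
      simp [pihom, v.2]
    refine ⟨ahom α x, ⟨x, hx.1, rfl⟩, ?_⟩
    rw [pihom_ahom_of_evr α r x hx.1, hx.2]
    rfl

theorem index_range_redMat (hdet : (redMat α r).det ≠ 0) :
    ((redMat α r).mulVecLin).toAddMonoidHom.range.index = (redMat α r).det.natAbs := by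
  have hinj : Function.Injective (redMat α r).mulVecLin := by
    rw [← LinearMap.ker_eq_bot, LinearMap.ker_eq_bot']
    intro x hx
    exact Matrix.eq_zero_of_mulVec_eq_zero hdet hx
  let e := LinearEquiv.ofInjective (redMat α r).mulVecLin hinj
  have h1 := Submodule.natAbs_det_equiv (LinearMap.range (redMat α r).mulVecLin) e.toAddEquiv
  have h2 : (LinearMap.range (redMat α r).mulVecLin).subtype ∘ₗ
      AddMonoidHom.toIntLinearMap ((e.toAddEquiv : _ ≃+ _) : _ →+ _) = (redMat α r).mulVecLin :=
    LinearMap.ext fun x => rfl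
  rw [h2, ← Matrix.toLin'_apply', LinearMap.det_toLin'] at h1
  rw [AddSubgroup.index_eq_card, h1]
  rfl

/-- the primitive vector `β / gcd β` -/
def uvec : V → ℤ := fun v => β v / Finset.univ.gcd β

theorem gcd_pos (r : V) (hβ : ∀ v, 0 < β v) : 0 < Finset.univ.gcd β := by
  have h1 : 0 ≤ Finset.univ.gcd β := Finset.Int.finsetGcd_nonneg
  have h2 : Finset.univ.gcd β ≠ 0 := by
    rw [Ne, Finset.gcd_eq_zero_iff]
    intro h
    exact (hβ r).ne' (h r (Finset.mem_univ r))
  omega

theorem gcd_mul_uvec (v : V) : Finset.univ.gcd β * uvec β v = β v :=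
  Int.mul_ediv_cancel' (Finset.gcd_dvd (Finset.mem_univ v))

theorem gcd_smul_uvec : Finset.univ.gcd β • uvec β = β := by
  funext v
  simp only [Pi.smul_apply, smul_eq_mul]
  exact gcd_mul_uvec β v

theorem bezout_uvec (r : V) (hβ : ∀ v, 0 < β v) : ∃ c : V → ℤ, ∑ v, c v * uvec β v = 1 := by
  obtain ⟨c, hc⟩ := Finset.gcd_eq_sum_mul Finset.univ β
  refine ⟨c, ?_⟩
  have hg := (gcd_pos β r hβ).ne'
  apply mul_left_cancel₀ hg
  rw [Finset.mul_sum, mul_one]
  conv_rhs => rw [hc]
  refine Finset.sum_congr rfl fun v _ => ?_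
  rw [← gcd_mul_uvec β v]
  ring

theorem mulVec_uvec (r : V) (hβ : ∀ v, 0 < β v) (hαβ : α *ᵥ β = 0) : α *ᵥ uvec β = 0 := by
  have h1 : Finset.univ.gcd β • (α *ᵥ uvec β) = 0 := by
    rw [← Matrix.mulVec_smul, gcd_smul_uvec, hαβ]
  rcases smul_eq_zero.mp h1 with h | h
  · exact absurd h (gcd_pos β r hβ).ne'
  · exact h

theorem ker_ahom (hβ : ∀ v, 0 < β v) (hαβ : α *ᵥ β = 0) (hdet : (redMat α r).det ≠ 0) :
    (ahom α).ker = AddSubgroup.zmultiples (uvec β) := by
  apply le_antisymm
  · intro x hx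
    have hx' : α *ᵥ x = 0 := hx
    set y : V → ℤ := uvec β r • x - x r • uvec β with hy
    have hyr : y r = 0 := by simp [hy]; ring
    have hαy : α *ᵥ y = 0 := by
      rw [hy, Matrix.mulVec_sub, Matrix.mulVec_smul, Matrix.mulVec_smul, hx',
        mulVec_uvec β α r hβ hαβ]
      simp
    have h1 : (redMat α r) *ᵥ (pihom r y) = 0 := by
      rw [← pihom_ahom_of_evr α r y hyr]
      show pihom r (α *ᵥ y) = 0
      rw [hαy, map_zero]
    have h2 : pihom r y = 0 := Matrix.eq_zero_of_mulVec_eq_zero hdet h1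
    have hy0 : y = 0 := by
      funext v
      by_cases hv : v = r
      · rw [hv, hyr]; rfl
      · exact congrFun h2 ⟨v, hv⟩
    have hrel : ∀ v, uvec β r * x v = x r * uvec β v := by
      intro v
      have := congrFun hy0 v
      simp only [hy, Pi.sub_apply, Pi.smul_apply, smul_eq_mul, Pi.zero_apply] at this
      linarith
    obtain ⟨c, hc⟩ := bezout_uvec β r hβ
    set t : ℤ := ∑ v, c v * x v with ht
    have hxr : x r = uvec β r * t := by
      calc x r = x r * ∑ v, c v * uvec β v := by rw [hc, mul_one]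
        _ = ∑ v, c v * (x r * uvec β v) := by
            rw [Finset.mul_sum]; refine Finset.sum_congr rfl fun v _ => ?_; ring
        _ = ∑ v, c v * (uvec β r * x v) := by simp_rw [hrel]
        _ = uvec β r * t := by
            rw [ht, Finset.mul_sum]; refine Finset.sum_congr rfl fun v _ => ?_; ring
    have hur : uvec β r ≠ 0 := by
      intro h
      have := gcd_mul_uvec β r
      rw [h, mul_zero] at this
      exact (hβ r).ne' this.symm
    rw [AddSubgroup.mem_zmultiples_iff]
    refine ⟨t, ?_⟩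
    funext v
    simp only [Pi.smul_apply, smul_eq_mul]
    apply mul_left_cancel₀ hur
    rw [hrel v, hxr]; ring
  · apply AddSubgroup.zmultiples_le_of_mem
    exact mulVec_uvec β α r hβ hαβ

theorem evr_ker_sup : (evr r).ker ⊔ AddSubgroup.zmultiples (uvec β) =
    (AddSubgroup.zmultiples (uvec β r)).comap (evr r) := by
  apply le_antisymm
  · rw [sup_le_iff]
    constructor
    · intro x hx
      rw [AddSubgroup.mem_comap, (AddMonoidHom.mem_ker).mp hx]
      exact zero_mem _
    · apply AddSubgroup.zmultiples_le_of_mem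
      rw [AddSubgroup.mem_comap]
      exact AddSubgroup.mem_zmultiples _
  · intro x hx
    rw [AddSubgroup.mem_comap, Int.mem_zmultiples_iff] at hx
    obtain ⟨t, ht⟩ := hx
    have hx' : x = (x - t • uvec β) + t • uvec β := by abel
    rw [hx']
    refine AddSubgroup.add_mem _ (AddSubgroup.mem_sup_left ?_) (AddSubgroup.mem_sup_right ?_)
    · rw [AddMonoidHom.mem_ker]
      show (x - t • uvec β) r = 0
      have : x r = uvec β r * t := by simpa [evr] using ht
      simp only [Pi.sub_apply, Pi.smul_apply, smul_eq_mul, this]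
      ring
    · exact AddSubgroup.zsmul_mem _ (AddSubgroup.mem_zmultiples _) _

theorem index_evr_ker_sup : ((evr r).ker ⊔ AddSubgroup.zmultiples (uvec β)).index =
    (uvec β r).natAbs := by
  rw [evr_ker_sup, AddSubgroup.index_comap]
  have : (evr r).range = ⊤ := by
    rw [AddMonoidHom.range_eq_top]
    intro t
    exact ⟨Pi.single r t, by simp [evr]⟩
  rw [this, AddSubgroup.relIndex_top_right, Int.index_zmultiples]

/-- **Main index formula.** -/
theorem main_index (hβ : ∀ v, 0 < β v) (hsymm : αᵀ = α) (hαβ : α *ᵥ β = 0)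
    (hdet : (redMat α r).det ≠ 0) :
    (redMat α r).det.natAbs * (Finset.univ.gcd β).natAbs ^ 2 =
      (ahom α).range.relIndex (bhom β).ker * (β r).natAbs ^ 2 := by
  set K := (bhom β).ker with hK
  set I := (ahom α).range with hI
  set Z := (pihom r).ker with hZ
  set I'' := (evr r).ker.map (ahom α) with hI''
  have hIK : I ≤ K := range_le_ker β α hsymm hαβ
  have hKZ : K ⊓ Z = ⊥ := ker_inf_ker_pihom β r hβ
  have hI''I : I'' ≤ I := by
    rintro _ ⟨x, _, rfl⟩
    exact ⟨x, rfl⟩
  have hIZ : I ⊓ Z = ⊥ := by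
    rw [eq_bot_iff, ← hKZ]
    exact inf_le_inf_right _ hIK
  -- chain
  have c1 := AddSubgroup.relIndex_mul_index (AddSubgroup.map_mono (f := pihom r) hI''I)
  have c2 := AddSubgroup.relIndex_mul_index (AddSubgroup.map_mono (f := pihom r) hIK)
  -- middle
  have m1 : (I.map (pihom r)).relIndex (K.map (pihom r)) = I.relIndex K := by
    rw [AddSubgroup.relIndex_map_map, relIndex_sup_sup I K Z hIK hKZ]
  -- bottom
  have b1 : (I''.map (pihom r)).relIndex (I.map (pihom r)) = (uvec β r).natAbs := by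
    rw [AddSubgroup.relIndex_map_map, relIndex_sup_sup I'' I Z hI''I hIZ]
    rw [hI'', hI, AddMonoidHom.range_eq_map, AddSubgroup.relIndex_map_map,
      ker_ahom β α r hβ hαβ hdet, top_sup_eq, AddSubgroup.relIndex_top_right,
      index_evr_ker_sup]
  -- total
  have t1 : (I''.map (pihom r)).index = (redMat α r).det.natAbs := by
    rw [hI'', map_map_evr_ker, index_range_redMat α r hdet]
  have top := index_map_ker β r hβ
  have hu : (uvec β r).natAbs * (Finset.univ.gcd β).natAbs = (β r).natAbs := by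
    rw [← Int.natAbs_mul, mul_comm, gcd_mul_uvec]
  rw [← t1, ← c1, b1, ← c2, m1]
  calc (uvec β r).natAbs * (I.relIndex K * (K.map (pihom r)).index) *
        (Finset.univ.gcd β).natAbs ^ 2
      = I.relIndex K * (((uvec β r).natAbs * (Finset.univ.gcd β).natAbs) *
          ((K.map (pihom r)).index * (Finset.univ.gcd β).natAbs)) := by ring
    _ = I.relIndex K * (β r).natAbs ^ 2 := by rw [hu, top]; ring

end Groth.Agent.H22.LatIdx
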