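import Mathlib
open CategoryTheory CategoryTheory.Limits AlgebraicGeometry

namespace Groth.Agent.H22.LocalLift
universe u

/-- a morphism from the spectrum of a local ring whose closed point lands in an affine open `U`
factors through `U`. -/
theorem exists_factor {X : Scheme.{u}} {B : Type u} [CommRing B] [IsLocalRing B]
    (α : Spec (CommRingCat.of B) ⟶ X) {U : X.Opens} (hU : IsAffineOpen U)
    (hx : α (IsLocalRing.closedPoint B) ∈ U) :
    ∃ a₀ : Γ(X, U) ⟶ CommRingCat.of B, α = Spec.map a₀ ≫ hU.fromSpec := by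
  have htop : α ⁻¹ᵁ U = ⊤ := (IsLocalRing.closed_point_mem_iff (R := B)).mp hx
  have hrange : Set.range α ⊆ Set.range hU.fromSpec := by
    rw [hU.range_fromSpec]
    rintro _ ⟨z, rfl⟩
    have : z ∈ α ⁻¹ᵁ U := by rw [htop]; trivial
    exact this
  obtain ⟨a₀, ha₀⟩ := Spec.map_surjective (IsOpenImmersion.lift hU.fromSpec α hrange)
  refine ⟨a₀, ?_⟩
  rw [ha₀, IsOpenImmersion.lift_fac]

theorem lift_of_mem_smoothLocus {X Y : Scheme.{u}} (f : X ⟶ Y) [LocallyOfFinitePresentation f]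
    (x : X) (hx : x ∈ f.smoothLocus)
    (B B' : Type u) [CommRing B] [CommRing B'] [IsLocalRing B] [IsLocalRing B'] (φ : B' →+* B)
    (hφ : Function.Surjective φ) (hker : RingHom.ker φ ^ 2 = ⊥)
    (α : Spec (CommRingCat.of B) ⟶ X) (β : Spec (CommRingCat.of B') ⟶ Y)
    (hα : α.base (IsLocalRing.closedPoint B) = x)
    (hsq : Spec.map (CommRingCat.ofHom φ) ≫ β = α ≫ f) :
    ∃ γ : Spec (CommRingCat.of B') ⟶ X, Spec.map (CommRingCat.ofHom φ) ≫ γ = α ∧ γ ≫ f = β := by
  obtain ⟨V, hV, U, hU, hUV, hxU, hsm⟩ :=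
    exists_smooth_of_formallySmooth_stalk f x (Scheme.Hom.mem_smoothLocus.mp hx)
  haveI : IsLocalHom φ := IsLocalHom.of_surjective φ hφ
  have hcp : (Spec.map (CommRingCat.ofHom φ)) (IsLocalRing.closedPoint B) =
      IsLocalRing.closedPoint B' := IsLocalRing.comap_closedPoint φ
  have hβ : β (IsLocalRing.closedPoint B') = f x := by
    rw [← hcp, ← Scheme.Hom.comp_apply, hsq, Scheme.Hom.comp_apply]
    exact congrArg f hα
  obtain ⟨a₀, ha₀⟩ := exists_factor α hU (show α (IsLocalRing.closedPoint B) ∈ U from hα ▸ hxU)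
  obtain ⟨b₀, hb₀⟩ := exists_factor β hV (show β (IsLocalRing.closedPoint B') ∈ V from
    hβ ▸ hUV hxU)
  have hcomm : b₀ ≫ CommRingCat.ofHom φ = f.appLE V U hUV ≫ a₀ := by
    apply Spec.map_injective
    rw [← cancel_mono hV.fromSpec, Spec.map_comp, Spec.map_comp, Category.assoc, Category.assoc,
      IsAffineOpen.SpecMap_appLE_fromSpec f hV hU hUV, ← hb₀, hsq, ha₀, Category.assoc]
  letI := (f.appLE V U hUV).hom.toAlgebra
  haveI : Algebra.Smooth Γ(Y, V) Γ(X, U) := hsm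
  letI : Algebra Γ(Y, V) B' := b₀.hom.toAlgebra
  letI : Algebra Γ(Y, V) B := (φ.comp b₀.hom).toAlgebra
  let a₀' : Γ(X, U) →ₐ[Γ(Y, V)] B :=
    { a₀.hom with
      commutes' := fun r => by
        have := congr($hcomm r)
        exact this.symm }
  let φ' : B' →ₐ[Γ(Y, V)] B := { φ with commutes' := fun r => rfl }
  have hnil : IsNilpotent (RingHom.ker (φ' : B' →+* B)) := ⟨2, hker⟩
  let ℓ := Algebra.FormallySmooth.liftOfSurjective a₀' φ' hφ hnil
  have hℓ : φ'.comp ℓ = a₀' := Algebra.FormallySmooth.comp_liftOfSurjective a₀' φ' hφ hnil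
  refine ⟨Spec.map (CommRingCat.ofHom ℓ.toRingHom) ≫ hU.fromSpec, ?_, ?_⟩
  · rw [ha₀, ← Category.assoc, ← Spec.map_comp]
    congr 2
    ext r
    exact congr($hℓ r)
  · rw [hb₀, Category.assoc, ← IsAffineOpen.SpecMap_appLE_fromSpec f hV hU hUV, ← Category.assoc,
      ← Spec.map_comp]
    congr 2
    ext r
    exact ℓ.commutes r

theorem isLocalHom_of_surjective_of_sq_zero {R S : Type*} [CommRing R] [CommRing S] (φ : R →+* S)
    (hφ : Function.Surjective φ) (hker : RingHom.ker φ ^ 2 = ⊥) : IsLocalHom φ := by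
  constructor
  intro a ha
  obtain ⟨b, hb⟩ := ha.exists_right_inv
  obtain ⟨b', rfl⟩ := hφ b
  have hmem : a * b' - 1 ∈ RingHom.ker φ := by
    rw [RingHom.mem_ker, map_sub, map_mul, hb, map_one, sub_self]
  have hn : IsNilpotent (a * b' - 1) := by
    refine ⟨2, ?_⟩
    have := Ideal.pow_mem_pow hmem 2
    rw [hker] at this
    exact this
  have hu : IsUnit (a * b') := by
    have := hn.isUnit_add_one
    rwa [sub_add_cancel] at this
  exact isUnit_of_mul_isUnit_left hu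

section converse
variable {X Y : Scheme.{u}} (f : X ⟶ Y) [LocallyOfFinitePresentation f] (x : X)

theorem mem_smoothLocus_of_lift
    (H : ∀ (B B' : Type u) [CommRing B] [CommRing B'] [IsLocalRing B] [IsLocalRing B']
      (φ : B' →+* B), Function.Surjective φ → RingHom.ker φ ^ 2 = ⊥ →
      ∀ (α : Spec (CommRingCat.of B) ⟶ X) (β : Spec (CommRingCat.of B') ⟶ Y),
      α.base (IsLocalRing.closedPoint B) = x → Spec.map (CommRingCat.ofHom φ) ≫ β = α ≫ f →
      ∃ γ : Spec (CommRingCat.of B') ⟶ X, Spec.map (CommRingCat.ofHom φ) ≫ γ = α ∧ γ ≫ f = β) :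
    x ∈ f.smoothLocus := by
  rw [Scheme.Hom.mem_smoothLocus]
  letI := (f.stalkMap x).hom.toAlgebra
  change Algebra.FormallySmooth (Y.presheaf.stalk (f x)) (X.presheaf.stalk x)
  let P := MvPolynomial (X.presheaf.stalk x) (Y.presheaf.stalk (f x))
  let ψ : P →ₐ[Y.presheaf.stalk (f x)] (X.presheaf.stalk x) := MvPolynomial.aeval id
  have hψ : Function.Surjective ψ := fun r => ⟨MvPolynomial.X r, by
    change (MvPolynomial.aeval id) (MvPolynomial.X r) = r
    rw [MvPolynomial.aeval_X]; rfl⟩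
  let φ' : (P ⧸ RingHom.ker ψ.toRingHom ^ 2) →+* (X.presheaf.stalk x) := ψ.kerSquareLift.toRingHom
  have hφs : Function.Surjective φ' := fun r => by
    obtain ⟨p, hp⟩ := hψ r
    exact ⟨Ideal.Quotient.mk _ p, hp⟩
  have hker : RingHom.ker φ' ^ 2 = ⊥ := by
    rw [show RingHom.ker φ' = (RingHom.ker ψ.toRingHom).cotangentIdeal from ψ.ker_kerSquareLift,
      Ideal.cotangentIdeal_square]
  haveI hloc : IsLocalHom φ' := isLocalHom_of_surjective_of_sq_zero _ hφs hker
  haveI : IsLocalRing (P ⧸ RingHom.ker ψ.toRingHom ^ 2) := RingHom.domain_isLocalRing φ'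
  -- the lifting problem
  have hsq : Spec.map (CommRingCat.ofHom φ') ≫
      (Spec.map (CommRingCat.ofHom (algebraMap (Y.presheaf.stalk (f x))
        (P ⧸ RingHom.ker ψ.toRingHom ^ 2))) ≫ Y.fromSpecStalk (f x)) =
      X.fromSpecStalk x ≫ f := by
    rw [← Category.assoc, ← Spec.map_comp, ← Scheme.SpecMap_stalkMap_fromSpecStalk]
    congr 2
    ext a
    exact ψ.kerSquareLift.commutes a
  obtain ⟨γ, hγ1, hγ2⟩ := H (X.presheaf.stalk x) (P ⧸ RingHom.ker ψ.toRingHom ^ 2) φ' hφs hker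
    (X.fromSpecStalk x) _ Scheme.fromSpecStalk_closedPoint hsq
  -- charts
  obtain ⟨_, ⟨V, hV, rfl⟩, hxV, -⟩ :=
    Y.isBasis_affineOpens.exists_subset_of_mem_open (Set.mem_univ (f x)) isOpen_univ
  obtain ⟨_, ⟨U, hU, rfl⟩, hxU, hUV : U ≤ f ⁻¹ᵁ V⟩ :=
    X.isBasis_affineOpens.exists_subset_of_mem_open hxV (f ⁻¹ᵁ V).isOpen
  have hcp : (Spec.map (CommRingCat.ofHom φ')) (IsLocalRing.closedPoint (X.presheaf.stalk x)) =
      IsLocalRing.closedPoint (P ⧸ RingHom.ker ψ.toRingHom ^ 2) := IsLocalRing.comap_closedPoint φ'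
  have hγx : γ (IsLocalRing.closedPoint (P ⧸ RingHom.ker ψ.toRingHom ^ 2)) = x := by
    rw [← hcp, ← Scheme.Hom.comp_apply, hγ1]
    exact Scheme.fromSpecStalk_closedPoint
  obtain ⟨g₀, hg₀⟩ := exists_factor γ hU (show γ _ ∈ U from hγx.symm ▸ hxU)
  have E1 : g₀ ≫ CommRingCat.ofHom φ' = X.presheaf.germ U x hxU := by
    apply Spec.map_injective
    rw [← cancel_mono hU.fromSpec, Spec.map_comp, Category.assoc, ← hg₀, hγ1,
      ← hU.fromSpecStalk_eq_fromSpecStalk hxU]
    rfl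
  have E2 : f.appLE V U hUV ≫ g₀ = Y.presheaf.germ V (f x) hxV ≫
      CommRingCat.ofHom (algebraMap (Y.presheaf.stalk (f x)) (P ⧸ RingHom.ker ψ.toRingHom ^ 2)) := by
    apply Spec.map_injective
    rw [← cancel_mono hV.fromSpec, Spec.map_comp, Category.assoc,
      IsAffineOpen.SpecMap_appLE_fromSpec f hV hU hUV, ← Category.assoc, ← hg₀, hγ2,
      Spec.map_comp, Category.assoc, ← hV.fromSpecStalk_eq_fromSpecStalk hxV]
    rfl
  -- the section
  letI algU : Algebra Γ(X, U) (X.presheaf.stalk x) := (X.presheaf.germ U x hxU).hom.toAlgebra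
  haveI locU : IsLocalization.AtPrime (X.presheaf.stalk x) (hU.primeIdealOf ⟨x, hxU⟩).asIdeal :=
    hU.isLocalization_stalk ⟨x, hxU⟩
  have hunit : ∀ y : (hU.primeIdealOf ⟨x, hxU⟩).asIdeal.primeCompl, IsUnit (g₀.hom y) := by
    intro y
    have h1 : IsUnit (algebraMap Γ(X, U) (X.presheaf.stalk x) y) :=
      IsLocalization.map_units (X.presheaf.stalk x) y
    have h2 : φ' (g₀.hom y) = algebraMap Γ(X, U) (X.presheaf.stalk x) y := congr($E1 y)
    rw [← h2] at h1
    exact hloc.map_nonunit _ h1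
  let σ : (X.presheaf.stalk x) →+* (P ⧸ RingHom.ker ψ.toRingHom ^ 2) :=
    IsLocalization.lift (M := (hU.primeIdealOf ⟨x, hxU⟩).asIdeal.primeCompl) (g := g₀.hom) hunit
  have hσ : ∀ y : Γ(X, U), σ (X.presheaf.germ U x hxU y) = g₀.hom y := fun y =>
    IsLocalization.lift_eq hunit y
  have hsec : φ'.comp σ = RingHom.id _ := by
    apply IsLocalization.ringHom_ext (hU.primeIdealOf ⟨x, hxU⟩).asIdeal.primeCompl
    ext y
    change φ' (σ (X.presheaf.germ U x hxU y)) = X.presheaf.germ U x hxU y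
    rw [hσ]
    exact congr($E1 y)
  have hlin : σ.comp (f.stalkMap x).hom =
      algebraMap (Y.presheaf.stalk (f x)) (P ⧸ RingHom.ker ψ.toRingHom ^ 2) := by
    letI algV : Algebra Γ(Y, V) (Y.presheaf.stalk (f x)) :=
      (Y.presheaf.germ V (f x) hxV).hom.toAlgebra
    haveI locV : IsLocalization.AtPrime (Y.presheaf.stalk (f x))
        (hV.primeIdealOf ⟨f x, hxV⟩).asIdeal := hV.isLocalization_stalk ⟨f x, hxV⟩
    apply IsLocalization.ringHom_ext (hV.primeIdealOf ⟨f x, hxV⟩).asIdeal.primeCompl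
    ext y
    change σ ((f.stalkMap x).hom (Y.presheaf.germ V (f x) hxV y)) =
      algebraMap (Y.presheaf.stalk (f x)) (P ⧸ RingHom.ker ψ.toRingHom ^ 2)
        (Y.presheaf.germ V (f x) hxV y)
    have h3 : (f.stalkMap x).hom (Y.presheaf.germ V (f x) hxV y) =
        X.presheaf.germ U x hxU (f.appLE V U hUV y) := by
      rw [Scheme.Hom.appLE, CommRingCat.comp_apply, TopCat.Presheaf.germ_res_apply]
      exact Scheme.Hom.germ_stalkMap_apply f V x hxV y
    rw [h3, hσ]
    exact congr($E2 y)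
  let σ' : (X.presheaf.stalk x) →ₐ[Y.presheaf.stalk (f x)] (P ⧸ RingHom.ker ψ.toRingHom ^ 2) :=
    { σ with commutes' := fun a => congr($hlin a) }
  refine Algebra.FormallySmooth.of_split ψ σ' ?_
  ext r
  exact congr($hsec r)

end converse

end Groth.Agent.H22.LocalLift
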