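import Mathlib

namespace Groth.Agent.Lib.helper22.LubinTate

open MvPowerSeries Finsupp

variable {R : Type*} [CommRing R] {σ : Type*} [Finite σ]

/-- the tuple `(π X_s + X_s^q)_s` -/
noncomputable def fX (π : R) (q : ℕ) (s : σ) : MvPowerSeries σ R :=
  π • (X s : MvPowerSeries σ R) + (X s) ^ q

theorem constantCoeff_fX (π : R) {q : ℕ} (hq : q ≠ 0) (s : σ) :
    constantCoeff (fX π q s) = 0 := by
  simp [fX, hq]

theorem hasSubst_fX (π : R) {q : ℕ} (hq : q ≠ 0) :
    HasSubst (fX (σ := σ) π q) :=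
  hasSubst_of_constantCoeff_zero (constantCoeff_fX π hq)

theorem fX_eq (π : R) {q : ℕ} (hq : q ≠ 0) (s : σ) :
    fX π q s = (X s : MvPowerSeries σ R) * (C π + X s ^ (q - 1)) := by
  rw [fX, mul_add, ← pow_succ', Nat.sub_add_cancel (Nat.one_le_iff_ne_zero.2 hq), smul_eq_C_mul,
    mul_comm]

theorem prod_fX (π : R) {q : ℕ} (hq : q ≠ 0) (d : σ →₀ ℕ) :
    (d.prod fun s k => fX π q s ^ k) =
      monomial d (1 : R) * d.prod fun s k => (C π + (X s : MvPowerSeries σ R) ^ (q - 1)) ^ k := by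
  rw [monomial_one_eq, ← Finsupp.prod_mul]
  refine Finsupp.prod_congr fun s _ => ?_
  rw [fX_eq π hq, mul_pow]

theorem constantCoeff_prod_unit (π : R) {q : ℕ} (hq : 2 ≤ q) (d : σ →₀ ℕ) :
    constantCoeff (d.prod fun s k => (C π + (X s : MvPowerSeries σ R) ^ (q - 1)) ^ k) =
      π ^ d.degree := by
  rw [map_finsuppProd]
  have : ∀ s k, constantCoeff ((C π + (X s : MvPowerSeries σ R) ^ (q - 1)) ^ k) = π ^ k := by
    intro s k
    rw [map_pow, map_add, map_pow, constantCoeff_X, constantCoeff_C, zero_pow (by omega), add_zero]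
  simp_rw [this]
  rw [Finsupp.prod, Finset.prod_pow_eq_pow_sum, Finsupp.degree_apply]

theorem eq_of_le_of_degree_le {d e : σ →₀ ℕ} (h : d ≤ e) (hd : e.degree ≤ d.degree) : d = e := by
  have h1 : e = d + (e - d) := (add_tsub_cancel_of_le h).symm
  have h2 : (e - d).degree = 0 := by
    have := congrArg Finsupp.degree h1
    rw [map_add] at this
    omega
  rw [Finsupp.degree_eq_zero_iff] at h2
  rw [h1, h2, add_zero]

open Classical in
/-- the coefficient of `X^e` in `∏ (π X_s + X_s^q)^{d_s}` for `|d| ≥ |e|`. -/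
theorem coeff_prod_fX (π : R) {q : ℕ} (hq : 2 ≤ q) (d e : σ →₀ ℕ) (hde : e.degree ≤ d.degree) :
    coeff e (d.prod fun s k => fX π q s ^ k) = if d = e then π ^ e.degree else 0 := by
  classical
  rw [prod_fX π (by omega : q ≠ 0), coeff_monomial_mul]
  by_cases hle : d ≤ e
  · have := eq_of_le_of_degree_le hle hde
    subst this
    rw [if_pos le_rfl, if_pos rfl, tsub_self, one_mul, coeff_zero_eq_constantCoeff_apply,
      constantCoeff_prod_unit π hq]
  · rw [if_neg hle, if_neg]
    rintro rfl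
    exact hle le_rfl

/-- main coefficient computation -/
theorem coeff_subst_fX (π : R) {q : ℕ} (hq : 2 ≤ q) (Δ : MvPowerSeries σ R) (e : σ →₀ ℕ)
    (hΔ : (e.degree : ℕ∞) ≤ Δ.order) :
    coeff e (subst (fX π q) Δ) = π ^ e.degree * coeff e Δ := by
  rw [coeff_subst (hasSubst_fX π (by omega))]
  rw [finsum_eq_single _ e]
  · rw [coeff_prod_fX π hq e e le_rfl, if_pos rfl, smul_eq_mul, mul_comm]
  · intro d hd
    by_cases hlt : d.degree < e.degree
    · rw [coeff_of_lt_order (lt_of_lt_of_le (by exact_mod_cast hlt) hΔ), zero_smul]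
    · rw [coeff_prod_fX π hq d e (by omega), if_neg hd, smul_zero]

theorem le_order_sub' {f g : MvPowerSeries σ R} {m : ℕ∞} (hf : m ≤ f.order) (hg : m ≤ g.order) :
    m ≤ (f - g).order := by
  rw [sub_eq_add_neg]
  refine le_trans (le_min hf ?_) (min_order_le_add)
  rwa [order_neg]

theorem le_order_add' {f g : MvPowerSeries σ R} {m : ℕ∞} (hf : m ≤ f.order) (hg : m ≤ g.order) :
    m ≤ (f + g).order :=
  le_trans (le_min hf hg) (min_order_le_add)

theorem le_order_smul' {f : MvPowerSeries σ R} {m : ℕ∞} (a : R) (hf : m ≤ f.order) :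
    m ≤ (a • f).order :=
  le_trans hf le_order_smul

/-- `Ψ₁^q - Ψ₂^q` has order one more than `Ψ₁ - Ψ₂`. -/
theorem le_order_pow_sub_pow {Ψ₁ Ψ₂ : MvPowerSeries σ R} (h₁ : constantCoeff Ψ₁ = 0)
    (h₂ : constantCoeff Ψ₂ = 0) {q : ℕ} (hq : 2 ≤ q) {m : ℕ} (hm : (m : ℕ∞) ≤ (Ψ₁ - Ψ₂).order) :
    ((m + 1 : ℕ) : ℕ∞) ≤ (Ψ₁ ^ q - Ψ₂ ^ q).order := by
  rw [← geom_sum₂_mul]
  have hG : (1 : ℕ∞) ≤ (∑ i ∈ Finset.range q, Ψ₁ ^ i * Ψ₂ ^ (q - 1 - i)).order := by
    rw [one_le_order_iff_constCoeff_eq_zero, map_sum]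
    apply Finset.sum_eq_zero
    intro i hi
    rw [map_mul, map_pow, map_pow, h₁, h₂]
    rw [Finset.mem_range] at hi
    by_cases hi0 : i = 0
    · subst hi0
      rw [pow_zero, one_mul, zero_pow (by omega)]
    · rw [zero_pow hi0, zero_mul]
  refine le_trans ?_ le_order_mul
  push_cast
  rw [add_comm]
  exact add_le_add hG hm


theorem le_order_subst_fX (π : R) {q : ℕ} (hq : q ≠ 0) (D : MvPowerSeries σ R) :
    D.order ≤ (subst (fX π q) D).order := by
  refine le_trans ?_ (le_order_subst (hasSubst_fX π hq) D)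
  have h1 : (1 : ℕ∞) ≤ ⨅ i, (fX (σ := σ) π q i).order := by
    apply le_iInf
    intro i
    rw [one_le_order_iff_constCoeff_eq_zero]
    exact constantCoeff_fX π hq i
  calc D.order = 1 * D.order := (one_mul _).symm
    _ ≤ _ := mul_le_mul' h1 le_rfl

/-- `h ∘ Φ` for `h = π T + c T^q`. -/
noncomputable def hc (π c : R) (q : ℕ) (Φ : MvPowerSeries σ R) : MvPowerSeries σ R :=
  π • Φ + c • Φ ^ q

/-- the error term `h ∘ Φ - Φ ∘ (f X)`. -/
noncomputable def Err (π c : R) (q : ℕ) (Φ : MvPowerSeries σ R) : MvPowerSeries σ R :=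
  hc π c q Φ - subst (fX π q) Φ

theorem Err_sub (π c : R) {q : ℕ} (hq : q ≠ 0) (Ψ₁ Ψ₂ : MvPowerSeries σ R) :
    Err π c q Ψ₁ - Err π c q Ψ₂ =
      π • (Ψ₁ - Ψ₂) + c • (Ψ₁ ^ q - Ψ₂ ^ q) - subst (fX π q) (Ψ₁ - Ψ₂) := by
  rw [Err, Err, hc, hc, subst_sub (hasSubst_fX π hq), smul_sub, smul_sub]
  ring

/-- congruence -/
theorem le_order_Err_sub (π c : R) {q : ℕ} (hq : 2 ≤ q) {Ψ₁ Ψ₂ : MvPowerSeries σ R}
    (h₁ : constantCoeff Ψ₁ = 0) (h₂ : constantCoeff Ψ₂ = 0) {m : ℕ}
    (hm : (m : ℕ∞) ≤ (Ψ₁ - Ψ₂).order) :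
    (m : ℕ∞) ≤ (Err π c q Ψ₁ - Err π c q Ψ₂).order := by
  rw [Err_sub π c (by omega)]
  apply le_order_sub'
  · apply le_order_add'
    · exact le_order_smul' _ hm
    · apply le_order_smul'
      refine le_trans ?_ (le_order_pow_sub_pow h₁ h₂ hq hm)
      exact_mod_cast Nat.le_succ m
  · exact le_trans hm (le_order_subst_fX π (by omega) _)

/-- the coefficient in degree `m` of the error after adding a term of order `≥ m`. -/
theorem coeff_Err_add (π c : R) {q : ℕ} (hq : 2 ≤ q) {Φ Δ : MvPowerSeries σ R}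
    (hΦ : constantCoeff Φ = 0) (hΔ0 : constantCoeff Δ = 0) (e : σ →₀ ℕ)
    (hΔ : (e.degree : ℕ∞) ≤ Δ.order) :
    coeff e (Err π c q (Φ + Δ)) = coeff e (Err π c q Φ) + (π - π ^ e.degree) * coeff e Δ := by
  have h := Err_sub π c (by omega : q ≠ 0) (Φ + Δ) Φ
  rw [add_sub_cancel_left] at h
  have hpow : coeff e ((Φ + Δ) ^ q - Φ ^ q) = 0 := by
    apply coeff_of_lt_order
    have hΦΔ : constantCoeff (Φ + Δ) = 0 := by rw [map_add, hΦ, hΔ0, add_zero]
    have := le_order_pow_sub_pow (Ψ₁ := Φ + Δ) (Ψ₂ := Φ) hΦΔ hΦ hq (m := e.degree)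
      (by rw [add_sub_cancel_left]; exact hΔ)
    refine lt_of_lt_of_le ?_ this
    exact_mod_cast Nat.lt_succ_self _
  have h2 := congrArg (coeff e) h
  rw [map_sub, map_sub, map_add, coeff_subst_fX π hq Δ e hΔ] at h2
  have h3 : coeff e (c • ((Φ + Δ) ^ q - Φ ^ q)) = 0 := by
    rw [coeff_smul, hpow, mul_zero]
  have h4 : coeff e (π • Δ) = π * coeff e Δ := coeff_smul _ _ _
  rw [h3, h4, add_zero] at h2
  linear_combination h2

/-- the error always has order `≥ 2`. -/
theorem two_le_order_Err (π c : R) {q : ℕ} (hq : 2 ≤ q) {Φ : MvPowerSeries σ R}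
    (hΦ : constantCoeff Φ = 0) : (2 : ℕ∞) ≤ (Err π c q Φ).order := by
  have h0 : Err π c q (0 : MvPowerSeries σ R) = 0 := by
    rw [Err, hc, zero_pow (by omega), smul_zero, smul_zero, add_zero,
      ← coe_substAlgHom (hasSubst_fX π (by omega : q ≠ 0)), map_zero, sub_zero]
  have h1 : (1 : ℕ∞) ≤ Φ.order := by
    rw [one_le_order_iff_constCoeff_eq_zero]; exact hΦ
  suffices key : ((2 : ℕ) : ℕ∞) ≤ (Err π c q Φ).order by exact_mod_cast key
  apply nat_le_order (n := 2)
  intro e he
  have := coeff_Err_add π c hq (Φ := 0) (Δ := Φ) (by simp) hΦ e (by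
    refine le_trans ?_ h1
    have : e.degree ≤ 1 := by omega
    exact_mod_cast this)
  rw [zero_add, h0, map_zero, zero_add] at this
  rw [this]
  have he' : e.degree = 0 ∨ e.degree = 1 := by omega
  rcases he' with he' | he'
  · rw [Finsupp.degree_eq_zero_iff] at he'
    subst he'
    rw [coeff_zero_eq_constantCoeff_apply, hΦ, mul_zero]
  · rw [he', pow_one, sub_self, zero_mul]


theorem degree_eq_one_iff (e : σ →₀ ℕ) : e.degree = 1 ↔ ∃ s, e = single s 1 := by
  classical
  constructor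
  · intro h
    have hne : e ≠ 0 := by
      rintro rfl
      simp at h
    obtain ⟨s, hs⟩ : ∃ s, e s ≠ 0 := by
      by_contra hcon
      push_neg at hcon
      exact hne (Finsupp.ext hcon)
    have hle : single s 1 ≤ e := by
      rw [Finsupp.single_le_iff]
      omega
    have h1 : e = single s 1 + (e - single s 1) := (add_tsub_cancel_of_le hle).symm
    have h2 : (e - single s 1).degree = 0 := by
      have := congrArg Finsupp.degree h1
      rw [map_add, Finsupp.degree_single, h] at this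
      omega
    rw [Finsupp.degree_eq_zero_iff] at h2
    exact ⟨s, by rw [h1, h2, add_zero]⟩
  · rintro ⟨s, rfl⟩
    exact Finsupp.degree_single s 1

/-- uniqueness of solutions of `h ∘ Φ = Φ ∘ (f X)` with given linear part. -/
theorem unique (π c : R) {q : ℕ} (hq : 2 ≤ q)
    (hcancel : ∀ m : ℕ, 2 ≤ m → ∀ x : R, (π - π ^ m) * x = 0 → x = 0)
    {Φ₁ Φ₂ : MvPowerSeries σ R} (h₁ : constantCoeff Φ₁ = 0) (h₂ : constantCoeff Φ₂ = 0)
    (hlin : ∀ s, coeff (single s 1) Φ₁ = coeff (single s 1) Φ₂)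
    (hE : Err π c q Φ₁ = Err π c q Φ₂) : Φ₁ = Φ₂ := by
  set D := Φ₂ - Φ₁ with hD
  have hD0 : constantCoeff D = 0 := by rw [hD, map_sub, h₁, h₂, sub_zero]
  have hΦ₂ : Φ₁ + D = Φ₂ := by rw [hD]; ring
  have hclaim : ∀ n : ℕ, ((n + 2 : ℕ) : ℕ∞) ≤ D.order := by
    intro n
    induction n with
    | zero =>
      apply nat_le_order
      intro e he
      have he' : e.degree = 0 ∨ e.degree = 1 := by omega
      rcases he' with he' | he'
      · rw [Finsupp.degree_eq_zero_iff] at he'
        subst he'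
        rw [coeff_zero_eq_constantCoeff_apply, hD0]
      · obtain ⟨s, rfl⟩ := (degree_eq_one_iff e).1 he'
        rw [hD, map_sub, hlin, sub_self]
    | succ n ih =>
      apply nat_le_order
      intro e he
      by_cases hlt : e.degree < n + 2
      · exact coeff_of_lt_order (lt_of_lt_of_le (by exact_mod_cast hlt) ih)
      · have hdeg : e.degree = n + 2 := by omega
        have := coeff_Err_add π c hq h₁ hD0 e (by rw [hdeg]; exact ih)
        rw [hΦ₂, hE] at this
        have h0 : (π - π ^ e.degree) * coeff e D = 0 := by linear_combination -this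
        exact hcancel _ (by omega) _ h0
  have hD' : D = 0 := by
    by_contra hne
    obtain ⟨e, he⟩ : ∃ e, coeff e D ≠ 0 := by
      by_contra hcon
      push_neg at hcon
      exact hne (MvPowerSeries.ext hcon)
    have h1 := order_le he
    have h2 := le_trans (hclaim e.degree) h1
    have : e.degree + 2 ≤ e.degree := by exact_mod_cast h2
    omega
  rw [← hΦ₂, hD', add_zero]


/-- one step of the successive approximation. -/
theorem exists_step (π c : R) {q : ℕ} (hq : 2 ≤ q)
    (hunit : ∀ m : ℕ, 1 ≤ m → IsUnit (π ^ m - 1))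
    (hdiv : ∀ Φ : MvPowerSeries σ R, constantCoeff Φ = 0 → ∀ e, π ∣ coeff e (Err π c q Φ))
    (m : ℕ) (hm : 2 ≤ m) (Φ : MvPowerSeries σ R) (hΦ : constantCoeff Φ = 0)
    (hE : (m : ℕ∞) ≤ (Err π c q Φ).order) :
    ∃ Δ : MvPowerSeries σ R, (m : ℕ∞) ≤ Δ.order ∧
      ((m + 1 : ℕ) : ℕ∞) ≤ (Err π c q (Φ + Δ)).order := by
  classical
  choose y hy using hdiv Φ hΦ
  obtain ⟨u, hu⟩ := hunit (m - 1) (by omega)
  let Δ : MvPowerSeries σ R := fun e => if e.degree = m then y e * ↑u⁻¹ else 0
  have hΔcoeff : ∀ e, coeff e Δ = if e.degree = m then y e * ↑u⁻¹ else 0 := fun e => rfl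
  have hΔord : (m : ℕ∞) ≤ Δ.order := by
    apply nat_le_order
    intro e he
    rw [hΔcoeff, if_neg (by omega)]
  have hΔ0 : constantCoeff Δ = 0 := by
    rw [← coeff_zero_eq_constantCoeff_apply, hΔcoeff, if_neg]
    simp only [map_zero]
    omega
  refine ⟨Δ, hΔord, ?_⟩
  have hcong := le_order_Err_sub π c hq (Ψ₁ := Φ + Δ) (Ψ₂ := Φ)
    (by rw [map_add, hΦ, hΔ0, add_zero]) hΦ (m := m) (by rw [add_sub_cancel_left]; exact hΔord)
  apply nat_le_order
  intro e he
  by_cases hlt : e.degree < m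
  · have h1 : coeff e (Err π c q (Φ + Δ) - Err π c q Φ) = 0 :=
      coeff_of_lt_order (lt_of_lt_of_le (by exact_mod_cast hlt) hcong)
    have h2 : coeff e (Err π c q Φ) = 0 :=
      coeff_of_lt_order (lt_of_lt_of_le (by exact_mod_cast hlt) hE)
    rw [map_sub, h2, sub_zero] at h1
    exact h1
  · have hdeg : e.degree = m := by omega
    rw [coeff_Err_add π c hq hΦ hΔ0 e (by rw [hdeg]; exact hΔord), hΔcoeff, if_pos hdeg, hy e,
      hdeg]
    have hpow : π ^ m = π * π ^ (m - 1) := by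
      rw [← pow_succ', Nat.sub_add_cancel (by omega)]
    have hu' : (π ^ (m - 1) - 1) * ↑u⁻¹ = 1 := by
      rw [← hu]; exact u.mul_inv
    rw [hpow]
    linear_combination (-π * y e) * hu'


/-- existence of solutions of `h ∘ Φ = Φ ∘ (f X)` with given linear part. -/
theorem exists_solution (π c : R) {q : ℕ} (hq : 2 ≤ q)
    (hunit : ∀ m : ℕ, 1 ≤ m → IsUnit (π ^ m - 1))
    (hdiv : ∀ Φ : MvPowerSeries σ R, constantCoeff Φ = 0 → ∀ e, π ∣ coeff e (Err π c q Φ))
    (Φ₀ : MvPowerSeries σ R) (hΦ₀ : constantCoeff Φ₀ = 0) :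
    ∃ Φ : MvPowerSeries σ R, constantCoeff Φ = 0 ∧
      (∀ s, coeff (single s 1) Φ = coeff (single s 1) Φ₀) ∧ Err π c q Φ = 0 := by
  classical
  -- the sequence
  let good : ℕ → MvPowerSeries σ R → Prop := fun n Φ =>
    constantCoeff Φ = 0 ∧ ((n + 2 : ℕ) : ℕ∞) ≤ (Err π c q Φ).order
  have hstep : ∀ n Φ, good n Φ → ∃ Φ', good (n + 1) Φ' ∧ ((n + 2 : ℕ) : ℕ∞) ≤ (Φ' - Φ).order := by
    intro n Φ hg
    obtain ⟨Δ, hΔ, hE⟩ := exists_step π c hq hunit hdiv (n + 2) (by omega) Φ hg.1 hg.2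
    have hΔ0 : constantCoeff Δ = 0 := by
      rw [← coeff_zero_eq_constantCoeff_apply]
      apply coeff_of_lt_order
      refine lt_of_lt_of_le ?_ hΔ
      simp
    refine ⟨Φ + Δ, ⟨by rw [map_add, hg.1, hΔ0, add_zero], hE⟩, ?_⟩
    rw [add_sub_cancel_left]
    exact hΔ
  have hgood0 : good 0 Φ₀ := ⟨hΦ₀, by simpa using two_le_order_Err π c hq hΦ₀⟩
  let seq : (n : ℕ) → {Φ : MvPowerSeries σ R // good n Φ} := fun n =>
    Nat.rec (motive := fun n => {Φ : MvPowerSeries σ R // good n Φ}) ⟨Φ₀, hgood0⟩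
      (fun n x => ⟨Classical.choose (hstep n x.1 x.2), (Classical.choose_spec (hstep n x.1 x.2)).1⟩) n
  have hseq_succ : ∀ n, ((n + 2 : ℕ) : ℕ∞) ≤ ((seq (n + 1)).1 - (seq n).1).order := fun n =>
    (Classical.choose_spec (hstep n (seq n).1 (seq n).2)).2
  have hseq0 : (seq 0).1 = Φ₀ := rfl
  -- stability of coefficients
  have hstable : ∀ (e : σ →₀ ℕ) (n : ℕ), e.degree ≤ n + 1 →
      coeff e (seq (n + 1)).1 = coeff e (seq n).1 := by
    intro e n he
    have : coeff e ((seq (n + 1)).1 - (seq n).1) = 0 :=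
      coeff_of_lt_order (lt_of_lt_of_le (by exact_mod_cast (by omega : e.degree < n + 2))
        (hseq_succ n))
    rw [map_sub] at this
    exact sub_eq_zero.1 this
  have hstable' : ∀ (e : σ →₀ ℕ) (n : ℕ), e.degree ≤ n →
      coeff e (seq n).1 = coeff e (seq e.degree).1 := by
    intro e n hn
    induction n, hn using Nat.le_induction with
    | base => rfl
    | succ n hn ih => rw [hstable e n (by omega), ih]
  -- the limit
  let Φlim : MvPowerSeries σ R := fun e => coeff e (seq e.degree).1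
  have hcoeff : ∀ e, coeff e Φlim = coeff e (seq e.degree).1 := fun e => rfl
  have hlim : ∀ n, ((n + 2 : ℕ) : ℕ∞) ≤ (Φlim - (seq n).1).order := by
    intro n
    apply nat_le_order
    intro e he
    rw [map_sub, hcoeff, sub_eq_zero]
    by_cases hle : e.degree ≤ n
    · exact (hstable' e n hle).symm
    · have hdeg : e.degree = n + 1 := by omega
      rw [hdeg]
      exact hstable e n (by omega)
  have hΦlim0 : constantCoeff Φlim = 0 := by
    rw [← coeff_zero_eq_constantCoeff_apply, hcoeff]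
    have h0 : (0 : σ →₀ ℕ).degree = 0 := map_zero _
    rw [h0, coeff_zero_eq_constantCoeff_apply]
    exact (seq 0).2.1
  refine ⟨Φlim, hΦlim0, ?_, ?_⟩
  · intro s
    rw [hcoeff, Finsupp.degree_single]
    have := hstable (single s 1) 0 (by rw [Finsupp.degree_single])
    rw [zero_add] at this
    rw [this, hseq0]
  · ext e
    rw [map_zero]
    have h1 := le_order_Err_sub π c hq hΦlim0 (seq e.degree).2.1 (hlim e.degree)
    have h2 := (seq e.degree).2.2
    have h3 : ((e.degree + 2 : ℕ) : ℕ∞) ≤ (Err π c q Φlim).order := by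
      have := le_order_add' h1 h2
      rwa [sub_add_cancel] at this
    exact coeff_of_lt_order (lt_of_lt_of_le (by exact_mod_cast (by omega : e.degree < e.degree + 2)) h3)

/-- substitution into `π T + c T^q`. -/
theorem subst_poly (π c : R) (q : ℕ) (Φ : MvPowerSeries σ R) (hΦ : constantCoeff Φ = 0) :
    PowerSeries.subst Φ (π • (PowerSeries.X : PowerSeries R) + c • PowerSeries.X ^ q) =
      hc π c q Φ := by
  have h := PowerSeries.HasSubst.of_constantCoeff_zero hΦ
  rw [PowerSeries.subst_add h, PowerSeries.subst_smul h, PowerSeries.subst_smul h,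
    PowerSeries.subst_pow h, PowerSeries.subst_X h, hc]

theorem subst_f (π : R) (q : ℕ) (Φ : MvPowerSeries σ R) (hΦ : constantCoeff Φ = 0) :
    PowerSeries.subst Φ (π • (PowerSeries.X : PowerSeries R) + PowerSeries.X ^ q) =
      hc π 1 q Φ := by
  rw [← subst_poly π 1 q Φ hΦ, one_smul]

theorem subst_X_f (π : R) (q : ℕ) (hq : q ≠ 0) (s : σ) :
    PowerSeries.subst (X s : MvPowerSeries σ R)
      (π • (PowerSeries.X : PowerSeries R) + PowerSeries.X ^ q) = fX π q s := by
  rw [subst_f π q _ (constantCoeff_X s), hc, fX, one_smul]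

/-- the Lubin–Tate functional equation in terms of `Err`. -/
theorem eqn_iff (π : R) (q : ℕ) (hq : q ≠ 0) (Φ : MvPowerSeries σ R) (hΦ : constantCoeff Φ = 0) :
    PowerSeries.subst Φ (π • (PowerSeries.X : PowerSeries R) + PowerSeries.X ^ q) =
      MvPowerSeries.subst (fun s : σ => PowerSeries.subst (X s : MvPowerSeries σ R)
        (π • (PowerSeries.X : PowerSeries R) + PowerSeries.X ^ q)) Φ ↔ Err π 1 q Φ = 0 := by
  rw [subst_f π q Φ hΦ]
  have : (fun s : σ => PowerSeries.subst (X s : MvPowerSeries σ R)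
        (π • (PowerSeries.X : PowerSeries R) + PowerSeries.X ^ q)) = fX π q := by
    funext s; exact subst_X_f π q hq s
  rw [this, Err, sub_eq_zero]

section finite_field
variable {k : Type*} [Field k] [Finite k] {σ : Type*} [Finite σ]

/-- over a finite field with `q` elements, `Φ^q = Φ(X^q)`. -/
theorem pow_card_eq_expand (Φ : MvPowerSeries σ k) :
    Φ ^ Nat.card k = subst (fun s => (X s : MvPowerSeries σ k) ^ Nat.card k) Φ := by
  classical
  haveI : Fintype k := Fintype.ofFinite k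
  set p := ringChar k with hp
  haveI : CharP k p := ringChar.charP k
  obtain ⟨n, hpp, hcard⟩ := FiniteField.card k p
  haveI : Fact p.Prime := ⟨hpp⟩
  haveI : ExpChar k p := ExpChar.prime hpp
  have hq : Nat.card k = p ^ (n : ℕ) := by rw [Nat.card_eq_fintype_card, hcard]
  have hp0 : p ≠ 0 := hpp.ne_zero
  have h := map_iterateFrobenius_expand p hp0 Φ (n : ℕ)
  have hid : iterateFrobenius k p (n : ℕ) = RingHom.id k := by
    ext x
    rw [iterateFrobenius_def, RingHom.id_apply, ← hcard]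
    exact FiniteField.pow_card x
  rw [hid, MvPowerSeries.map_id, RingHom.id_apply] at h
  rw [hq, ← h, expand, coe_substAlgHom]

end finite_field


section dvr
variable {O : Type*} [CommRing O] [IsDomain O] [IsDiscreteValuationRing O]
  [Finite (IsLocalRing.ResidueField O)] {σ : Type*} [Finite σ]

theorem two_le_card_residueField : 2 ≤ Nat.card (IsLocalRing.ResidueField O) :=
  Finite.one_lt_card

theorem dvd_coeff_Err (π : O) (hπ : Irreducible π) (Φ : MvPowerSeries σ O)
    (hΦ : constantCoeff Φ = 0) (e : σ →₀ ℕ) :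
    π ∣ coeff e (Err π 1 (Nat.card (IsLocalRing.ResidueField O)) Φ) := by
  set q := Nat.card (IsLocalRing.ResidueField O) with hq
  have hq2 : 2 ≤ q := two_le_card_residueField
  set ρ := IsLocalRing.residue O with hρ
  have hρπ : ρ π = 0 := by
    rw [hρ, IsLocalRing.residue_eq_zero_iff, hπ.maximalIdeal_eq]
    exact Ideal.mem_span_singleton_self π
  suffices h : MvPowerSeries.map ρ (Err π 1 q Φ) = 0 by
    have h1 : ρ (coeff e (Err π 1 q Φ)) = 0 := by
      rw [← coeff_map, h, map_zero]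
    rw [hρ, IsLocalRing.residue_eq_zero_iff, hπ.maximalIdeal_eq, Ideal.mem_span_singleton] at h1
    exact h1
  have hfX : ∀ s : σ, MvPowerSeries.map ρ (fX π q s) =
      (X s : MvPowerSeries σ (IsLocalRing.ResidueField O)) ^ q := by
    intro s
    rw [fX, smul_eq_C_mul, map_add, map_mul, map_pow, map_C, map_X, hρπ, map_zero, zero_mul,
      zero_add]
  rw [Err, hc, map_sub, map_add, smul_eq_C_mul, smul_eq_C_mul, map_mul, map_mul, map_C, map_C,
    hρπ, map_zero, zero_mul, zero_add, map_one, map_one, one_mul, map_pow,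
    MvPowerSeries.map_subst (hasSubst_fX π (by omega))]
  simp_rw [hfX]
  rw [sub_eq_zero]
  exact pow_card_eq_expand _

theorem isUnit_pow_sub_one (π : O) (hπ : Irreducible π) (m : ℕ) (hm : 1 ≤ m) :
    IsUnit (π ^ m - 1) := by
  have hmem : π ^ m ∈ IsLocalRing.maximalIdeal O := by
    rw [hπ.maximalIdeal_eq]
    exact Ideal.pow_mem_of_mem _ (Ideal.mem_span_singleton_self π) m (by omega)
  have h := IsLocalRing.isUnit_one_sub_self_of_mem_nonunits _ hmem
  have : π ^ m - 1 = -(1 - π ^ m) := by ring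
  rw [this]
  exact h.neg

theorem cancel_dvr (π : O) (hπ : Irreducible π) (m : ℕ) (hm : 2 ≤ m) (x : O)
    (h : (π - π ^ m) * x = 0) : x = 0 := by
  have hu := isUnit_pow_sub_one π hπ (m - 1) (by omega)
  have h1 : π - π ^ m = -π * (π ^ (m - 1) - 1) := by
    have : π ^ m = π * π ^ (m - 1) := by
      rw [← pow_succ', Nat.sub_add_cancel (by omega)]
    rw [this]; ring
  rw [h1] at h
  rcases mul_eq_zero.1 h with h2 | h2
  · exfalso
    rcases mul_eq_zero.1 h2 with h3 | h3
    · exact hπ.ne_zero (neg_eq_zero.1 h3)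
    · exact hu.ne_zero h3
  · exact h2

end dvr

section dvr2
variable {O : Type*} [CommRing O] [IsDomain O] [IsDiscreteValuationRing O]
  [Finite (IsLocalRing.ResidueField O)] {σ : Type*} [Finite σ]

theorem dvr_exists (π : O) (hπ : Irreducible π) (Φ₀ : MvPowerSeries σ O)
    (hΦ₀ : constantCoeff Φ₀ = 0) :
    ∃ Φ : MvPowerSeries σ O, constantCoeff Φ = 0 ∧
      (∀ s, coeff (single s 1) Φ = coeff (single s 1) Φ₀) ∧
      Err π 1 (Nat.card (IsLocalRing.ResidueField O)) Φ = 0 :=
  exists_solution π 1 two_le_card_residueField (isUnit_pow_sub_one π hπ)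
    (fun Φ hΦ e => dvd_coeff_Err π hπ Φ hΦ e) Φ₀ hΦ₀

theorem dvr_unique (π : O) (hπ : Irreducible π) {Φ₁ Φ₂ : MvPowerSeries σ O}
    (h₁ : constantCoeff Φ₁ = 0) (h₂ : constantCoeff Φ₂ = 0)
    (hlin : ∀ s, coeff (single s 1) Φ₁ = coeff (single s 1) Φ₂)
    (hE₁ : Err π 1 (Nat.card (IsLocalRing.ResidueField O)) Φ₁ = 0)
    (hE₂ : Err π 1 (Nat.card (IsLocalRing.ResidueField O)) Φ₂ = 0) : Φ₁ = Φ₂ :=
  unique π 1 two_le_card_residueField (cancel_dvr π hπ) h₁ h₂ hlin (hE₁.trans hE₂.symm)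

end dvr2

section subst_lemmas
variable {R : Type*} [CommRing R] {σ τ υ : Type*} [Finite σ] [Finite τ] [Finite υ]

theorem le_order_subst_of_constantCoeff_zero {a : σ → MvPowerSeries τ R}
    (ha : ∀ s, constantCoeff (a s) = 0) (D : MvPowerSeries σ R) :
    D.order ≤ (subst a D).order := by
  refine le_trans ?_ (le_order_subst (hasSubst_of_constantCoeff_zero ha) D)
  have h1 : (1 : ℕ∞) ≤ ⨅ i, (a i).order := by
    apply le_iInf
    intro i
    rw [one_le_order_iff_constCoeff_eq_zero]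
    exact ha i
  calc D.order = 1 * D.order := (one_mul _).symm
    _ ≤ _ := mul_le_mul' h1 le_rfl

/-- `hc` commutes with substitution. -/
theorem hc_subst (π c : R) (q : ℕ) {a : σ → MvPowerSeries τ R}
    (ha : ∀ s, constantCoeff (a s) = 0) (Φ : MvPowerSeries σ R) :
    hc π c q (subst a Φ) = subst a (hc π c q Φ) := by
  have h := hasSubst_of_constantCoeff_zero ha
  rw [hc, hc, subst_add h, subst_smul h, subst_smul h, subst_pow h]

theorem subst_fX (π : R) (q : ℕ) {a : σ → MvPowerSeries τ R}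
    (ha : ∀ s, constantCoeff (a s) = 0) (s : σ) :
    subst a (fX π q s) = hc π 1 q (a s) := by
  have h := hasSubst_of_constantCoeff_zero ha
  rw [fX, hc, subst_add h, subst_smul h, subst_pow h, subst_X h, one_smul]

/-- the Lubin–Tate equation is stable under substitution of solutions. -/
theorem Err_subst (π c : R) {q : ℕ} (hq : q ≠ 0) {a : σ → MvPowerSeries τ R}
    (ha : ∀ s, constantCoeff (a s) = 0) (haE : ∀ s, Err π 1 q (a s) = 0)
    {Φ : MvPowerSeries σ R} (hΦ : Err π c q Φ = 0) :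
    Err π c q (subst a Φ) = 0 := by
  have h := hasSubst_of_constantCoeff_zero ha
  rw [Err, sub_eq_zero] at hΦ ⊢
  rw [hc_subst π c q ha, hΦ, subst_comp_subst_apply (hasSubst_fX π hq) h,
    subst_comp_subst_apply h (hasSubst_fX π hq)]
  congr 1
  funext s
  rw [subst_fX π q ha]
  have := haE s
  rw [Err, sub_eq_zero] at this
  exact this

theorem Err_X (π : R) {q : ℕ} (hq : q ≠ 0) (s : σ) :
    Err π 1 q (X s : MvPowerSeries σ R) = 0 := by
  rw [Err, subst_X (hasSubst_fX π hq), hc, fX, one_smul, sub_self]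

theorem constantCoeff_subst_zero {a : σ → MvPowerSeries τ R}
    (ha : ∀ s, constantCoeff (a s) = 0) {Φ : MvPowerSeries σ R} (hΦ : constantCoeff Φ = 0) :
    constantCoeff (subst a Φ) = 0 :=
  constantCoeff_subst_eq_zero (hasSubst_of_constantCoeff_zero ha) ha hΦ


/-- the linear part of a power series, as a polynomial-like finite sum. -/
noncomputable def lin [Fintype σ] (Φ : MvPowerSeries σ R) : MvPowerSeries σ R :=
  ∑ s, coeff (single s 1) Φ • (X s : MvPowerSeries σ R)

theorem coeff_single_lin [Fintype σ] [DecidableEq σ] (Φ : MvPowerSeries σ R) (t : σ) :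
    coeff (single t 1) (lin Φ) = coeff (single t 1) Φ := by
  rw [lin, map_sum, Finset.sum_eq_single t]
  · rw [coeff_smul, coeff_index_single_self_X, mul_one]
  · intro s _ hst
    rw [coeff_smul, coeff_index_single_X, if_neg (Ne.symm hst), mul_zero]
  · intro h; exact absurd (Finset.mem_univ t) h

theorem constantCoeff_lin [Fintype σ] (Φ : MvPowerSeries σ R) : constantCoeff (lin Φ) = 0 := by
  rw [lin, map_sum]
  apply Finset.sum_eq_zero
  intro s _
  rw [smul_eq_C_mul, map_mul, constantCoeff_X, mul_zero]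

theorem two_le_order_sub_lin [Fintype σ] {Φ : MvPowerSeries σ R} (hΦ : constantCoeff Φ = 0) :
    (2 : ℕ∞) ≤ (Φ - lin Φ).order := by
  classical
  suffices key : ((2 : ℕ) : ℕ∞) ≤ (Φ - lin Φ).order by exact_mod_cast key
  apply nat_le_order (n := 2)
  intro e he
  have he' : e.degree = 0 ∨ e.degree = 1 := by omega
  rcases he' with he' | he'
  · rw [Finsupp.degree_eq_zero_iff] at he'
    subst he'
    rw [coeff_zero_eq_constantCoeff_apply, map_sub, hΦ, constantCoeff_lin, sub_zero]
  · obtain ⟨s, rfl⟩ := (degree_eq_one_iff e).1 he'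
    rw [map_sub, coeff_single_lin, sub_self]

theorem subst_lin [Fintype σ] {a : σ → MvPowerSeries τ R}
    (ha : ∀ s, constantCoeff (a s) = 0) (Φ : MvPowerSeries σ R) :
    subst a (lin Φ) = ∑ s, coeff (single s 1) Φ • a s := by
  have h := hasSubst_of_constantCoeff_zero ha
  rw [lin, ← coe_substAlgHom h, map_sum]
  refine Finset.sum_congr rfl fun s _ => ?_
  rw [coe_substAlgHom h, subst_smul h, subst_X h]

/-- the coefficients of degree `≤ 1` of a substitution. -/
theorem coeff_subst_of_degree_le_one [Fintype σ] {a : σ → MvPowerSeries τ R}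
    (ha : ∀ s, constantCoeff (a s) = 0) {Φ : MvPowerSeries σ R} (hΦ : constantCoeff Φ = 0)
    (e : τ →₀ ℕ) (he : e.degree ≤ 1) :
    coeff e (subst a Φ) = ∑ s, coeff (single s 1) Φ * coeff e (a s) := by
  have h := hasSubst_of_constantCoeff_zero ha
  have h1 : Φ = lin Φ + (Φ - lin Φ) := by ring
  have h2 : coeff e (subst a (Φ - lin Φ)) = 0 := by
    apply coeff_of_lt_order
    refine lt_of_lt_of_le ?_ (le_trans (two_le_order_sub_lin hΦ)
      (le_order_subst_of_constantCoeff_zero ha _))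
    have : e.degree < 2 := by omega
    exact_mod_cast this
  conv_lhs => rw [h1, subst_add h, map_add, h2, add_zero, subst_lin ha, map_sum]
  refine Finset.sum_congr rfl fun s _ => ?_
  rw [coeff_smul]

end subst_lemmas

section one_variable
variable {O : Type*} [CommRing O]

/-- one-variable version of the functional equation: `f ∘ g = g ∘ f` iff `Err = 0`. -/
theorem comm_iff (π : O) (q : ℕ) (hq : q ≠ 0) (g : PowerSeries O)
    (hg : PowerSeries.constantCoeff g = 0) :
    PowerSeries.subst g (π • (PowerSeries.X : PowerSeries O) + PowerSeries.X ^ q) =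
      PowerSeries.subst (π • (PowerSeries.X : PowerSeries O) + PowerSeries.X ^ q) g ↔
    Err π 1 q (g : MvPowerSeries Unit O) = 0 := by
  rw [← eqn_iff π _ hq g hg]
  have : (fun s : Unit => PowerSeries.subst (MvPowerSeries.X s : MvPowerSeries Unit O)
        (π • (PowerSeries.X : PowerSeries O) + PowerSeries.X ^ q)) =
      fun _ => (π • (PowerSeries.X : PowerSeries O) + PowerSeries.X ^ q) := by
    funext s
    rw [subst_X_f π q hq s]
    rfl
  rw [this]
  rfl

end one_variable

section more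
variable {R S : Type*} [CommRing R] [CommRing S] {σ τ : Type*} [Finite σ] [Finite τ]

theorem map_fX (φ : R →+* S) (π : R) (q : ℕ) (s : σ) :
    MvPowerSeries.map φ (fX π q s) = fX (φ π) q s := by
  rw [fX, fX, smul_eq_C_mul, smul_eq_C_mul, map_add, map_mul, map_pow, map_C, map_X]

theorem map_Err (φ : R →+* S) (π c : R) {q : ℕ} (hq : q ≠ 0) (Φ : MvPowerSeries σ R) :
    MvPowerSeries.map φ (Err π c q Φ) = Err (φ π) (φ c) q (MvPowerSeries.map φ Φ) := by
  rw [Err, Err, hc, hc, map_sub, map_add, smul_eq_C_mul, smul_eq_C_mul, smul_eq_C_mul,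
    smul_eq_C_mul, map_mul, map_mul, map_C, map_C, map_pow,
    MvPowerSeries.map_subst (hasSubst_fX π hq)]
  simp_rw [map_fX]

theorem Err_zero_add (π : R) {q : ℕ} (hq : q ≠ 0) (A B : MvPowerSeries σ R) :
    Err π 0 q (A + B) = Err π 0 q A + Err π 0 q B := by
  rw [Err, Err, Err, hc, hc, hc, subst_add (hasSubst_fX π hq), zero_smul, zero_smul, zero_smul,
    smul_add]
  ring

theorem Err_zero_smul (π : R) {q : ℕ} (hq : q ≠ 0) (a : R) (A : MvPowerSeries σ R) :
    Err π 0 q (a • A) = a • Err π 0 q A := by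
  rw [Err, Err, hc, hc, subst_smul (hasSubst_fX π hq), zero_smul, zero_smul, add_zero, add_zero,
    smul_sub, smul_comm]

/-- linear coefficients of `g(X_i)`. -/
theorem coeff_subst_X [DecidableEq τ]
    (g : PowerSeries R) (hg : PowerSeries.constantCoeff g = 0) (i s : τ) :
    MvPowerSeries.coeff (Finsupp.single s 1)
      (PowerSeries.subst (MvPowerSeries.X i : MvPowerSeries τ R) g) =
      if s = i then PowerSeries.coeff 1 g else 0 := by
  have ha : ∀ u : Unit, MvPowerSeries.constantCoeff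
      ((fun _ : Unit => (MvPowerSeries.X i : MvPowerSeries τ R)) u) = 0 :=
    fun _ => MvPowerSeries.constantCoeff_X i
  have h1 := coeff_subst_of_degree_le_one ha hg (Finsupp.single s 1)
    (by rw [Finsupp.degree_single])
  rw [show (PowerSeries.subst (MvPowerSeries.X i : MvPowerSeries τ R) g) =
      MvPowerSeries.subst (fun _ : Unit => (MvPowerSeries.X i : MvPowerSeries τ R)) g from rfl, h1]
  simp only [Finset.univ_unique, Finset.sum_singleton]
  rw [MvPowerSeries.coeff_index_single_X]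
  split_ifs with h
  · rw [mul_one]; rfl
  · rw [mul_zero]

end more

section field
variable {O : Type*} [CommRing O] [IsDomain O] [IsDiscreteValuationRing O]
  {K : Type*} [Field K] [Algebra O K] [IsFractionRing O K] {σ : Type*} [Finite σ]

theorem algebraMap_pow_ne_one (π : O) (hπ : Irreducible π) (m : ℕ) (hm : 1 ≤ m) :
    (algebraMap O K π) ^ m ≠ 1 := by
  intro h
  have h1 : algebraMap O K (π ^ m) = algebraMap O K 1 := by rw [map_pow, h, map_one]
  have h2 : π ^ m = 1 := IsFractionRing.injective O K h1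
  have : IsUnit π := IsUnit.of_pow_eq_one h2 (by omega)
  exact hπ.not_isUnit this

theorem algebraMap_ne_zero (π : O) (hπ : Irreducible π) : algebraMap O K π ≠ 0 := by
  intro h
  have h1 : algebraMap O K π = algebraMap O K 0 := by rw [h, map_zero]
  exact hπ.ne_zero (IsFractionRing.injective O K h1)

theorem field_exists (π : O) (hπ : Irreducible π) {q : ℕ} (hq : 2 ≤ q) (c : K)
    (Φ₀ : MvPowerSeries σ K) (hΦ₀ : constantCoeff Φ₀ = 0) :
    ∃ Φ : MvPowerSeries σ K, constantCoeff Φ = 0 ∧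
      (∀ s, coeff (single s 1) Φ = coeff (single s 1) Φ₀) ∧
      Err (algebraMap O K π) c q Φ = 0 :=
  exists_solution _ c hq
    (fun m hm => (sub_ne_zero.2 (algebraMap_pow_ne_one π hπ m hm)).isUnit)
    (fun _ _ _ => (algebraMap_ne_zero π hπ).isUnit.dvd) Φ₀ hΦ₀

theorem field_unique (π : O) (hπ : Irreducible π) {q : ℕ} (hq : 2 ≤ q) (c : K)
    {Φ₁ Φ₂ : MvPowerSeries σ K}
    (h₁ : constantCoeff Φ₁ = 0) (h₂ : constantCoeff Φ₂ = 0)
    (hlin : ∀ s, coeff (single s 1) Φ₁ = coeff (single s 1) Φ₂)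
    (hE₁ : Err (algebraMap O K π) c q Φ₁ = 0)
    (hE₂ : Err (algebraMap O K π) c q Φ₂ = 0) : Φ₁ = Φ₂ := by
  refine unique _ c hq ?_ h₁ h₂ hlin (hE₁.trans hE₂.symm)
  intro m hm x hx
  have h1 : algebraMap O K π - (algebraMap O K π) ^ m =
      algebraMap O K π * (1 - (algebraMap O K π) ^ (m - 1)) := by
    have : (algebraMap O K π) ^ m = algebraMap O K π * (algebraMap O K π) ^ (m - 1) := by
      rw [← pow_succ', Nat.sub_add_cancel (by omega)]
    rw [this]; ring
  rw [h1] at hx
  rcases mul_eq_zero.1 hx with h2 | h2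
  · exfalso
    rcases mul_eq_zero.1 h2 with h3 | h3
    · exact algebraMap_ne_zero π hπ h3
    · exact algebraMap_pow_ne_one π hπ (m - 1) (by omega) (sub_eq_zero.1 h3).symm
  · exact h2

end field

end Groth.Agent.Lib.helper22.LubinTate
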