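import Groth.Prelude.Def_EtMil
import Mathlib

/-! Helper lemmas on Milnor squares (fibre products of rings), for S14949–S14966. -/

set_option autoImplicit false
universe u
open TensorProduct

namespace Groth.Agent.Lib.helper22.Milnor

variable {B' B A' A : Type u} [CommRing B'] [CommRing B] [CommRing A'] [CommRing A]
  [Algebra B' B] [Algebra B' A'] [Algebra B A] [Algebra A' A] [Algebra B' A]
  [IsScalarTower B' B A] [IsScalarTower B' A' A]

theorem comm_sq (b' : B') :
    algebraMap B A (algebraMap B' B b') = algebraMap A' A (algebraMap B' A' b') := by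
  rw [← IsScalarTower.algebraMap_apply, ← IsScalarTower.algebraMap_apply]

theorem surj_B (hsq : EtMil.IsFibreSquare B' B A' A) : Function.Surjective (algebraMap B' B) := by
  intro b
  obtain ⟨a', ha'⟩ := hsq.1 (algebraMap B A b)
  obtain ⟨b', ⟨hb', _⟩, _⟩ := hsq.2 b a' ha'.symm
  exact ⟨b', hb'⟩

theorem eq_of_images_eq (hsq : EtMil.IsFibreSquare B' B A' A) {x y : B'}
    (h1 : algebraMap B' B x = algebraMap B' B y) (h2 : algebraMap B' A' x = algebraMap B' A' y) :
    x = y := by
  obtain ⟨z, _, hz⟩ := hsq.2 (algebraMap B' B y) (algebraMap B' A' y) (comm_sq (B := B) (A' := A') (A := A) y)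
  rw [hz x ⟨h1, h2⟩, hz y ⟨rfl, rfl⟩]

/-- For `j` in the kernel of `B' → B`, the `B'`-linear map `A' → B'`, `a' ↦ "a' * j"`. -/
theorem exists_mulKer (hsq : EtMil.IsFibreSquare B' B A' A) (j : B') (hj : algebraMap B' B j = 0) :
    ∃ m : A' →ₗ[B'] B', (∀ a', algebraMap B' B (m a') = 0) ∧
      (∀ a', algebraMap B' A' (m a') = a' * algebraMap B' A' j) ∧ m 1 = j := by
  have hex : ∀ a' : A', ∃! b' : B', algebraMap B' B b' = 0 ∧
      algebraMap B' A' b' = a' * algebraMap B' A' j := by
    intro a'
    apply hsq.2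
    rw [map_zero, map_mul, ← comm_sq (B := B) (A' := A') (A := A), hj, map_zero, mul_zero]
  choose m hm hm' using hex
  have hm1 : ∀ a', algebraMap B' B (m a') = 0 := fun a' => (hm a').1
  have hm2 : ∀ a', algebraMap B' A' (m a') = a' * algebraMap B' A' j := fun a' => (hm a').2
  refine ⟨{ toFun := m, map_add' := ?_, map_smul' := ?_ }, hm1, hm2, ?_⟩
  · intro x y
    apply eq_of_images_eq hsq
    · rw [map_add, hm1, hm1, hm1, add_zero]
    · rw [map_add, hm2, hm2, hm2, add_mul]
  · intro c x
    apply eq_of_images_eq hsq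
    · simp only [RingHom.id_apply, smul_eq_mul, map_mul, hm1, mul_zero]
    · simp only [RingHom.id_apply, smul_eq_mul, map_mul, hm2, Algebra.smul_def, mul_assoc]
  · apply eq_of_images_eq hsq
    · change algebraMap B' B (m 1) = _
      rw [hm1, hj]
    · change algebraMap B' A' (m 1) = _
      rw [hm2, one_mul]

/-- If `1 ⊗ l = 0` in `A' ⊗_{B'} L'` then `l` is killed by the kernel of `B' → B`. -/
theorem smul_eq_zero_of_tmul_eq_zero (hsq : EtMil.IsFibreSquare B' B A' A)
    {L' : Type u} [AddCommGroup L'] [Module B' L'] (l : L')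
    (h2 : ((1 : A') ⊗ₜ[B'] l : A' ⊗[B'] L') = 0) (j : B') (hj : algebraMap B' B j = 0) :
    j • l = 0 := by
  obtain ⟨m, _, _, hm1⟩ := exists_mulKer hsq j hj
  let f : A' ⊗[B'] L' →ₗ[B'] L' := TensorProduct.lift ((LinearMap.lsmul B' L').comp m)
  have : f ((1 : A') ⊗ₜ[B'] l) = j • l := by
    simp [f, hm1]
  rw [← this, h2, map_zero]

/-- If `1 ⊗ l = 0` in `B ⊗_{B'} L'` (with `B' → B` surjective) then `l ∈ J L'`, `J = ker (B' → B)`. -/
theorem mem_ker_smul_top_of_tmul_eq_zero (hsurj : Function.Surjective (algebraMap B' B))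
    {L' : Type u} [AddCommGroup L'] [Module B' L'] (l : L')
    (h1 : ((1 : B) ⊗ₜ[B'] l : B ⊗[B'] L') = 0) :
    l ∈ (RingHom.ker (algebraMap B' B)) • (⊤ : Submodule B' L') := by
  set J := RingHom.ker (algebraMap B' B) with hJ
  have hex : Function.Exact (Submodule.subtype J : J →ₗ[B'] B') (Algebra.linearMap B' B) := by
    intro x
    constructor
    · intro hx
      exact ⟨⟨x, hx⟩, rfl⟩
    · rintro ⟨y, rfl⟩
      exact y.2
  have hex' := rTensor_exact L' hex hsurj
  have h0 : (LinearMap.rTensor L' (Algebra.linearMap B' B)) ((1 : B') ⊗ₜ[B'] l) = 0 := by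
    simp [h1]
  obtain ⟨t, ht⟩ := (hex' _).1 h0
  have key : ∀ t : (J : Type u) ⊗[B'] L',
      TensorProduct.lid B' L' (LinearMap.rTensor L' (Submodule.subtype J) t) ∈
        J • (⊤ : Submodule B' L') := by
    intro t
    induction t using TensorProduct.induction_on with
    | zero => simp
    | tmul x y =>
      simp only [LinearMap.rTensor_tmul, Submodule.subtype_apply, TensorProduct.lid_tmul]
      exact Submodule.smul_mem_smul x.2 trivial
    | add x y hx hy =>
      rw [map_add, map_add]
      exact Submodule.add_mem _ hx hy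
  have := key t
  rw [ht] at this
  simpa using this

end Groth.Agent.Lib.helper22.Milnor
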