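import Mathlib
import Groth.Agent.Lib.helper22.ThickAffine
import Groth.Agent.Lib.helper22.ThickCI

/-!
# A (general, nil) thickening of an affine scheme is affine (helper22)
-/

universe u

open CategoryTheory CategoryTheory.Limits AlgebraicGeometry TopologicalSpace Opposite

namespace Groth.Agent.H22.NilAffine

section Alg

variable {A₁ A₂ A₀ : Type*} [CommRing A₁] [CommRing A₂] [CommRing A₀] [Algebra A₁ A₀]
  [Algebra A₂ A₀]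

/-- extension of elements of powers of an ideal along a localization away from an element. -/
theorem exists_ext {A : Type*} [CommRing A] [Algebra A A₀] (v : A) [IsLocalization.Away v A₀]
    (𝔞 : Ideal A) (𝔞₀ : Ideal A₀) (h : 𝔞.map (algebraMap A A₀) = 𝔞₀) (k : ℕ) (c : A₀)
    (hc : c ∈ 𝔞₀ ^ k) :
    ∃ (N : ℕ) (e : A), e ∈ 𝔞 ^ k ∧ algebraMap A A₀ e = (algebraMap A A₀ v) ^ N * c := by
  rw [← h, ← Ideal.map_pow] at hc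
  obtain ⟨⟨⟨e, he⟩, ⟨_, N, rfl⟩⟩, hx⟩ :=
    (IsLocalization.mem_map_algebraMap_iff (Submonoid.powers v) A₀).mp hc
  refine ⟨N, e, he, ?_⟩
  have hx' : c * algebraMap A A₀ (v ^ N) = algebraMap A A₀ e := hx
  rw [map_pow] at hx'
  rw [mul_comm]
  exact hx'.symm

theorem exists_ext_add {A : Type*} [CommRing A] [Algebra A A₀] (v : A) [IsLocalization.Away v A₀]
    (𝔞 : Ideal A) (𝔞₀ : Ideal A₀) (h : 𝔞.map (algebraMap A A₀) = 𝔞₀) (k : ℕ) (c : A₀)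
    (hc : c ∈ 𝔞₀ ^ k) (N' : ℕ) :
    ∃ (N : ℕ) (e : A), N' ≤ N ∧ e ∈ 𝔞 ^ k ∧
      algebraMap A A₀ e = (algebraMap A A₀ v) ^ N * c := by
  obtain ⟨N, e, he, hec⟩ := exists_ext v 𝔞 𝔞₀ h k c hc
  refine ⟨N + N', v ^ N' * e, Nat.le_add_left _ _, Ideal.mul_mem_left _ _ he, ?_⟩
  rw [map_mul, map_pow, hec]
  ring

/-- **Gluing lift.** -/
theorem glue_lift (v₁ : A₁) (u₂ : A₂) [IsLocalization.Away v₁ A₀] [IsLocalization.Away u₂ A₀]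
    (𝔞₁ : Ideal A₁) (𝔞₂ : Ideal A₂) (𝔞₀ : Ideal A₀)
    (h₁ : 𝔞₁.map (algebraMap A₁ A₀) = 𝔞₀) (h₂ : 𝔞₂.map (algebraMap A₂ A₀) = 𝔞₀)
    (m : ℕ) (hm : 𝔞₀ ^ m = ⊥)
    (u₁ : A₁) (v₂ : A₂) (a₁ b₁ : A₁) (a₂ b₂ : A₂)
    (hu : algebraMap A₁ A₀ u₁ - algebraMap A₂ A₀ u₂ ∈ 𝔞₀)
    (hv : algebraMap A₁ A₀ v₁ - algebraMap A₂ A₀ v₂ ∈ 𝔞₀)
    (ha : algebraMap A₁ A₀ a₁ - algebraMap A₂ A₀ a₂ ∈ 𝔞₀)
    (hb : algebraMap A₁ A₀ b₁ - algebraMap A₂ A₀ b₂ ∈ 𝔞₀)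
    (hd₁ : a₁ * u₁ + b₁ * v₁ - 1 ∈ 𝔞₁) (hd₂ : a₂ * u₂ + b₂ * v₂ - 1 ∈ 𝔞₂)
    (g₁ : A₁) (g₂ : A₂) (hg : algebraMap A₁ A₀ g₁ - algebraMap A₂ A₀ g₂ ∈ 𝔞₀) :
    ∃ (s₁ : A₁) (s₂ : A₂), algebraMap A₁ A₀ s₁ = algebraMap A₂ A₀ s₂ ∧
      s₁ - g₁ ∈ 𝔞₁ ∧ s₂ - g₂ ∈ 𝔞₂ := by
  have hle₁ : 𝔞₁ ≤ 𝔞₀.comap (algebraMap A₁ A₀) := by
    rw [← Ideal.map_le_iff_le_comap, h₁]
  have hle₂ : 𝔞₂ ≤ 𝔞₀.comap (algebraMap A₂ A₀) := by
    rw [← Ideal.map_le_iff_le_comap, h₂]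
  -- Step 0: partitions of unity for powers
  have step0 : ∀ M : ℕ, ∃ (p₁ q₁ : A₁) (p₂ q₂ : A₂),
      p₁ * u₁ ^ M + q₁ * v₁ ^ M - 1 ∈ 𝔞₁ ∧ p₂ * u₂ ^ M + q₂ * v₂ ^ M - 1 ∈ 𝔞₂ ∧
      algebraMap A₁ A₀ p₁ - algebraMap A₂ A₀ p₂ ∈ 𝔞₀ ∧
      algebraMap A₁ A₀ q₁ - algebraMap A₂ A₀ q₂ ∈ 𝔞₀ := by
    intro M
    let ρ₁ : A₁ ⧸ 𝔞₁ →+* A₀ ⧸ 𝔞₀ := Ideal.quotientMap 𝔞₀ (algebraMap A₁ A₀) hle₁
    let ρ₂ : A₂ ⧸ 𝔞₂ →+* A₀ ⧸ 𝔞₀ := Ideal.quotientMap 𝔞₀ (algebraMap A₂ A₀) hle₂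
    let Rbar : Subring ((A₁ ⧸ 𝔞₁) × (A₂ ⧸ 𝔞₂)) :=
      RingHom.eqLocus (ρ₁.comp (RingHom.fst _ _)) (ρ₂.comp (RingHom.snd _ _))
    have mkmem : ∀ (x₁ : A₁) (x₂ : A₂),
        algebraMap A₁ A₀ x₁ - algebraMap A₂ A₀ x₂ ∈ 𝔞₀ →
        ((Ideal.Quotient.mk 𝔞₁ x₁, Ideal.Quotient.mk 𝔞₂ x₂) : (A₁ ⧸ 𝔞₁) × (A₂ ⧸ 𝔞₂)) ∈ Rbar := by
      intro x₁ x₂ hx
      change ρ₁ (Ideal.Quotient.mk 𝔞₁ x₁) = ρ₂ (Ideal.Quotient.mk 𝔞₂ x₂)
      simp only [ρ₁, ρ₂, Ideal.quotientMap_mk]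
      exact Ideal.Quotient.eq.mpr hx
    let ut : Rbar := ⟨_, mkmem u₁ u₂ hu⟩
    let vt : Rbar := ⟨_, mkmem v₁ v₂ hv⟩
    let at' : Rbar := ⟨_, mkmem a₁ a₂ ha⟩
    let bt : Rbar := ⟨_, mkmem b₁ b₂ hb⟩
    have hcop : IsCoprime ut vt := by
      refine ⟨at', bt, ?_⟩
      apply Subtype.ext
      apply Prod.ext
      · change Ideal.Quotient.mk 𝔞₁ a₁ * Ideal.Quotient.mk 𝔞₁ u₁ +
          Ideal.Quotient.mk 𝔞₁ b₁ * Ideal.Quotient.mk 𝔞₁ v₁ = 1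
        rw [← map_mul, ← map_mul, ← map_add, ← map_one (Ideal.Quotient.mk 𝔞₁)]
        exact Ideal.Quotient.eq.mpr hd₁
      · change Ideal.Quotient.mk 𝔞₂ a₂ * Ideal.Quotient.mk 𝔞₂ u₂ +
          Ideal.Quotient.mk 𝔞₂ b₂ * Ideal.Quotient.mk 𝔞₂ v₂ = 1
        rw [← map_mul, ← map_mul, ← map_add, ← map_one (Ideal.Quotient.mk 𝔞₂)]
        exact Ideal.Quotient.eq.mpr hd₂
    obtain ⟨pt, qt, hpq⟩ := (hcop.pow (m := M) (n := M))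
    obtain ⟨p₁, hp₁⟩ := Ideal.Quotient.mk_surjective pt.1.1
    obtain ⟨p₂, hp₂⟩ := Ideal.Quotient.mk_surjective pt.1.2
    obtain ⟨q₁, hq₁⟩ := Ideal.Quotient.mk_surjective qt.1.1
    obtain ⟨q₂, hq₂⟩ := Ideal.Quotient.mk_surjective qt.1.2
    have hpq1 : pt.1.1 * (Ideal.Quotient.mk 𝔞₁ u₁) ^ M + qt.1.1 * (Ideal.Quotient.mk 𝔞₁ v₁) ^ M
        = 1 := congr(($hpq).1.1)
    have hpq2 : pt.1.2 * (Ideal.Quotient.mk 𝔞₂ u₂) ^ M + qt.1.2 * (Ideal.Quotient.mk 𝔞₂ v₂) ^ M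
        = 1 := congr(($hpq).1.2)
    refine ⟨p₁, q₁, p₂, q₂, ?_, ?_, ?_, ?_⟩
    · apply Ideal.Quotient.eq.mp
      rw [map_add, map_mul, map_mul, map_pow, map_pow, hp₁, hq₁, hpq1, map_one]
    · apply Ideal.Quotient.eq.mp
      rw [map_add, map_mul, map_mul, map_pow, map_pow, hp₂, hq₂, hpq2, map_one]
    · have := pt.2
      change ρ₁ pt.1.1 = ρ₂ pt.1.2 at this
      rw [← hp₁, ← hp₂] at this
      simp only [ρ₁, ρ₂, Ideal.quotientMap_mk] at this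
      exact Ideal.Quotient.eq.mp this
    · have := qt.2
      change ρ₁ qt.1.1 = ρ₂ qt.1.2 at this
      rw [← hq₁, ← hq₂] at this
      simp only [ρ₁, ρ₂, Ideal.quotientMap_mk] at this
      exact Ideal.Quotient.eq.mp this
  -- Step 2: iteration
  have key : ∀ k : ℕ, 1 ≤ k → ∃ (s₁ : A₁) (s₂ : A₂), s₁ - g₁ ∈ 𝔞₁ ∧ s₂ - g₂ ∈ 𝔞₂ ∧
      algebraMap A₁ A₀ s₁ - algebraMap A₂ A₀ s₂ ∈ 𝔞₀ ^ k := by
    intro k hk
    induction k, hk using Nat.le_induction with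
    | base =>
      exact ⟨g₁, g₂, by simp, by simp, by simpa using hg⟩
    | succ k hk ih =>
      obtain ⟨s₁, s₂, hs₁, hs₂, hc⟩ := ih
      set c := algebraMap A₁ A₀ s₁ - algebraMap A₂ A₀ s₂ with hcdef
      obtain ⟨N₁, e₁', he₁', hec₁'⟩ := exists_ext v₁ 𝔞₁ 𝔞₀ h₁ k c hc
      obtain ⟨N, e₂, hN, he₂, hec₂⟩ := exists_ext_add u₂ 𝔞₂ 𝔞₀ h₂ k c hc N₁
      -- bring `e₁` to exponent `N`
      obtain ⟨e₁, he₁, hec₁⟩ : ∃ e₁ : A₁, e₁ ∈ 𝔞₁ ^ k ∧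
          algebraMap A₁ A₀ e₁ = (algebraMap A₁ A₀ v₁) ^ N * c := by
        refine ⟨v₁ ^ (N - N₁) * e₁', Ideal.mul_mem_left _ _ he₁', ?_⟩
        rw [map_mul, map_pow, hec₁', ← mul_assoc, ← pow_add, Nat.sub_add_cancel hN]
      obtain ⟨p₁, q₁, p₂, q₂, hpq₁, hpq₂, hp, hq⟩ := step0 N
      have he₁𝔞 : e₁ ∈ 𝔞₁ := Ideal.pow_le_self (by omega) he₁
      have he₂𝔞 : e₂ ∈ 𝔞₂ := Ideal.pow_le_self (by omega) he₂
      refine ⟨s₁ - q₁ * e₁, s₂ + p₂ * e₂, ?_, ?_, ?_⟩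
      · have : s₁ - q₁ * e₁ - g₁ = (s₁ - g₁) - q₁ * e₁ := by ring
        rw [this]
        exact Ideal.sub_mem _ hs₁ (Ideal.mul_mem_left _ _ he₁𝔞)
      · have : s₂ + p₂ * e₂ - g₂ = (s₂ - g₂) + p₂ * e₂ := by ring
        rw [this]
        exact Ideal.add_mem _ hs₂ (Ideal.mul_mem_left _ _ he₂𝔞)
      · set r₁ := algebraMap A₁ A₀ with hr₁
        set r₂ := algebraMap A₂ A₀ with hr₂
        have hgoal : r₁ (s₁ - q₁ * e₁) - r₂ (s₂ + p₂ * e₂) =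
            (1 - r₁ q₁ * (r₁ v₁) ^ N - r₂ p₂ * (r₂ u₂) ^ N) * c := by
          rw [map_sub, map_add, map_mul, map_mul, hec₁, hec₂, hcdef]
          ring
        rw [hgoal, pow_succ']
        refine Ideal.mul_mem_mul ?_ hc
        -- `ρ ∈ 𝔞₀`
        have e1 : r₁ (p₁ * u₁ ^ N + q₁ * v₁ ^ N - 1) ∈ 𝔞₀ := hle₁ hpq₁
        have e2 : r₁ p₁ * (r₁ u₁) ^ N - r₂ p₂ * (r₂ u₂) ^ N ∈ 𝔞₀ := by
          apply Ideal.Quotient.eq.mp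
          rw [map_mul, map_mul, map_pow, map_pow, Ideal.Quotient.eq.mpr hp,
            Ideal.Quotient.eq.mpr hu]
        have : 1 - r₁ q₁ * (r₁ v₁) ^ N - r₂ p₂ * (r₂ u₂) ^ N =
            (r₁ p₁ * (r₁ u₁) ^ N - r₂ p₂ * (r₂ u₂) ^ N) -
              r₁ (p₁ * u₁ ^ N + q₁ * v₁ ^ N - 1) := by
          rw [map_sub, map_add, map_mul, map_mul, map_pow, map_pow, map_one]
          ring
        rw [this]
        exact Ideal.sub_mem _ e2 e1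
  obtain ⟨s₁, s₂, hs₁, hs₂, hc⟩ := key (max m 1) (le_max_right _ _)
  refine ⟨s₁, s₂, ?_, hs₁, hs₂⟩
  have := Ideal.pow_le_pow_right (I := 𝔞₀) (le_max_left m 1) hc
  rw [hm] at this
  exact sub_eq_zero.mp this

end Alg

section Geom

open Groth.Agent.H22.ThickAffine

variable {Y₀ Y : Scheme.{u}} (i : Y₀ ⟶ Y)

/-- For an ideal `𝔞₀` of sections over a basic open `O` of an affine open `U` contained in the
kernel, the ideal `𝔞₀.comap res ⊓ ker` of `Γ(U)` extends back to `𝔞₀`. -/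
theorem map_comap_inf_ker [IsClosedImmersion i] {U : Y.Opens} (hU : IsAffineOpen U)
    (η : Γ(Y, U)) (O : Y.Opens) (hO : O = Y.basicOpen η) (hOU : O ≤ U)
    (𝔞₀ : Ideal Γ(Y, O)) (h𝔞₀ : 𝔞₀ ≤ RingHom.ker (i.app O).hom) :
    ((𝔞₀.comap (Y.presheaf.map (homOfLE hOU).op).hom) ⊓ RingHom.ker (i.app U).hom).map
      (Y.presheaf.map (homOfLE hOU).op).hom = 𝔞₀ := by
  apply le_antisymm
  · rw [Ideal.map_le_iff_le_comap]
    exact inf_le_left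
  · intro x hx
    obtain ⟨N, e, he, hex⟩ := exists_extension i hU η O hO hOU 1 x (by simpa using h𝔞₀ hx)
    rw [pow_one] at he
    have hunit : IsUnit (Y.presheaf.map (homOfLE hOU).op η) :=
      isUnit_res_of_le_basicOpen Y η hOU hO.le
    obtain ⟨w, hw⟩ := (hunit.pow N).exists_left_inv
    have hx' : x = w * (Y.presheaf.map (homOfLE hOU).op).hom e := by
      change x = w * Y.presheaf.map (homOfLE hOU).op e
      rw [hex, ← mul_assoc, hw, one_mul]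
    rw [hx']
    refine Ideal.mul_mem_left _ _ (Ideal.mem_map_of_mem _ (Ideal.mem_inf.mpr ⟨?_, he⟩))
    rw [Ideal.mem_comap]
    change Y.presheaf.map (homOfLE hOU).op e ∈ 𝔞₀
    rw [hex]
    exact Ideal.mul_mem_left _ _ hx

theorem exists_lifts_of_two [IsClosedImmersion i] [Surjective i] (W₁ W' : Y.Opens)
    (hW₁ : IsAffineOpen W₁) (hW' : IsAffineOpen W')
    (h₁ h' a b : Γ(Y₀, i ⁻¹ᵁ (W₁ ⊔ W'))) (hab : a * h₁ + b * h' = 1)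
    (e₁ : i ⁻¹ᵁ W₁ = Y₀.basicOpen h₁) (e' : i ⁻¹ᵁ W' = Y₀.basicOpen h') :
    ∃ ta th : Γ(Y, W₁ ⊔ W'), i.app (W₁ ⊔ W') ta = a ∧ i.app (W₁ ⊔ W') th = h₁ := by
  classical
  have hW₁W : W₁ ≤ W₁ ⊔ W' := le_sup_left
  have hW'W : W' ≤ W₁ ⊔ W' := le_sup_right
  have hO₁ : W₁ ⊓ W' ≤ W₁ := inf_le_left
  have hO' : W₁ ⊓ W' ≤ W' := inf_le_right
  have hp₁ : i ⁻¹ᵁ W₁ ≤ i ⁻¹ᵁ (W₁ ⊔ W') := fun _ hx => hW₁W hx
  have hp' : i ⁻¹ᵁ W' ≤ i ⁻¹ᵁ (W₁ ⊔ W') := fun _ hx => hW'W hx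
  have hpO₁ : i ⁻¹ᵁ (W₁ ⊓ W') ≤ i ⁻¹ᵁ W₁ := fun _ hx => hO₁ hx
  have hpO' : i ⁻¹ᵁ (W₁ ⊓ W') ≤ i ⁻¹ᵁ W' := fun _ hx => hO' hx
  obtain ⟨η', hη', hOη'⟩ := exists_lift_basicOpen i hW₁ W' hp₁ h' e'
  obtain ⟨η₁, hη₁, hOη₁⟩ := exists_lift_basicOpen i hW' W₁ hp' h₁ e₁
  have hOη₁' : W₁ ⊓ W' = Y.basicOpen η₁ := by rw [inf_comm]; exact hOη₁
  have hOaff : IsAffineOpen (W₁ ⊓ W') := hOη' ▸ hW₁.basicOpen η'
  set R₁ := (Y.presheaf.map (homOfLE hO₁).op).hom with hR₁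
  set R₂ := (Y.presheaf.map (homOfLE hO').op).hom with hR₂
  letI alg₁ : Algebra Γ(Y, W₁) Γ(Y, W₁ ⊓ W') := R₁.toAlgebra
  letI alg₂ : Algebra Γ(Y, W') Γ(Y, W₁ ⊓ W') := R₂.toAlgebra
  haveI loc₁ : IsLocalization.Away η' Γ(Y, W₁ ⊓ W') :=
    hW₁.isLocalization_of_eq_basicOpen η' (homOfLE hO₁) hOη'
  haveI loc₂ : IsLocalization.Away η₁ Γ(Y, W₁ ⊓ W') :=
    hW'.isLocalization_of_eq_basicOpen η₁ (homOfLE hO') hOη₁'
  set K₁ := RingHom.ker (i.app W₁).hom with hK₁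
  set K₂ := RingHom.ker (i.app W').hom with hK₂
  set K₀ := RingHom.ker (i.app (W₁ ⊓ W')).hom with hK₀
  -- local lifts
  obtain ⟨α₁, hα₁⟩ := i.app_surjective W₁ hW₁ (Y₀.presheaf.map (homOfLE hp₁).op a)
  obtain ⟨β₁, hβ₁⟩ := i.app_surjective W₁ hW₁ (Y₀.presheaf.map (homOfLE hp₁).op b)
  obtain ⟨υ₁, hυ₁⟩ := i.app_surjective W₁ hW₁ (Y₀.presheaf.map (homOfLE hp₁).op h₁)
  obtain ⟨α₂, hα₂⟩ := i.app_surjective W' hW' (Y₀.presheaf.map (homOfLE hp').op a)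
  obtain ⟨β₂, hβ₂⟩ := i.app_surjective W' hW' (Y₀.presheaf.map (homOfLE hp').op b)
  obtain ⟨v₂, hv₂⟩ := i.app_surjective W' hW' (Y₀.presheaf.map (homOfLE hp').op h')
  -- differences of lifts lie in `K₀`
  have hdiff : ∀ (g : Γ(Y₀, i ⁻¹ᵁ (W₁ ⊔ W'))) (x₁ : Γ(Y, W₁)) (x₂ : Γ(Y, W')),
      i.app W₁ x₁ = Y₀.presheaf.map (homOfLE hp₁).op g →
      i.app W' x₂ = Y₀.presheaf.map (homOfLE hp').op g → R₁ x₁ - R₂ x₂ ∈ K₀ := by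
    intro g x₁ x₂ hx₁ hx₂
    rw [hK₀, RingHom.mem_ker, map_sub]
    change i.app _ (Y.presheaf.map (homOfLE hO₁).op x₁) -
      i.app _ (Y.presheaf.map (homOfLE hO').op x₂) = 0
    rw [app_res, app_res, hx₁, hx₂, res_res, res_res, sub_self]
  have hδa := hdiff a α₁ α₂ hα₁ hα₂
  have hδb := hdiff b β₁ β₂ hβ₁ hβ₂
  have hδu := hdiff h₁ υ₁ η₁ hυ₁ hη₁
  have hδv := hdiff h' η' v₂ hη' hv₂
  -- defects
  have hd₁ : α₁ * υ₁ + β₁ * η' - 1 ∈ K₁ := by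
    rw [hK₁, RingHom.mem_ker]
    change i.app W₁ _ = 0
    rw [map_sub, map_add, map_mul, map_mul, map_one, hα₁, hυ₁, hβ₁, hη', ← map_mul, ← map_mul,
      ← map_add, hab, map_one, sub_self]
  have hd₂ : α₂ * η₁ + β₂ * v₂ - 1 ∈ K₂ := by
    rw [hK₂, RingHom.mem_ker]
    change i.app W' _ = 0
    rw [map_sub, map_add, map_mul, map_mul, map_one, hα₂, hη₁, hβ₂, hv₂, ← map_mul, ← map_mul,
      ← map_add, hab, map_one, sub_self]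
  have hR₁K : ∀ x ∈ K₁, R₁ x ∈ K₀ := by
    intro x hx
    rw [hK₀, RingHom.mem_ker]
    change i.app _ (Y.presheaf.map (homOfLE hO₁).op x) = 0
    rw [app_res]
    have : i.app W₁ x = 0 := hx
    rw [this, map_zero]
  have hR₂K : ∀ x ∈ K₂, R₂ x ∈ K₀ := by
    intro x hx
    rw [hK₀, RingHom.mem_ker]
    change i.app _ (Y.presheaf.map (homOfLE hO').op x) = 0
    rw [app_res]
    have : i.app W' x = 0 := hx
    rw [this, map_zero]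
  -- the finitely generated ideal
  let gens : Finset Γ(Y, W₁ ⊓ W') :=
    {R₁ α₁ - R₂ α₂, R₁ β₁ - R₂ β₂, R₁ υ₁ - R₂ η₁, R₁ η' - R₂ v₂,
      R₁ (α₁ * υ₁ + β₁ * η' - 1), R₂ (α₂ * η₁ + β₂ * v₂ - 1)}
  set 𝔞₀ : Ideal Γ(Y, W₁ ⊓ W') := Ideal.span (gens : Set Γ(Y, W₁ ⊓ W')) with h𝔞₀
  have hgens : ∀ x ∈ gens, x ∈ K₀ := by
    intro x hx
    simp only [gens, Finset.mem_insert, Finset.mem_singleton] at hx
    rcases hx with rfl | rfl | rfl | rfl | rfl | rfl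
    · exact hδa
    · exact hδb
    · exact hδu
    · exact hδv
    · exact hR₁K _ hd₁
    · exact hR₂K _ hd₂
  have h𝔞₀K : 𝔞₀ ≤ K₀ := Ideal.span_le.mpr fun x hx => hgens x hx
  have hmem : ∀ x ∈ gens, x ∈ 𝔞₀ := fun x hx => Ideal.subset_span hx
  have hnil : IsNilpotent 𝔞₀ := by
    have hfg : 𝔞₀.FG := ⟨gens, rfl⟩
    rw [hfg.isNilpotent_iff_le_nilradical]
    exact h𝔞₀K.trans (Groth.Agent.H22.ThickCI.ker_le_nilradical i hOaff)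
  obtain ⟨m, hm⟩ := hnil
  set 𝔞₁ : Ideal Γ(Y, W₁) := 𝔞₀.comap R₁ ⊓ K₁ with h𝔞₁
  set 𝔞₂ : Ideal Γ(Y, W') := 𝔞₀.comap R₂ ⊓ K₂ with h𝔞₂
  have hmap₁ : 𝔞₁.map (algebraMap Γ(Y, W₁) Γ(Y, W₁ ⊓ W')) = 𝔞₀ :=
    map_comap_inf_ker i hW₁ η' _ hOη' hO₁ 𝔞₀ h𝔞₀K
  have hmap₂ : 𝔞₂.map (algebraMap Γ(Y, W') Γ(Y, W₁ ⊓ W')) = 𝔞₀ :=
    map_comap_inf_ker i hW' η₁ _ hOη₁' hO' 𝔞₀ h𝔞₀K
  have hd₁' : α₁ * υ₁ + β₁ * η' - 1 ∈ 𝔞₁ :=
    ⟨hmem _ (by simp [gens]), hd₁⟩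
  have hd₂' : α₂ * η₁ + β₂ * v₂ - 1 ∈ 𝔞₂ :=
    ⟨hmem _ (by simp [gens]), hd₂⟩
  have hu' : R₁ υ₁ - R₂ η₁ ∈ 𝔞₀ :=
    hmem _ (by simp [gens])
  have hv' : R₁ η' - R₂ v₂ ∈ 𝔞₀ :=
    hmem _ (by simp [gens])
  have ha' : R₁ α₁ - R₂ α₂ ∈ 𝔞₀ :=
    hmem _ (by simp [gens])
  have hb' : R₁ β₁ - R₂ β₂ ∈ 𝔞₀ :=
    hmem _ (by simp [gens])
  -- general lifting
  have lift : ∀ (g : Γ(Y₀, i ⁻¹ᵁ (W₁ ⊔ W'))) (g₁ : Γ(Y, W₁)) (g₂ : Γ(Y, W')),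
      i.app W₁ g₁ = Y₀.presheaf.map (homOfLE hp₁).op g →
      i.app W' g₂ = Y₀.presheaf.map (homOfLE hp').op g →
      R₁ g₁ - R₂ g₂ ∈ 𝔞₀ →
      ∃ t : Γ(Y, W₁ ⊔ W'), i.app (W₁ ⊔ W') t = g := by
    intro g g₁ g₂ hg₁ hg₂ hg
    obtain ⟨s₁, s₂, hs, hs₁, hs₂⟩ := glue_lift η' η₁ 𝔞₁ 𝔞₂ 𝔞₀ hmap₁ hmap₂ m hm υ₁ v₂ α₁ β₁ α₂ β₂
      hu' hv' ha' hb' hd₁' hd₂' g₁ g₂ hg
    have hs₁' : i.app W₁ s₁ = Y₀.presheaf.map (homOfLE hp₁).op g := by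
      have : i.app W₁ (s₁ - g₁) = 0 := hs₁.2
      rw [map_sub, sub_eq_zero] at this
      rw [this, hg₁]
    have hs₂' : i.app W' s₂ = Y₀.presheaf.map (homOfLE hp').op g := by
      have : i.app W' (s₂ - g₂) = 0 := hs₂.2
      rw [map_sub, sub_eq_zero] at this
      rw [this, hg₂]
    obtain ⟨t, ht₁, ht'⟩ := glue_two Y W₁ W' s₁ s₂ hs
    refine ⟨t, ?_⟩
    refine eq_of_res_two Y₀ hp₁ hp' ?_ _ _ ?_ ?_
    · intro x hx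
      exact hx
    · rw [← app_res i hW₁W, ht₁, hs₁']
    · rw [← app_res i hW'W, ht', hs₂']
  obtain ⟨ta, hta⟩ := lift a α₁ α₂ hα₁ hα₂ ha'
  obtain ⟨th, hth⟩ := lift h₁ υ₁ η₁ hυ₁ hη₁ hu'
  exact ⟨ta, th, hta, hth⟩

theorem isAffineOpen_of_two' [IsClosedImmersion i] [Surjective i]
    (W W₁ W' : Y.Opens)
    (hW : W = W₁ ⊔ W') (hW₁ : IsAffineOpen W₁) (hW' : IsAffineOpen W')
    (h₁ h' : Γ(Y₀, i ⁻¹ᵁ W)) (hcop : IsCoprime h₁ h')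
    (e₁ : i ⁻¹ᵁ W₁ = Y₀.basicOpen h₁) (e' : i ⁻¹ᵁ W' = Y₀.basicOpen h') : IsAffineOpen W := by
  subst hW
  obtain ⟨a, b, hab⟩ := hcop
  obtain ⟨ã, η, hã, hη⟩ := exists_lifts_of_two i W₁ W' hW₁ hW' h₁ h' a b hab e₁ e'
  refine isAffineOpen_of_isAffineOpen_basicOpen (W₁ ⊔ W') {η, 1 - ã * η} ?_ ?_
  · rw [Ideal.eq_top_iff_one]
    have hmem : ã * η + (1 - ã * η) ∈ Ideal.span ({η, 1 - ã * η} : Set Γ(Y, W₁ ⊔ W')) := by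
      refine Ideal.add_mem _ (Ideal.mul_mem_left _ _ (Ideal.subset_span ?_))
        (Ideal.subset_span ?_)
      · exact Set.mem_insert _ _
      · exact Set.mem_insert_of_mem _ rfl
    convert hmem using 1
    ring
  · intro f hf
    rcases hf with rfl | hf
    · have : Y.basicOpen f = W₁ := by
        apply preimage_injective i
        rw [Scheme.preimage_basicOpen, hη, e₁]
      rw [this]
      exact hW₁
    · have hf' : f = 1 - ã * η := hf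
      subst hf'
      have himg : i.app (W₁ ⊔ W') (1 - ã * η) = b * h' := by
        rw [map_sub, map_mul, map_one, hã, hη]
        linear_combination -hab
      have hle : Y.basicOpen (1 - ã * η) ≤ W' := by
        apply preimage_le_imp_le i
        rw [Scheme.preimage_basicOpen, himg, Scheme.basicOpen_mul, e']
        exact inf_le_right
      have : Y.basicOpen (1 - ã * η) =
          Y.basicOpen (Y.presheaf.map (homOfLE (le_sup_right : W' ≤ W₁ ⊔ W')).op (1 - ã * η)) := by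
        rw [Scheme.basicOpen_res]
        exact (inf_eq_right.mpr hle).symm
      rw [this]
      exact hW'.basicOpen _


theorem isAffineOpen_of_cover' [IsClosedImmersion i] [Surjective i] :
    ∀ (m : ℕ) (W : Y.Opens),
      IsAffineOpen (i ⁻¹ᵁ W) →
      ∀ (h a : Fin m → Γ(Y₀, i ⁻¹ᵁ W)), ∑ k, a k * h k = 1 →
      (∀ k, ∃ Wk : Y.Opens, Wk ≤ W ∧ IsAffineOpen Wk ∧ i ⁻¹ᵁ Wk = Y₀.basicOpen (h k)) →
      IsAffineOpen W := by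
  intro m
  induction m with
  | zero =>
    intro W hW₀ h a hsum _
    have h01 : (0 : Γ(Y₀, i ⁻¹ᵁ W)) = 1 := by simpa using hsum
    have hbot : i ⁻¹ᵁ W = ⊥ := by
      rw [← Y₀.basicOpen_one (U := i ⁻¹ᵁ W), ← h01, Scheme.basicOpen_zero]
    have : W = ⊥ := preimage_injective i (by rw [hbot]; rfl)
    rw [this]
    exact isAffineOpen_bot Y
  | succ m ih =>
    intro W hW₀ h a hsum hcov
    rw [Fin.sum_univ_succ] at hsum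
    set h' : Γ(Y₀, i ⁻¹ᵁ W) := ∑ k : Fin m, a k.succ * h k.succ with hh'
    set W' : Y.Opens := imgOpen i (Y₀.basicOpen h') with hW'def
    have e' : i ⁻¹ᵁ W' = Y₀.basicOpen h' := preimage_imgOpen i _
    have hW'W : W' ≤ W := by
      apply preimage_le_imp_le i
      rw [e']
      exact Y₀.basicOpen_le h'
    have hpW' : i ⁻¹ᵁ W' ≤ i ⁻¹ᵁ W := fun _ hx => hW'W hx
    have hW'₀ : IsAffineOpen (i ⁻¹ᵁ W') := by
      rw [e']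
      exact hW₀.basicOpen h'
    -- `h'` restricted to `i⁻¹ W'` is a unit
    have hunit : IsUnit (Y₀.presheaf.map (homOfLE hpW').op h') :=
      isUnit_res_of_le_basicOpen Y₀ h' hpW' e'.le
    obtain ⟨v, hv⟩ := hunit.exists_left_inv
    have hW'aff : IsAffineOpen W' := by
      refine ih W' hW'₀ (fun k => Y₀.presheaf.map (homOfLE hpW').op (h k.succ))
        (fun k => v * Y₀.presheaf.map (homOfLE hpW').op (a k.succ)) ?_ ?_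
      · rw [← hv, hh', map_sum, Finset.mul_sum]
        refine Finset.sum_congr rfl fun k _ => ?_
        rw [map_mul]
        ring
      · intro k
        obtain ⟨Wk, hWkW, hWk, ek⟩ := hcov k.succ
        have hpk : i ⁻¹ᵁ Wk ≤ i ⁻¹ᵁ W := fun _ hx => hWkW hx
        obtain ⟨η, -, hη⟩ := exists_lift_basicOpen i hWk W' hpk h' e'
        refine ⟨Wk ⊓ W', inf_le_right, ?_, ?_⟩
        · rw [hη]
          exact hWk.basicOpen η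
        · rw [Scheme.basicOpen_res, Scheme.Hom.preimage_inf, ek, inf_comm]
    obtain ⟨W₁, hW₁W, hW₁, e₁⟩ := hcov 0
    refine isAffineOpen_of_two' i W W₁ W' ?_ hW₁ hW'aff (h 0) h' ⟨a 0, 1, ?_⟩ e₁ e'
    · apply preimage_injective i
      apply le_antisymm
      · rw [Scheme.Hom.preimage_sup, e₁, e']
        have h1 : i ⁻¹ᵁ W = Y₀.basicOpen (a 0 * h 0 + h') := by
          rw [hsum, Scheme.basicOpen_one]
        refine h1.le.trans ((Y₀.basicOpen_add_le _ _).trans (sup_le_sup_right ?_ _))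
        rw [Scheme.basicOpen_mul]
        exact inf_le_right
      · intro x hx
        rcases hx with hx | hx
        · exact hW₁W hx
        · exact hW'W hx
    · rw [one_mul]
      exact hsum


/-- **Main theorem**: for a surjective closed immersion `i : Y₀ ⟶ Y` whose kernel is nilpotent of
order `n` on every affine open, an open `W` of `Y` is affine as soon as `i⁻¹ W` is. -/
theorem isAffineOpen_of_isAffineOpen_preimage' [IsClosedImmersion i] [Surjective i]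
    (W : Y.Opens)
    (hW₀ : IsAffineOpen (i ⁻¹ᵁ W)) : IsAffineOpen W := by
  let S : Set Γ(Y₀, i ⁻¹ᵁ W) :=
    {f | ∃ Wf : Y.Opens, Wf ≤ W ∧ IsAffineOpen Wf ∧ i ⁻¹ᵁ Wf = Y₀.basicOpen f}
  have hS : Ideal.span S = ⊤ := by
    rw [← hW₀.self_le_iSup_basicOpen_iff]
    intro x hx
    obtain ⟨_, ⟨U, hU, rfl⟩, hxU, hUW⟩ := Y.isBasis_affineOpens.exists_subset_of_mem_open
      (show i x ∈ (W : Set Y) from hx) W.2
    obtain ⟨f, hf₁, hf₂⟩ := hW₀.exists_basicOpen_le (V := i ⁻¹ᵁ U) ⟨x, hxU⟩ hx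
    have hpU : i ⁻¹ᵁ U ≤ i ⁻¹ᵁ W := fun _ hy => hUW hy
    obtain ⟨η, -, hη⟩ := exists_lift_basicOpen i hU (imgOpen i (Y₀.basicOpen f)) hpU f
      (preimage_imgOpen i _)
    refine Opens.mem_iSup.mpr ⟨⟨f, U ⊓ imgOpen i (Y₀.basicOpen f), inf_le_left.trans hUW,
      hη ▸ hU.basicOpen η, ?_⟩, hf₂⟩
    rw [Scheme.Hom.preimage_inf, preimage_imgOpen]
    exact inf_eq_right.mpr hf₁
  obtain ⟨s', hs'S, hs'⟩ := (Ideal.span_eq_top_iff_finite _).mp hS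
  have h1 : (1 : Γ(Y₀, i ⁻¹ᵁ W)) ∈ Ideal.span (s' : Set Γ(Y₀, i ⁻¹ᵁ W)) := by
    rw [hs']; trivial
  obtain ⟨c, -, hc⟩ := Submodule.mem_span_finset.mp h1
  let e := s'.equivFin
  refine isAffineOpen_of_cover' i s'.card W hW₀ (fun k => (e.symm k).1)
    (fun k => c (e.symm k).1) ?_ ?_
  · rw [← hc, ← Finset.sum_coe_sort s' (fun x => c x • x)]
    exact Equiv.sum_comp e.symm (fun x : s' => c x.1 * x.1)
  · intro k
    exact hs'S (e.symm k).2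



/-- **A thickening of an affine scheme is affine** (no nilpotency hypothesis). -/
theorem isAffine_of_thickening [IsClosedImmersion i] [Surjective i] [IsAffine Y₀] : IsAffine Y := by
  have h := isAffineOpen_of_isAffineOpen_preimage' i ⊤ (isAffineOpen_top Y₀)
  haveI : IsAffine ((⊤ : Y.Opens) : Scheme.{u}) := h
  exact IsAffine.of_isIso Y.topIso.inv

end Geom

end Groth.Agent.H22.NilAffine
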