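import Mathlib

/-!
# `Nat.nth` for cofinite subsets of `ℕ` with a conductor (helper22)
-/

set_option autoImplicit false

namespace Groth.Agent.Lib.helper22.NthCofinite

open Classical

variable (S : Set ℕ) (cS : ℕ) (hcS : ∀ n : ℕ, cS ≤ n → n ∈ S)

include hcS

theorem compl_subset : Sᶜ ⊆ Set.Iio cS := by
  intro n hn
  by_contra h
  exact hn (hcS n (by simpa using h))

theorem compl_finite : Sᶜ.Finite := (Set.finite_Iio cS).subset (compl_subset S cS hcS)

theorem infinite : (Set.ofPred (fun m => m ∈ S)).Infinite := by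
  apply Set.infinite_of_not_bddAbove
  rintro ⟨b, hb⟩
  have h1 : max b cS + 1 ∈ Set.ofPred (fun m => m ∈ S) := hcS _ (by omega)
  have := hb h1
  omega

theorem ncard_inter : (S ∩ Set.Iio cS).ncard = ((Finset.range cS).filter (fun m => m ∈ S)).card := by
  rw [← Set.ncard_coe_finset]
  congr 1
  ext n
  simp [and_comm]

theorem ncard_compl : Sᶜ.ncard = ((Finset.range cS).filter (fun m => m ∉ S)).card := by
  rw [← Set.ncard_coe_finset]
  congr 1
  ext n
  simp only [Set.mem_compl_iff, Finset.coe_filter, Finset.mem_range, Set.mem_setOf_eq]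
  constructor
  · intro h; exact ⟨compl_subset S cS hcS h, h⟩
  · rintro ⟨_, h⟩; exact h

theorem count_conductor : Nat.count (fun m => m ∈ S) cS = (S ∩ Set.Iio cS).ncard := by
  rw [Nat.count_eq_card_filter_range, ncard_inter S cS hcS]

theorem conductor_eq : cS = (S ∩ Set.Iio cS).ncard + Sᶜ.ncard := by
  rw [ncard_inter S cS hcS, ncard_compl S cS hcS, Finset.card_filter_add_card_filter_not,
    Finset.card_range]

theorem count_add (k : ℕ) :
    Nat.count (fun m => m ∈ S) (cS + k) = Nat.count (fun m => m ∈ S) cS + k := by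
  induction k with
  | zero => simp
  | succ k ih =>
    rw [← add_assoc, Nat.count_succ, ih, if_pos (hcS _ (by omega))]
    omega

theorem le_count_add_ncard (n : ℕ) : n ≤ Nat.count (fun m => m ∈ S) n + Sᶜ.ncard := by
  rcases le_total n cS with h | h
  · -- n ≤ cS
    have h1 : n = ((Finset.range n).filter (fun m => m ∈ S)).card +
        ((Finset.range n).filter (fun m => m ∉ S)).card := by
      rw [Finset.card_filter_add_card_filter_not, Finset.card_range]
    have h2 : ((Finset.range n).filter (fun m => m ∉ S)).card ≤ Sᶜ.ncard := by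
      rw [ncard_compl S cS hcS]
      apply Finset.card_le_card
      intro m hm
      simp only [Finset.mem_filter, Finset.mem_range] at hm ⊢
      exact ⟨by omega, hm.2⟩
    rw [Nat.count_eq_card_filter_range]
    omega
  · obtain ⟨k, rfl⟩ := Nat.exists_eq_add_of_le h
    rw [count_add S cS hcS, count_conductor S cS hcS]
    have := conductor_eq S cS hcS
    omega

theorem nth_le (i : ℕ) : Nat.nth (fun m => m ∈ S) i ≤ i + Sᶜ.ncard := by
  have h1 := le_count_add_ncard S cS hcS (i + Sᶜ.ncard + 1)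
  have h2 : i < Nat.count (fun m => m ∈ S) (i + Sᶜ.ncard + 1) := by omega
  have := Nat.nth_lt_of_lt_count h2
  omega

theorem nth_eq (i : ℕ) (hi : (S ∩ Set.Iio cS).ncard ≤ i) :
    Nat.nth (fun m => m ∈ S) i = i + Sᶜ.ncard := by
  have hc := conductor_eq S cS hcS
  obtain ⟨k, hk⟩ := Nat.exists_eq_add_of_le hi
  have h1 : i + Sᶜ.ncard = cS + k := by omega
  have h2 : Nat.count (fun m => m ∈ S) (i + Sᶜ.ncard) = i := by
    rw [h1, count_add S cS hcS, count_conductor S cS hcS]; omega
  have h3 : i + Sᶜ.ncard ∈ S := hcS _ (by omega)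
  have := Nat.nth_count (p := fun m => m ∈ S) h3
  rw [h2] at this
  exact this

theorem nth_pred_add_two_le (hc0 : cS ≠ 0) (hc1 : cS - 1 ∉ S) (hr : 1 ≤ (S ∩ Set.Iio cS).ncard) :
    Nat.nth (fun m => m ∈ S) ((S ∩ Set.Iio cS).ncard - 1) + 2 ≤ cS := by
  have h1 : (S ∩ Set.Iio cS).ncard - 1 < Nat.count (fun m => m ∈ S) cS := by
    rw [count_conductor S cS hcS]; omega
  have h2 := Nat.nth_lt_of_lt_count h1
  have h3 : Nat.nth (fun m => m ∈ S) ((S ∩ Set.Iio cS).ncard - 1) ∈ S :=
    Nat.nth_mem_of_infinite (infinite S cS hcS) _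
  have h4 : Nat.nth (fun m => m ∈ S) ((S ∩ Set.Iio cS).ncard - 1) ≠ cS - 1 := by
    intro h; rw [h] at h3; exact hc1 h3
  omega

end Groth.Agent.Lib.helper22.NthCofinite
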