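import Mathlib

/-!
# Closed subspaces of `k⟦X⟧` (helper22)

`mem_of_closed_of_orders`: a `t`-adically closed `k`-subspace `W` of `k⟦X⟧` which contains elements
of every order `n ≥ c` contains every power series of order `≥ c`.
-/

set_option autoImplicit false

namespace Groth.Agent.Lib.helper22.PSClosed

open PowerSeries

variable {k : Type*} [Field k]

/-- Successive approximation. -/
theorem exists_approx (W : Submodule k (PowerSeries k)) (c : ℕ)
    (hc : ∀ n : ℕ, c ≤ n → ∃ b ∈ W, PowerSeries.order b = n)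
    (h : PowerSeries k) (hh : (c : ℕ∞) ≤ PowerSeries.order h) (n : ℕ) :
    ∃ a ∈ W, (c : ℕ∞) ≤ PowerSeries.order a ∧ ∀ i < n, PowerSeries.coeff i (h - a) = 0 := by
  induction n with
  | zero => exact ⟨0, W.zero_mem, by simp, by simp⟩
  | succ n ih =>
    obtain ⟨a, haW, hac, ha⟩ := ih
    have hord : (c : ℕ∞) ≤ PowerSeries.order (h - a) := by
      rw [sub_eq_add_neg]
      refine le_trans ?_ (PowerSeries.min_order_le_order_add _ _)
      rw [PowerSeries.order_neg]
      exact le_min hh hac
    by_cases hn : n < c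
    · refine ⟨a, haW, hac, ?_⟩
      intro i hi
      rcases Nat.lt_succ_iff_lt_or_eq.1 hi with hi | rfl
      · exact ha i hi
      · apply PowerSeries.coeff_of_lt_order
        exact lt_of_lt_of_le (by exact_mod_cast hn) hord
    · push_neg at hn
      obtain ⟨b, hbW, hb⟩ := hc n hn
      have hbn : PowerSeries.coeff n b ≠ 0 := (PowerSeries.order_eq_nat.1 hb).1
      have hblt : ∀ i < n, PowerSeries.coeff i b = 0 := (PowerSeries.order_eq_nat.1 hb).2
      set r := PowerSeries.coeff n (h - a) with hr
      refine ⟨a + (r / PowerSeries.coeff n b) • b, W.add_mem haW (W.smul_mem _ hbW), ?_, ?_⟩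
      · refine le_trans ?_ (PowerSeries.min_order_le_order_add _ _)
        refine le_min hac ?_
        refine le_trans ?_ PowerSeries.le_order_smul
        rw [hb]; exact_mod_cast hn
      · intro i hi
        have : h - (a + (r / PowerSeries.coeff n b) • b) = (h - a) - (r / PowerSeries.coeff n b) • b := by
          abel
        rw [this, map_sub, map_smul, smul_eq_mul]
        rcases Nat.lt_succ_iff_lt_or_eq.1 hi with hi | rfl
        · rw [ha i hi, hblt i hi, mul_zero, sub_zero]
        · rw [← hr, div_mul_cancel₀ _ hbn, sub_self]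

/-- A closed subspace containing elements of all orders `≥ c` contains all series of order `≥ c`. -/
theorem mem_of_closed_of_orders (W : Submodule k (PowerSeries k))
    (hcl : ∀ f : PowerSeries k,
      (∀ n : ℕ, ∃ g ∈ W, (n : ℕ∞) ≤ PowerSeries.order (f - g)) → f ∈ W)
    (c : ℕ) (hc : ∀ n : ℕ, c ≤ n → ∃ b ∈ W, PowerSeries.order b = n)
    (h : PowerSeries k) (hh : (c : ℕ∞) ≤ PowerSeries.order h) : h ∈ W := by
  apply hcl
  intro n
  obtain ⟨a, haW, _, ha⟩ := exists_approx W c hc h hh n
  exact ⟨a, haW, PowerSeries.nat_le_order _ _ ha⟩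

/-- Division in `k⟦X⟧`: if `order u = l` and `l + c ≤ order g` then `g = q * u` with
`c ≤ order q`. -/
theorem exists_mul_eq_of_order_le (u g : PowerSeries k) (l c : ℕ) (hu : PowerSeries.order u = l)
    (hg : ((l + c : ℕ) : ℕ∞) ≤ PowerSeries.order g) :
    ∃ q : PowerSeries k, q * u = g ∧ (c : ℕ∞) ≤ PowerSeries.order q := by
  have hu0 : u ≠ 0 := by
    intro h
    rw [h, PowerSeries.order_zero] at hu
    exact ENat.top_ne_coe l hu
  obtain ⟨w', hw'⟩ := (PowerSeries.isUnit_divided_by_X_pow_order hu0).exists_right_inv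
  have hu' : u = PowerSeries.X ^ l * PowerSeries.divXPowOrder u := by
    conv_lhs => rw [← PowerSeries.X_pow_order_mul_divXPowOrder (f := u), hu]
    simp
  obtain ⟨r, hr⟩ : (PowerSeries.X : PowerSeries k) ^ (l + c) ∣ g := by
    rw [PowerSeries.X_pow_dvd_iff]
    intro m hm
    exact PowerSeries.coeff_of_lt_order m (lt_of_lt_of_le (by exact_mod_cast hm) hg)
  refine ⟨PowerSeries.X ^ c * (r * w'), ?_, ?_⟩
  · rw [hr]
    conv_lhs => rw [hu']
    have : (PowerSeries.X : PowerSeries k) ^ c * (r * w') * (PowerSeries.X ^ l * PowerSeries.divXPowOrder u)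
        = PowerSeries.X ^ (l + c) * r * (PowerSeries.divXPowOrder u * w') := by ring
    rw [this, hw', mul_one]
  · rw [PowerSeries.order_mul, PowerSeries.order_X_pow]
    exact le_self_add

end Groth.Agent.Lib.helper22.PSClosed
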