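import Mathlib
import Groth.Prelude.Def_Frob

/-!
# Perfections of schemes: formal consequences of the universal property
-/

set_option autoImplicit false

namespace Groth.Agent.H22.Perf
open CategoryTheory CategoryTheory.Limits AlgebraicGeometry FrobSch

universe u
variable (p : ℕ) [Fact p.Prime]

/-- uniqueness of perfections -/
theorem exists_iso {X X₁ X₂ : Scheme.{u}} [IsCharP X₁ p] [IsCharP X₂ p]
    (π₁ : X₁ ⟶ X) (π₂ : X₂ ⟶ X) (h₁ : IsPerfection π₁ p) (h₂ : IsPerfection π₂ p) :
    ∃ e : X₁ ≅ X₂, e.hom ≫ π₂ = π₁ := by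
  obtain ⟨a, ha⟩ := (h₂.2 X₁ h₁.1).2 π₁
  obtain ⟨b, hb⟩ := (h₁.2 X₂ h₂.1).2 π₂
  simp only at ha hb
  refine ⟨⟨a, b, ?_, ?_⟩, ha⟩
  · apply (h₁.2 X₁ h₁.1).1
    simp only [Category.assoc, hb, ha, Category.id_comp]
  · apply (h₂.2 X₂ h₂.1).1
    simp only [Category.assoc, hb, ha, Category.id_comp]

/-- The inverse of the Frobenius of a perfect scheme is the identity on points. -/
theorem inv_frob_apply {Y : Scheme.{u}} [IsCharP Y p] (hY : IsPerfect Y p) (y : Y) :
    (inv (frob Y p)) y = y := by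
  haveI := hY
  have h : (inv (frob Y p) ≫ frob Y p) y = y := by
    rw [IsIso.inv_hom_id]; rfl
  rw [Scheme.Hom.comp_apply, frob_apply] at h
  exact h

/-- An open subscheme of a perfect scheme is perfect. -/
theorem isPerfect_of_isOpenImmersion {U Y : Scheme.{u}} [IsCharP U p] [IsCharP Y p]
    (j : U ⟶ Y) [IsOpenImmersion j] (hY : IsPerfect Y p) : IsPerfect U p := by
  haveI := hY
  have hr : Set.range (j ≫ inv (frob Y p)) ⊆ Set.range j := by
    rintro _ ⟨x, rfl⟩
    refine ⟨x, ?_⟩
    rw [Scheme.Hom.comp_apply, inv_frob_apply p hY]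
  let g : U ⟶ U := IsOpenImmersion.lift j (j ≫ inv (frob Y p)) hr
  have hg : g ≫ j = j ≫ inv (frob Y p) := IsOpenImmersion.lift_fac _ _ _
  refine ⟨⟨g, ?_, ?_⟩⟩
  · rw [← cancel_mono j, Category.assoc, hg, ← Category.assoc, frob_comp, Category.assoc,
      IsIso.hom_inv_id, Category.comp_id, Category.id_comp]
  · rw [← cancel_mono j, Category.assoc, frob_comp, ← Category.assoc, hg, Category.assoc,
      IsIso.inv_hom_id, Category.comp_id, Category.id_comp]

/-- The formal part of base change of a perfection. -/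
theorem isPerfection_of_isPullback {X' X U P : Scheme.{u}} [IsCharP X' p] [IsCharP P p]
    (π : X' ⟶ X) (hπ : IsPerfection π p) (j : U ⟶ X) (fst : P ⟶ X') (snd : P ⟶ U)
    (sq : IsPullback fst snd π j) (hP : IsPerfect P p) : IsPerfection snd p := by
  refine ⟨hP, fun Y _ hY => ⟨?_, ?_⟩⟩
  · intro a b hab
    simp only at hab
    apply sq.hom_ext _ hab
    apply (hπ.2 Y hY).1
    simp only [Category.assoc, sq.w]
    rw [← Category.assoc, hab, Category.assoc]
  · intro g
    obtain ⟨h, hh⟩ := (hπ.2 Y hY).2 (g ≫ j)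
    simp only at hh
    exact ⟨sq.lift h g hh, sq.lift_snd _ _ _⟩

/-- Base change of a perfection along an open immersion is a perfection. -/
theorem isPerfection_of_isPullback_of_isOpenImmersion {X' X U P : Scheme.{u}} [IsCharP X' p]
    [IsCharP P p] (π : X' ⟶ X) (hπ : IsPerfection π p) (j : U ⟶ X) [IsOpenImmersion j]
    (fst : P ⟶ X') (snd : P ⟶ U) (sq : IsPullback fst snd π j) : IsPerfection snd p := by
  haveI : IsOpenImmersion fst := MorphismProperty.of_isPullback sq.flip inferInstance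
  exact isPerfection_of_isPullback p π hπ j fst snd sq
    (isPerfect_of_isOpenImmersion p fst hπ.1)

end Groth.Agent.H22.Perf
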