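import Mathlib
import Groth.Agent.Lib.helper22.PerfBasic

/-!
# The affine model of the perfection: `Spec (PerfectClosure R p) ⟶ Spec R`
-/

set_option autoImplicit false

namespace Groth.Agent.H22.Perf
open CategoryTheory CategoryTheory.Limits AlgebraicGeometry FrobSch

universe u
variable (p : ℕ) [Fact p.Prime]

/-- Every morphism to `Spec R` is determined by the ring map to global sections. -/
theorem eq_toSpecΓ_comp {Y : Scheme.{u}} {R : CommRingCat.{u}} (g : Y ⟶ Spec R) :
    g = Y.toSpecΓ ≫ Spec.map ((Scheme.ΓSpecIso R).inv ≫ g.appTop) := by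
  rw [Spec.map_comp, ← Category.assoc, ← Scheme.toSpecΓ_naturality, Category.assoc,
    toSpecΓ_SpecMap_ΓSpecIso_inv, Category.comp_id]

theorem frob_Spec (S : Type u) [CommRing S] [CharP S p] :
    frob (Spec (CommRingCat.of S)) p = Spec.map (CommRingCat.ofHom (frobenius S p)) := by
  apply ext_of_isAffine
  rw [← cancel_mono (Scheme.ΓSpecIso _).hom, Scheme.ΓSpecIso_naturality]
  ext s
  simp only [CommRingCat.hom_comp, RingHom.coe_comp, Function.comp_apply, CommRingCat.hom_ofHom]
  rw [frob_appTop, map_pow]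
  rfl

theorem isPerfect_Spec (S : Type u) [CommRing S] [CharP S p] [PerfectRing S p] :
    IsPerfect (Spec (CommRingCat.of S)) p := by
  unfold IsPerfect
  rw [frob_Spec]
  haveI : IsIso (CommRingCat.ofHom (frobenius S p)) :=
    (ConcreteCategory.isIso_iff_bijective _).2 (bijective_frobenius S p)
  infer_instance

/-- The `p`-power map on global sections of a perfect scheme is bijective. -/
theorem bijective_pow_of_isPerfect {Y : Scheme.{u}} [IsCharP Y p] (hY : IsPerfect Y p) :
    Function.Bijective (fun s : Γ(Y, ⊤) => s ^ p) := by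
  haveI := hY
  have h : IsIso (frob Y p).appTop := inferInstanceAs (IsIso ((frob Y p).app ⊤))
  have := (ConcreteCategory.isIso_iff_bijective _).1 h
  exact this

/-- `Spec (PerfectClosure R p) ⟶ Spec R` is a perfection. -/
theorem isPerfection_Spec (R : Type u) [CommRing R] [CharP R p] :
    IsPerfection (Spec.map (CommRingCat.ofHom (PerfectClosure.of R p))) p := by
  refine ⟨isPerfect_Spec p _, fun Y _ hY => ?_⟩
  rcases isEmpty_or_nonempty Y with hE | hN
  · have huniq : ∀ (Z : Scheme.{u}) (a b : Y ⟶ Z), a = b :=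
      fun Z a b => (isInitialOfIsEmpty (X := Y)).hom_ext a b
    exact ⟨fun a b _ => huniq _ a b, fun g => ⟨(isInitialOfIsEmpty (X := Y)).to _, huniq _ _ _⟩⟩
  · haveI : Nonempty (⊤ : Y.Opens) := ⟨⟨hN.some, trivial⟩⟩
    haveI : Nontrivial Γ(Y, ⊤) := Scheme.component_nontrivial Y ⊤
    haveI : CharP Γ(Y, ⊤) p :=
      (CharP.charP_iff_prime_eq_zero Fact.out).2 IsCharP.natCast_eq_zero
    haveI : PerfectRing Γ(Y, ⊤) p := ⟨bijective_pow_of_isPerfect p hY⟩
    constructor
    · intro a b hab
      simp only at hab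
      apply ext_of_isAffine
      have h1 := congrArg Scheme.Hom.appTop hab
      rw [Scheme.Hom.comp_appTop, Scheme.Hom.comp_appTop] at h1
      have h2 : (Scheme.ΓSpecIso (CommRingCat.of R)).inv ≫
          (Spec.map (CommRingCat.ofHom (PerfectClosure.of R p))).appTop ≫ a.appTop =
          (Scheme.ΓSpecIso (CommRingCat.of R)).inv ≫
          (Spec.map (CommRingCat.ofHom (PerfectClosure.of R p))).appTop ≫ b.appTop := by
        rw [h1]
      rw [← Scheme.ΓSpecIso_inv_naturality_assoc, ← Scheme.ΓSpecIso_inv_naturality_assoc] at h2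
      have h3 : ((Scheme.ΓSpecIso (CommRingCat.of (PerfectClosure R p))).inv ≫ a.appTop).hom =
          ((Scheme.ΓSpecIso (CommRingCat.of (PerfectClosure R p))).inv ≫ b.appTop).hom := by
        apply (PerfectClosure.lift R p Γ(Y, ⊤)).symm.injective
        have := congrArg CommRingCat.Hom.hom h2
        exact this
      have h4 : (Scheme.ΓSpecIso (CommRingCat.of (PerfectClosure R p))).inv ≫ a.appTop =
          (Scheme.ΓSpecIso (CommRingCat.of (PerfectClosure R p))).inv ≫ b.appTop :=
        CommRingCat.hom_ext h3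
      exact (cancel_epi _).mp h4
    · intro g
      let φ : R →+* Γ(Y, ⊤) := ((Scheme.ΓSpecIso (CommRingCat.of R)).inv ≫ g.appTop).hom
      let ψ : PerfectClosure R p →+* Γ(Y, ⊤) := PerfectClosure.lift R p Γ(Y, ⊤) φ
      have hψ : ψ.comp (PerfectClosure.of R p) = φ :=
        (PerfectClosure.lift R p Γ(Y, ⊤)).symm_apply_apply φ
      refine ⟨Y.toSpecΓ ≫ Spec.map (CommRingCat.ofHom ψ), ?_⟩
      simp only
      rw [Category.assoc, ← Spec.map_comp, ← CommRingCat.ofHom_comp, hψ]
      exact (eq_toSpecΓ_comp g).symm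

end Groth.Agent.H22.Perf
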