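import Mathlib
import Groth.Agent.S3176
import Groth.Agent.Lib.helper22.PerfBasic

/-!
# A scheme étale over a perfect scheme is perfect
-/

set_option autoImplicit false

namespace Groth.Agent.H22.Perf
open CategoryTheory CategoryTheory.Limits AlgebraicGeometry FrobSch TensorProduct

universe u
variable (p : ℕ) [Fact p.Prime]

theorem bijective_frobenius_of_etale {A B : Type u} [CommRing A] [CommRing B]
    [CharP A p] [CharP B p] [Algebra A B] [Algebra.Etale A B]
    (hA : Function.Bijective (frobenius A p)) :
    Function.Bijective (frobenius B p) := by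
  have hrel : Function.Bijective (FrobAlg.relFrob p A B) :=
    (Groth.Agent.S3176.result p A B).1 inferInstance
  have hinc : Function.Bijective
      (Algebra.TensorProduct.includeLeft : B →ₐ[A] B ⊗[A] FrobAlg.Twist p A) := by
    apply Algebra.TensorProduct.includeLeft_bijective
    exact hA
  have : (frobenius B p : B → B) = (FrobAlg.relFrob p A B) ∘
      (Algebra.TensorProduct.includeLeft : B →ₐ[A] B ⊗[A] FrobAlg.Twist p A) := by
    funext b
    simp only [Function.comp_apply, Algebra.TensorProduct.includeLeft_apply]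
    unfold FrobAlg.relFrob
    simp only [RingHom.coe_comp, Function.comp_apply, AlgHom.toRingHom_eq_coe, RingHom.coe_coe,
      Algebra.TensorProduct.lift_tmul, map_one, mul_one]
    rfl
  rw [this]
  exact hrel.comp hinc

/-- ring-level, allowing trivial rings -/
theorem bijective_pow_of_etale {A B : Type u} [CommRing A] [CommRing B] (φ : A →+* B)
    (hφ : φ.Etale) (hpA : (p : A) = 0) (hA : Function.Bijective (fun a : A => a ^ p)) :
    Function.Bijective (fun b : B => b ^ p) := by
  rcases subsingleton_or_nontrivial B with hs | hn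
  · exact ⟨fun a b _ => Subsingleton.elim a b, fun b => ⟨b, Subsingleton.elim _ _⟩⟩
  · haveI : Nontrivial A := φ.domain_nontrivial
    haveI : CharP A p := (CharP.charP_iff_prime_eq_zero Fact.out).2 hpA
    haveI : CharP B p := (CharP.charP_iff_prime_eq_zero Fact.out).2 (by
      have := congrArg φ hpA
      rwa [map_natCast, map_zero] at this)
    letI := φ.toAlgebra
    haveI : Algebra.Etale A B := hφ
    exact bijective_frobenius_of_etale p (A := A) (B := B) hA

theorem bijective_pow_app {Y : Scheme.{u}} [IsCharP Y p] (hY : IsPerfect Y p) (U : Y.Opens) :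
    Function.Bijective (fun s : Γ(Y, U) => s ^ p) := by
  haveI := hY
  have h : IsIso ((frob Y p).app U) := inferInstance
  exact (ConcreteCategory.isIso_iff_bijective _).1 h

theorem isPerfect_of_etale {P Y : Scheme.{u}} [IsCharP P p] [IsCharP Y p] (g : P ⟶ Y)
    [Etale g] (hY : IsPerfect Y p) : IsPerfect P p := by
  -- good affine opens
  let ι := { V : P.affineOpens // ∃ U' : Y.affineOpens, (V : P.Opens) ≤ g ⁻¹ᵁ (U' : Y.Opens) }
  have hcover : ⨆ i : ι, ((i.1 : P.affineOpens) : P.Opens) = ⊤ := by
    rw [eq_top_iff]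
    rintro x -
    obtain ⟨_, ⟨U, hU : IsAffineOpen U, rfl⟩, hyU, -⟩ :=
      Y.isBasis_affineOpens.exists_subset_of_mem_open (Set.mem_univ (g x)) isOpen_univ
    obtain ⟨_, ⟨V, hV : IsAffineOpen V, rfl⟩, hxV, hVU⟩ :=
      P.isBasis_affineOpens.exists_subset_of_mem_open (show x ∈ (g ⁻¹ᵁ U : Set P) from hyU)
        (g ⁻¹ᵁ U).isOpen
    simp only [TopologicalSpace.Opens.mem_iSup]
    exact ⟨⟨⟨V, hV⟩, ⟨U, hU⟩, hVU⟩, hxV⟩
  have hbij : ∀ i : ι, ∀ W : P.Opens, W = ((i.1 : P.affineOpens) : P.Opens) →
      Function.Bijective (fun s : Γ(P, W) => s ^ p) := by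
    rintro ⟨V, U', hVU⟩ W rfl
    exact bijective_pow_of_etale p (g.appLE U' V hVU).hom (g.etale_appLE U'.2 V.2 hVU)
      (natCast_eq_zero_app Y p U') (bijective_pow_app p hY U')
  have hiso : (MorphismProperty.isomorphisms Scheme.{u}) (frob P p) := by
    rw [HasAffineProperty.iff_of_iSup_eq_top (P := MorphismProperty.isomorphisms Scheme.{u})
      (fun i : ι => i.1) hcover]
    intro i
    refine ⟨i.1.2, ?_⟩
    rw [morphismRestrict_appTop]
    refine @IsIso.comp_isIso _ _ _ _ _ _ _ ?_ ?_
    · rw [ConcreteCategory.isIso_iff_bijective]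
      exact hbij i _ (Scheme.Opens.ι_image_top _)
    · have aux : ∀ (A B : P.Opens) (h : A = B), IsIso (P.presheaf.map (eqToHom h).op) := by
        intro A B h
        subst h
        simp only [eqToHom_refl, op_id, CategoryTheory.Functor.map_id]
        infer_instance
      exact aux _ _ _
  exact hiso

end Groth.Agent.H22.Perf
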