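import Mathlib
import Groth.Agent.Lib.helper22.PerfAffine
import Groth.Agent.Lib.helper11.UHRing

/-!
# A perfection is a universal homeomorphism and affine
-/

set_option autoImplicit false

namespace Groth.Agent.H22.Perf
open CategoryTheory CategoryTheory.Limits AlgebraicGeometry FrobSch

universe u
variable (p : ℕ) [Fact p.Prime]

section ring
variable (R : Type u) [CommRing R] [CharP R p]

theorem mk_pow_eq_of (n : ℕ) (x : R) :
    (PerfectClosure.mk R p (n, x)) ^ (p ^ n) = PerfectClosure.of R p x := by
  rw [← iterate_frobenius, PerfectClosure.iterate_frobenius_mk]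

theorem of_eq_zero_iff (x : R) : PerfectClosure.of R p x = 0 ↔ ∃ n : ℕ, x ^ (p ^ n) = 0 := by
  rw [PerfectClosure.of_apply, PerfectClosure.zero_def, PerfectClosure.mk_eq_iff]
  simp only [zero_add]
  constructor
  · rintro ⟨z, hz⟩
    refine ⟨z, ?_⟩
    rw [iterate_frobenius, iterate_frobenius, zero_pow (pow_ne_zero _ (Fact.out : p.Prime).ne_zero)]
      at hz
    exact hz
  · rintro ⟨n, hn⟩
    refine ⟨n, ?_⟩
    rw [iterate_frobenius, iterate_frobenius, hn,
      zero_pow (pow_ne_zero _ (Fact.out : p.Prime).ne_zero)]

theorem uh_of : Groth.Agent.Lib.helper11.UHRing.UH (PerfectClosure.of R p) := by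
  rw [Groth.Agent.Lib.helper11.UHRing.uh_iff]
  refine ⟨?_, ?_, ?_⟩
  · intro y
    induction y using PerfectClosure.induction_on with
    | _ x =>
      obtain ⟨n, x⟩ := x
      letI := (PerfectClosure.of R p).toAlgebra
      have h1 : IsIntegral R ((PerfectClosure.mk R p (n, x)) ^ (p ^ n)) := by
        rw [mk_pow_eq_of]
        exact isIntegral_algebraMap
      exact IsIntegral.of_pow (pow_pos (Fact.out : p.Prime).pos n) h1
  · intro K _ σ τ hστ
    haveI : CharP K p := by
      rw [CharP.charP_iff_prime_eq_zero Fact.out]
      have : σ ((p : PerfectClosure R p)) = 0 := by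
        rw [CharP.cast_eq_zero, map_zero]
      rwa [map_natCast] at this
    ext y
    induction y using PerfectClosure.induction_on with
    | _ x =>
      obtain ⟨n, x⟩ := x
      apply iterateFrobenius_inj K p n
      rw [iterateFrobenius_def, iterateFrobenius_def, ← map_pow, ← map_pow, mk_pow_eq_of]
      exact RingHom.congr_fun hστ x
  · intro a ha
    obtain ⟨n, hn⟩ := (of_eq_zero_iff p R a).1 ha
    exact ⟨p ^ n, hn⟩

end ring

/-- A property local at the target holds for all morphisms with empty target. -/
theorem of_isEmpty_target (P : MorphismProperty Scheme.{u}) [IsZariskiLocalAtTarget P]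
    {X Y : Scheme.{u}} (f : X ⟶ Y) [IsEmpty Y] : P f := by
  refine IsZariskiLocalAtTarget.of_iSup_eq_top (P := P) (ι := PEmpty.{1}) (fun i => i.elim) ?_
    (fun i => i.elim)
  rw [iSup_of_empty]
  ext x
  exact (IsEmpty.false x).elim

theorem charP_of_isCharP_Spec (R : CommRingCat.{u}) [Nontrivial R] [IsCharP (Spec R) p] :
    CharP R p := by
  rw [CharP.charP_iff_prime_eq_zero Fact.out]
  have h := congrArg (Scheme.ΓSpecIso R).hom.hom (IsCharP.natCast_eq_zero (X := Spec R) (p := p))
  rwa [map_natCast, map_zero] at h

/-- base change of a perfection to an affine open is the affine model -/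
theorem exists_iso_model {X' X : Scheme.{u}} [IsCharP X' p] (π : X' ⟶ X)
    (hπ : IsPerfection π p) (R : CommRingCat.{u}) [CharP R p] (j : Spec R ⟶ X)
    [IsOpenImmersion j] :
    ∃ e : pullback π j ≅ Spec (CommRingCat.of (PerfectClosure R p)),
      e.hom ≫ Spec.map (CommRingCat.ofHom (PerfectClosure.of R p)) = pullback.snd π j := by
  haveI : IsCharP (pullback π j) p := IsCharP.of_hom (pullback.fst π j) p
  have hperf : IsPerfection (pullback.snd π j) p :=
    isPerfection_of_isPullback_of_isOpenImmersion p π hπ j _ _ (IsPullback.of_hasPullback _ _)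
  exact exists_iso p (pullback.snd π j) (Spec.map (CommRingCat.ofHom (PerfectClosure.of R p)))
    hperf (isPerfection_Spec p R)

theorem perfection_induction_aux (P : MorphismProperty Scheme.{u}) [IsZariskiLocalAtTarget P]
    (hP : ∀ (R : Type u) [CommRing R] [CharP R p],
      P (Spec.map (CommRingCat.ofHom (PerfectClosure.of R p))))
    {X' X : Scheme.{u}} [IsCharP X p] [IsCharP X' p] (π : X' ⟶ X) (hπ : IsPerfection π p)
    (R : CommRingCat.{u}) (j : Spec R ⟶ X) [IsOpenImmersion j] : P (pullback.snd π j) := by
  rcases subsingleton_or_nontrivial R with hs | hn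
  · haveI : IsEmpty (Spec R) := by
      change IsEmpty (PrimeSpectrum R)
      infer_instance
    exact of_isEmpty_target P _
  · haveI : IsCharP (Spec R) p := IsCharP.of_hom j p
    haveI : CharP R p := charP_of_isCharP_Spec p R
    obtain ⟨e, he⟩ := exists_iso_model p π hπ R j
    rw [← he]
    exact (P.cancel_left_of_respectsIso _ _).mpr (hP R)

/-- To prove a property local at the target for all perfections, it suffices to treat
the affine models. -/
theorem perfection_induction (P : MorphismProperty Scheme.{u}) [IsZariskiLocalAtTarget P]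
    (hP : ∀ (R : Type u) [CommRing R] [CharP R p],
      P (Spec.map (CommRingCat.ofHom (PerfectClosure.of R p))))
    {X' X : Scheme.{u}} [IsCharP X p] [IsCharP X' p] (π : X' ⟶ X) (hπ : IsPerfection π p) :
    P π := by
  rw [IsZariskiLocalAtTarget.iff_of_openCover (P := P) X.affineOpenCover.openCover]
  intro i
  haveI : IsOpenImmersion (X.affineOpenCover.f i) := X.affineOpenCover.map_prop i
  exact perfection_induction_aux p P hP π hπ (X.affineOpenCover.X i) (X.affineOpenCover.f i)

section consequences
variable {X' X : Scheme.{u}} [IsCharP X p] [IsCharP X' p] (π : X' ⟶ X) (hπ : IsPerfection π p)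
include hπ

theorem universallyClosed : UniversallyClosed π :=
  perfection_induction p @UniversallyClosed
    (fun R _ _ => ((Groth.Agent.Lib.helper11.UnivHomeo.isUnivHomeo_iff _).1 (uh_of p R)).1) π hπ

theorem universallyInjective : UniversallyInjective π :=
  perfection_induction p @UniversallyInjective
    (fun R _ _ => ((Groth.Agent.Lib.helper11.UnivHomeo.isUnivHomeo_iff _).1 (uh_of p R)).2.1) π hπ

theorem surjective : Surjective π :=
  perfection_induction p @Surjective
    (fun R _ _ => ((Groth.Agent.Lib.helper11.UnivHomeo.isUnivHomeo_iff _).1 (uh_of p R)).2.2) π hπ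

theorem isUnivHomeo : FlatMor.IsUnivHomeo π :=
  (Groth.Agent.Lib.helper11.UnivHomeo.isUnivHomeo_iff _).2
    ⟨universallyClosed p π hπ, universallyInjective p π hπ, surjective p π hπ⟩

theorem isAffineHom : IsAffineHom π :=
  perfection_induction p @IsAffineHom (fun R _ _ => inferInstance) π hπ

theorem isHomeomorph : IsHomeomorph π :=
  isUnivHomeo p π hπ _ _ _ IsPullback.of_id_snd

end consequences

end Groth.Agent.H22.Perf
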