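import Mathlib
import Groth.Agent.Lib.helper22.PerfUH

/-!
# Local model of the perfection of a morphism
-/

set_option autoImplicit false

namespace Groth.Agent.H22.Perf
open CategoryTheory CategoryTheory.Limits AlgebraicGeometry FrobSch

universe u
variable (p : ℕ) [Fact p.Prime]

section ring
variable {A B : Type u} [CommRing A] [CommRing B] [CharP A p] [CharP B p] (φ : A →+* B)

/-- functoriality of the perfect closure -/
noncomputable def perfMap : PerfectClosure A p →+* PerfectClosure B p :=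
  PerfectClosure.lift A p (PerfectClosure B p) ((PerfectClosure.of B p).comp φ)

theorem perfMap_comp_of :
    (perfMap p φ).comp (PerfectClosure.of A p) = (PerfectClosure.of B p).comp φ :=
  (PerfectClosure.lift A p (PerfectClosure B p)).symm_apply_apply _

theorem perfMap_of (x : A) : perfMap p φ (PerfectClosure.of A p x) = PerfectClosure.of B p (φ x) :=
  RingHom.congr_fun (perfMap_comp_of p φ) x

theorem perfMap_mk (n : ℕ) (x : A) :
    perfMap p φ (PerfectClosure.mk A p (n, x)) = PerfectClosure.mk B p (n, φ x) := by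
  apply iterateFrobenius_inj (PerfectClosure B p) p n
  rw [iterateFrobenius_def, iterateFrobenius_def, ← map_pow, mk_pow_eq_of, mk_pow_eq_of,
    perfMap_of]

end ring

section charP

theorem charP_of_mem {X : Scheme.{u}} [IsCharP X p] (V : X.Opens) (x : X) (hx : x ∈ V) :
    CharP Γ(X, V) p := by
  haveI : Nonempty V := ⟨⟨x, hx⟩⟩
  haveI : Nontrivial Γ(X, V) := Scheme.component_nontrivial X V
  exact (CharP.charP_iff_prime_eq_zero Fact.out).2 (natCast_eq_zero_app X p V)

end charP

section local_model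

variable {X Y XP YP : Scheme.{u}} [IsCharP XP p] [IsCharP YP p]
  (πX : XP ⟶ X) (πY : YP ⟶ Y) (hX : IsPerfection πX p) (hY : IsPerfection πY p)
  (f : X ⟶ Y) (fP : XP ⟶ YP) (w : fP ≫ πY = πX ≫ f)
include hX hY w

theorem local_model {U : Y.Opens} {V : X.Opens} (hU : IsAffineOpen U) (hV : IsAffineOpen V)
    (e : V ≤ f ⁻¹ᵁ U) [CharP Γ(Y, U) p] [CharP Γ(X, V) p] :
    ∃ (W Z : Scheme.{u}) (j : W ⟶ XP) (k : Z ⟶ YP) (_ : IsOpenImmersion j)
      (_ : IsOpenImmersion k)
      (eW : W ≅ Spec (CommRingCat.of (PerfectClosure Γ(X, V) p)))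
      (eZ : Z ≅ Spec (CommRingCat.of (PerfectClosure Γ(Y, U) p))),
      Set.range j = πX ⁻¹' V ∧ Set.range k = πY ⁻¹' U ∧
      j ≫ fP = eW.hom ≫
        Spec.map (CommRingCat.ofHom (perfMap p (f.appLE U V e).hom)) ≫ eZ.inv ≫ k := by
  have hsq : Spec.map (f.appLE U V e) ≫ hU.fromSpec = hV.fromSpec ≫ f :=
    IsAffineOpen.SpecMap_appLE_fromSpec f hU hV e
  obtain ⟨eW, heW⟩ := exists_iso_model p πX hX Γ(X, V) hV.fromSpec
  obtain ⟨eZ, heZ⟩ := exists_iso_model p πY hY Γ(Y, U) hU.fromSpec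
  refine ⟨pullback πX hV.fromSpec, pullback πY hU.fromSpec, pullback.fst _ _, pullback.fst _ _,
    inferInstance, inferInstance, eW, eZ, ?_, ?_, ?_⟩
  · rw [IsOpenImmersion.range_pullbackFst]
    change πX ⁻¹' (Set.range hV.fromSpec) = _
    rw [hV.range_fromSpec]
  · rw [IsOpenImmersion.range_pullbackFst]
    change πY ⁻¹' (Set.range hU.fromSpec) = _
    rw [hU.range_fromSpec]
  · let m := pullback.map πX hV.fromSpec πY hU.fromSpec fP (Spec.map (f.appLE U V e)) f
      w.symm hsq.symm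
    have hm : pullback.fst πX hV.fromSpec ≫ fP = m ≫ pullback.fst πY hU.fromSpec :=
      (pullback.lift_fst _ _ _).symm
    have hm2 : m ≫ pullback.snd πY hU.fromSpec =
        pullback.snd πX hV.fromSpec ≫ Spec.map (f.appLE U V e) := pullback.lift_snd _ _ _
    haveI : IsCharP (pullback πX hV.fromSpec) p := IsCharP.of_hom (pullback.fst _ _) p
    haveI : IsCharP (pullback πY hU.fromSpec) p := IsCharP.of_hom (pullback.fst _ _) p
    have hperfZ : IsPerfection (pullback.snd πY hU.fromSpec) p :=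
      isPerfection_of_isPullback_of_isOpenImmersion p πY hY hU.fromSpec _ _
        (IsPullback.of_hasPullback _ _)
    have hperfW : IsPerfect (pullback πX hV.fromSpec) p :=
      isPerfect_of_isOpenImmersion p (pullback.fst πX hV.fromSpec) hX.1
    have key : m = eW.hom ≫
        Spec.map (CommRingCat.ofHom (perfMap p (f.appLE U V e).hom)) ≫ eZ.inv := by
      apply (hperfZ.2 _ hperfW).1
      simp only [Category.assoc]
      rw [hm2, ← heZ, Iso.inv_hom_id_assoc, ← Spec.map_comp, ← CommRingCat.ofHom_comp,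
        perfMap_comp_of, ← heW, Category.assoc, ← Spec.map_comp]
      rfl
    rw [hm, key]
    simp only [Category.assoc]

end local_model

/-- pointwise criterion for properties local at the source -/
theorem of_forall_exists_source {P : MorphismProperty Scheme.{u}} [IsZariskiLocalAtSource P]
    {X Y : Scheme.{u}} (f : X ⟶ Y)
    (H : ∀ x : X, ∃ (W : Scheme.{u}) (j : W ⟶ X) (_ : IsOpenImmersion j),
      x ∈ Set.range j ∧ P (j ≫ f)) : P f := by
  choose W j hj hx hP using H
  refine IsZariskiLocalAtSource.of_iSup_eq_top (fun x => (j x).opensRange) ?_ (fun x => ?_)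
  · rw [eq_top_iff]
    rintro x -
    simp only [TopologicalSpace.Opens.mem_iSup]
    exact ⟨x, hx x⟩
  · rw [← IsOpenImmersion.isoOfRangeEq_inv_fac (j x) (Scheme.Opens.ι _)
      (congr_arg TopologicalSpace.Opens.carrier (j x).opensRange.opensRange_ι.symm),
      Category.assoc, P.cancel_left_of_respectsIso]
    exact hP x

/-- existence of the local model around a point -/
theorem exists_local_model {X Y XP YP : Scheme.{u}} [IsCharP X p] [IsCharP Y p] [IsCharP XP p]
    [IsCharP YP p]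
    (πX : XP ⟶ X) (πY : YP ⟶ Y) (hX : IsPerfection πX p) (hY : IsPerfection πY p)
    (f : X ⟶ Y) (fP : XP ⟶ YP) (w : fP ≫ πY = πX ≫ f) (x' : XP) :
    ∃ (U : Y.affineOpens) (V : X.affineOpens) (e : (V : X.Opens) ≤ f ⁻¹ᵁ (U : Y.Opens))
      (_ : CharP Γ(Y, (U : Y.Opens)) p) (_ : CharP Γ(X, (V : X.Opens)) p)
      (W Z : Scheme.{u}) (j : W ⟶ XP) (k : Z ⟶ YP) (_ : IsOpenImmersion j)
      (_ : IsOpenImmersion k)
      (eW : W ≅ Spec (CommRingCat.of (PerfectClosure Γ(X, (V : X.Opens)) p)))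
      (eZ : Z ≅ Spec (CommRingCat.of (PerfectClosure Γ(Y, (U : Y.Opens)) p))),
      x' ∈ Set.range j ∧
      j ≫ fP = eW.hom ≫
        Spec.map (CommRingCat.ofHom (perfMap p (f.appLE U V e).hom)) ≫ eZ.inv ≫ k := by
  obtain ⟨_, ⟨U, hU : IsAffineOpen U, rfl⟩, hyU, -⟩ :=
    Y.isBasis_affineOpens.exists_subset_of_mem_open (Set.mem_univ (f (πX x'))) isOpen_univ
  obtain ⟨_, ⟨V, hV : IsAffineOpen V, rfl⟩, hxV, hVU⟩ :=
    X.isBasis_affineOpens.exists_subset_of_mem_open (show πX x' ∈ (f ⁻¹ᵁ U : Set X) from hyU)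
      (f ⁻¹ᵁ U).isOpen
  haveI : CharP Γ(Y, U) p := charP_of_mem p U _ hyU
  haveI : CharP Γ(X, V) p := charP_of_mem p V _ hxV
  obtain ⟨W, Z, j, k, hj, hk, eW, eZ, hrj, -, hcomp⟩ :=
    local_model p πX πY hX hY f fP w hU hV hVU
  refine ⟨⟨U, hU⟩, ⟨V, hV⟩, hVU, inferInstance, inferInstance, W, Z, j, k, hj, hk, eW, eZ, ?_,
    hcomp⟩
  rw [hrj]
  exact hxV

end Groth.Agent.H22.Perf
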