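import Mathlib
import Groth.Agent.Lib.helper22.PerfLocal

/-!
# Ring-level properties of the perfect closure functor
-/

set_option autoImplicit false

namespace Groth.Agent.H22.Perf

universe u
variable (p : ℕ) [Fact p.Prime]

section rho
variable (R : Type u) [CommRing R] [CharP R p]

/-- `x ↦ x^{1/p^n}`, as a ring hom `R → R_perf` -/
noncomputable def rho (n : ℕ) : R →+* PerfectClosure R p :=
  ((iterateFrobeniusEquiv (PerfectClosure R p) p n).symm : PerfectClosure R p →+* _).comp
    (PerfectClosure.of R p)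

theorem rho_pow (n : ℕ) (x : R) : (rho p R n x) ^ (p ^ n) = PerfectClosure.of R p x := by
  have := (iterateFrobeniusEquiv (PerfectClosure R p) p n).apply_symm_apply
    (PerfectClosure.of R p x)
  rw [iterateFrobeniusEquiv_def] at this
  exact this

theorem rho_eq_mk (n : ℕ) (x : R) : rho p R n x = PerfectClosure.mk R p (n, x) := by
  apply iterateFrobenius_inj (PerfectClosure R p) p n
  rw [iterateFrobenius_def, iterateFrobenius_def, rho_pow, mk_pow_eq_of]

theorem exists_rho (y : PerfectClosure R p) : ∃ (n : ℕ) (x : R), y = rho p R n x := by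
  induction y using PerfectClosure.induction_on with
  | _ x => exact ⟨x.1, x.2, (rho_eq_mk p R x.1 x.2).symm⟩

theorem rho_shift (n m : ℕ) (x : R) : rho p R n x = rho p R (n + m) (x ^ (p ^ m)) := by
  apply iterateFrobenius_inj (PerfectClosure R p) p (n + m)
  rw [iterateFrobenius_def, iterateFrobenius_def, rho_pow, pow_add, pow_mul, rho_pow, map_pow]

theorem rho_eq_zero_iff (n : ℕ) (x : R) : rho p R n x = 0 ↔ ∃ m : ℕ, x ^ (p ^ m) = 0 := by
  rw [← of_eq_zero_iff p R x, ← rho_pow p R n x]
  constructor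
  · intro h; rw [h, zero_pow (pow_ne_zero _ (Fact.out : p.Prime).ne_zero)]
  · intro h
    exact (pow_eq_zero_iff (pow_ne_zero _ (Fact.out : p.Prime).ne_zero)).1 h

/-- common denominators -/
theorem exists_rho_fin {l : ℕ} (y : Fin l → PerfectClosure R p) :
    ∃ (n : ℕ) (x : Fin l → R), ∀ i, y i = rho p R n (x i) := by
  choose n x h using fun i => exists_rho p R (y i)
  refine ⟨Finset.univ.sup n, fun i => (x i) ^ (p ^ (Finset.univ.sup n - n i)), fun i => ?_⟩
  have hle : n i ≤ Finset.univ.sup n := Finset.le_sup (Finset.mem_univ i)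
  rw [h i, rho_shift p R (n i) (Finset.univ.sup n - n i)]
  congr 2
  omega

end rho

section map
variable {A B : Type u} [CommRing A] [CommRing B] [CharP A p] [CharP B p] (φ : A →+* B)

theorem perfMap_rho (n : ℕ) (x : A) : perfMap p φ (rho p A n x) = rho p B n (φ x) := by
  rw [rho_eq_mk, rho_eq_mk, perfMap_mk]

theorem perfMap_surjective (h : Function.Surjective φ) : Function.Surjective (perfMap p φ) := by
  intro y
  obtain ⟨n, x, rfl⟩ := exists_rho p B y
  obtain ⟨a, rfl⟩ := h x
  exact ⟨rho p A n a, perfMap_rho p φ n a⟩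

theorem perfMap_flat (h : φ.Flat) : (perfMap p φ).Flat := by
  letI := φ.toAlgebra
  letI := (perfMap p φ).toAlgebra
  haveI : Module.Flat A B := h
  show Module.Flat (PerfectClosure A p) (PerfectClosure B p)
  rw [Module.Flat.iff_forall_isTrivialRelation]
  intro l f x hfx
  obtain ⟨n₁, a, ha⟩ := exists_rho_fin p A f
  obtain ⟨n₂, b, hb⟩ := exists_rho_fin p B x
  -- common level
  set n := n₁ + n₂ with hn
  have ha' : ∀ i, f i = rho p A n (a i ^ (p ^ n₂)) := fun i => by
    rw [ha i, rho_shift p A n₁ n₂]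
  have hb' : ∀ i, x i = rho p B n (b i ^ (p ^ n₁)) := fun i => by
    rw [hb i, rho_shift p B n₂ n₁, add_comm]
  set a' : Fin l → A := fun i => a i ^ (p ^ n₂) with ha'def
  set b' : Fin l → B := fun i => b i ^ (p ^ n₁) with hb'def
  have hsmul : ∀ (r : PerfectClosure A p) (y : PerfectClosure B p), r • y = perfMap p φ r * y :=
    fun r y => rfl
  have hsum : rho p B n (∑ i, φ (a' i) * b' i) = 0 := by
    rw [map_sum, ← hfx]
    apply Finset.sum_congr rfl
    intro i _
    rw [map_mul, hsmul, ha' i, hb' i, perfMap_rho]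
  obtain ⟨m, hm⟩ := (rho_eq_zero_iff p B n _).1 hsum
  rw [sum_pow_char_pow] at hm
  have hrel : ∑ i, (a' i ^ (p ^ m)) • (b' i ^ (p ^ m)) = 0 := by
    rw [← hm]
    apply Finset.sum_congr rfl
    intro i _
    rw [Algebra.smul_def, mul_pow, map_pow]
    rfl
  obtain ⟨k, c, y, hy, hc⟩ := Module.Flat.isTrivialRelation_of_sum_smul_eq_zero (R := A) (M := B)
    (f := fun i => a' i ^ (p ^ m)) (x := fun i => b' i ^ (p ^ m)) hrel
  refine ⟨k, fun i j => rho p A (n + m) (c i j), fun j => rho p B (n + m) (y j), ?_, ?_⟩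
  · intro i
    have hyi : b' i ^ (p ^ m) = ∑ j, c i j • y j := hy i
    rw [hb' i, rho_shift p B n m]
    show rho p B (n + m) (b' i ^ (p ^ m)) = _
    rw [hyi, map_sum]
    apply Finset.sum_congr rfl
    intro j _
    show _ = rho p A (n + m) (c i j) • rho p B (n + m) (y j)
    rw [hsmul, perfMap_rho, Algebra.smul_def, map_mul]
    rfl
  · intro j
    have hcj : ∑ i, a' i ^ (p ^ m) * c i j = 0 := hc j
    have := congrArg (rho p A (n + m)) hcj
    rw [map_sum, map_zero] at this
    rw [← this]
    apply Finset.sum_congr rfl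
    intro i _
    show f i * rho p A (n + m) (c i j) = _
    rw [map_mul, ha' i, rho_shift p A n m]

end map

section sos
variable {A B : Type u} [CommRing A] [CommRing B] [CharP A p] [CharP B p] (φ : A →+* B)

theorem rho_not_mem (P' : Ideal (PerfectClosure B p)) (n : ℕ) (c : B)
    (hc : c ∉ P'.comap (PerfectClosure.of B p)) : rho p B n c ∉ P' := by
  intro h
  apply hc
  rw [Ideal.mem_comap, ← rho_pow p B n c]
  exact Ideal.pow_mem_of_mem _ h _ (pow_pos (Fact.out : p.Prime).pos n)

theorem perfMap_surjectiveOnStalks (h : φ.SurjectiveOnStalks) :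
    (perfMap p φ).SurjectiveOnStalks := by
  intro P' hP'
  rw [RingHom.surjective_localRingHom_iff]
  intro s'
  obtain ⟨n, b, rfl⟩ := exists_rho p B s'
  haveI : (P'.comap (PerfectClosure.of B p)).IsPrime := Ideal.comap_isPrime _ _
  obtain ⟨x, r, c, hc, hr, e⟩ :=
    (RingHom.surjective_localRingHom_iff (f := φ) (P'.comap (PerfectClosure.of B p))).1
      (h _ inferInstance) b
  refine ⟨rho p A n x, rho p A n r, rho p B n c, rho_not_mem p P' n c hc, ?_, ?_⟩
  · rw [perfMap_rho]
    exact rho_not_mem p P' n _ hr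
  · rw [perfMap_rho, perfMap_rho, ← map_mul, ← map_mul, ← map_mul, e]

end sos

end Groth.Agent.H22.Perf
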