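import Mathlib
import Groth.Agent.Lib.helper22.PerfRing

/-!
# Perfection of (pre)immersions
-/

set_option autoImplicit false

namespace Groth.Agent.H22.Perf
open CategoryTheory CategoryTheory.Limits AlgebraicGeometry FrobSch

universe u
variable (p : ℕ) [Fact p.Prime]

variable {X Y XP YP : Scheme.{u}} [IsCharP X p] [IsCharP Y p] [IsCharP XP p] [IsCharP YP p]
  (πX : XP ⟶ X) (πY : YP ⟶ Y) (hX : IsPerfection πX p) (hY : IsPerfection πY p)
  (f : X ⟶ Y) (fP : XP ⟶ YP) (w : fP ≫ πY = πX ≫ f)
include hX hY w

theorem surjectiveOnStalks_perf [SurjectiveOnStalks f] : SurjectiveOnStalks fP := by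
  apply of_forall_exists_source (P := @SurjectiveOnStalks)
  intro x'
  obtain ⟨U, V, e, hcU, hcV, W, Z, j, k, hj, hk, eW, eZ, hx', hcomp⟩ :=
    exists_local_model p πX πY hX hY f fP w x'
  refine ⟨W, j, hj, hx', ?_⟩
  rw [hcomp]
  have hs : (f.appLE U V e).hom.SurjectiveOnStalks :=
    HasRingHomProperty.appLE @SurjectiveOnStalks f ‹_› U V e
  haveI : SurjectiveOnStalks (Spec.map (CommRingCat.ofHom (perfMap p (f.appLE U V e).hom))) :=
    SurjectiveOnStalks.Spec_iff.2 (perfMap_surjectiveOnStalks p _ hs)
  infer_instance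

theorem comm_apply (x : XP) : πY (fP x) = f (πX x) := by
  rw [← Scheme.Hom.comp_apply, ← Scheme.Hom.comp_apply, w]

theorem range_perf : Set.range fP = πY ⁻¹' (Set.range f) := by
  have hhX := isHomeomorph p πX hX
  have hhY := isHomeomorph p πY hY
  ext y
  constructor
  · rintro ⟨x, rfl⟩
    exact ⟨πX x, (comm_apply p πX πY hX hY f fP w x).symm⟩
  · rintro ⟨x, hx⟩
    obtain ⟨x', rfl⟩ := hhX.surjective x
    refine ⟨x', ?_⟩
    apply hhY.injective
    rw [comm_apply p πX πY hX hY f fP w, hx]

theorem isEmbedding_perf (hf : Topology.IsEmbedding f) : Topology.IsEmbedding fP := by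
  have hhX := isHomeomorph p πX hX
  have hhY := isHomeomorph p πY hY
  have h1 : Topology.IsEmbedding (f ∘ πX) := hf.comp hhX.isEmbedding
  have h2 : (πY ∘ fP : XP → Y) = f ∘ πX := by
    funext x
    exact comm_apply p πX πY hX hY f fP w x
  rw [← h2] at h1
  exact Topology.IsEmbedding.of_comp fP.continuous πY.continuous h1

theorem isPreimmersion_perf [IsPreimmersion f] : IsPreimmersion fP :=
  { surjectiveOnStalks_perf p πX πY hX hY f fP w with
    isEmbedding := isEmbedding_perf p πX πY hX hY f fP w f.isEmbedding }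

theorem isClosedImmersion_perf [IsClosedImmersion f] : IsClosedImmersion fP := by
  haveI := isPreimmersion_perf p πX πY hX hY f fP w
  apply IsClosedImmersion.of_isPreimmersion
  rw [range_perf p πX πY hX hY f fP w]
  exact f.isClosedEmbedding.isClosed_range.preimage πY.continuous

theorem isImmersion_perf [IsImmersion f] : IsImmersion fP :=
  { isPreimmersion_perf p πX πY hX hY f fP w with
    isLocallyClosed_range := by
      rw [range_perf p πX πY hX hY f fP w]
      exact f.isLocallyClosed_range.preimage πY.continuous }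

end Groth.Agent.H22.Perf
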