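import Mathlib
import Groth.Agent.Lib.helper22.PerfBasic

/-!
# Perfections and fibre products
-/

set_option autoImplicit false

namespace Groth.Agent.H22.Perf
open CategoryTheory CategoryTheory.Limits AlgebraicGeometry FrobSch

universe u
variable (p : ℕ) [Fact p.Prime]

theorem inv_frob_comp {A C : Scheme.{u}} [IsCharP A p] [IsCharP C p] (hA : IsPerfect A p)
    (hC : IsPerfect C p) (f : A ⟶ C) : inv (frob A p) ≫ f = f ≫ inv (frob C p) := by
  haveI := hA
  haveI := hC
  rw [IsIso.inv_comp_eq, ← Category.assoc, frob_comp, Category.assoc, IsIso.hom_inv_id,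
    Category.comp_id]

/-- A fibre product of perfect schemes is perfect. -/
theorem isPerfect_pullback {A B C : Scheme.{u}} [IsCharP A p] [IsCharP B p] [IsCharP C p]
    (hA : IsPerfect A p) (hB : IsPerfect B p) (hC : IsPerfect C p) (f : A ⟶ C) (g : B ⟶ C)
    [IsCharP (pullback f g) p] : IsPerfect (pullback f g) p := by
  haveI := hA
  haveI := hB
  haveI := hC
  have hc : (pullback.fst f g ≫ inv (frob A p)) ≫ f = (pullback.snd f g ≫ inv (frob B p)) ≫ g := by
    rw [Category.assoc, Category.assoc, inv_frob_comp p hA hC, inv_frob_comp p hB hC,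
      ← Category.assoc, ← Category.assoc, pullback.condition]
  refine ⟨⟨pullback.lift _ _ hc, ?_, ?_⟩⟩
  · apply pullback.hom_ext
    · rw [Category.assoc, pullback.lift_fst, ← Category.assoc, frob_comp, Category.assoc,
        IsIso.hom_inv_id, Category.comp_id, Category.id_comp]
    · rw [Category.assoc, pullback.lift_snd, ← Category.assoc, frob_comp, Category.assoc,
        IsIso.hom_inv_id, Category.comp_id, Category.id_comp]
  · apply pullback.hom_ext
    · rw [Category.assoc, frob_comp, ← Category.assoc, pullback.lift_fst, Category.assoc,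
        IsIso.inv_hom_id, Category.comp_id, Category.id_comp]
    · rw [Category.assoc, frob_comp, ← Category.assoc, pullback.lift_snd, Category.assoc,
        IsIso.inv_hom_id, Category.comp_id, Category.id_comp]

/-- Perfection commutes with fibre products. -/
theorem isPerfection_pullback_map {X Y S X' Y' S' : Scheme.{u}} [IsCharP X' p] [IsCharP Y' p]
    [IsCharP S' p] (πX : X' ⟶ X) (πY : Y' ⟶ Y) (πS : S' ⟶ S)
    (hX : IsPerfection πX p) (hY : IsPerfection πY p) (hS : IsPerfection πS p)
    (f : X ⟶ S) (g : Y ⟶ S) (f' : X' ⟶ S') (g' : Y' ⟶ S')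
    (wf : f' ≫ πS = πX ≫ f) (wg : g' ≫ πS = πY ≫ g) [IsCharP (pullback f' g') p] :
    IsPerfection (pullback.map f' g' f g πX πY πS wf wg) p := by
  refine ⟨isPerfect_pullback p hX.1 hY.1 hS.1 f' g', fun T _ hT => ⟨?_, ?_⟩⟩
  · intro a b hab
    simp only at hab
    apply pullback.hom_ext
    · apply (hX.2 T hT).1
      simp only [Category.assoc]
      have := congrArg (fun k => k ≫ pullback.fst f g) hab
      simpa only [Category.assoc, pullback.lift_fst] using this
    · apply (hY.2 T hT).1
      simp only [Category.assoc]
      have := congrArg (fun k => k ≫ pullback.snd f g) hab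
      simpa only [Category.assoc, pullback.lift_snd] using this
  · intro c
    obtain ⟨a, ha⟩ := (hX.2 T hT).2 (c ≫ pullback.fst f g)
    obtain ⟨b, hb⟩ := (hY.2 T hT).2 (c ≫ pullback.snd f g)
    simp only at ha hb
    have hab : a ≫ f' = b ≫ g' := by
      apply (hS.2 T hT).1
      simp only [Category.assoc]
      rw [wf, wg, ← Category.assoc, ha, ← Category.assoc, hb, Category.assoc, Category.assoc,
        pullback.condition]
    refine ⟨pullback.lift a b hab, ?_⟩
    simp only
    apply pullback.hom_ext
    · rw [Category.assoc, pullback.lift_fst, ← Category.assoc, pullback.lift_fst, ha]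
    · rw [Category.assoc, pullback.lift_snd, ← Category.assoc, pullback.lift_snd, hb]

end Groth.Agent.H22.Perf
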