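import Mathlib
import Groth.Agent.Lib.helper22.PerfRing

/-!
# Sections of a perfection
-/

set_option autoImplicit false

namespace Groth.Agent.H22.Perf
open CategoryTheory CategoryTheory.Limits AlgebraicGeometry FrobSch

universe u
variable (p : ℕ) [Fact p.Prime]

section affine
variable {X' X : Scheme.{u}} [IsCharP X' p] (π : X' ⟶ X) (hπ : IsPerfection π p)

theorem appLE_congr_hom {P X : Scheme.{u}} {f g : P ⟶ X} (h : f = g) (U : X.Opens) (V : P.Opens)
    (e : V ≤ f ⁻¹ᵁ U) : f.appLE U V e = g.appLE U V (h ▸ e) := by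
  subst h; rfl

theorem isIso_appLE_of_opensRange {P Y : Scheme.{u}} (f : P ⟶ Y) [IsOpenImmersion f]
    (V : Y.Opens) (hV : f.opensRange = V) (hle : (⊤ : P.Opens) ≤ f ⁻¹ᵁ V) :
    IsIso (f.appLE V ⊤ hle) := by
  rw [Scheme.Hom.appLE]
  haveI : IsIso (f.app V) := Scheme.Hom.isIso_app f V hV.ge
  haveI : IsIso (homOfLE hle) := ⟨homOfLE le_top, Subsingleton.elim _ _, Subsingleton.elim _ _⟩
  infer_instance

theorem appTop_eq_appLE {P Y : Scheme.{u}} (f : P ⟶ Y) : f.appTop = f.appLE ⊤ ⊤ le_top := by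
  simp [Scheme.Hom.appLE]

theorem fromSpec_appLE_top {Y : Scheme.{u}} {U : Y.Opens} (hU : IsAffineOpen U)
    (h : (⊤ : (Spec Γ(Y, U)).Opens) ≤ hU.fromSpec ⁻¹ᵁ U) :
    hU.fromSpec.appLE U ⊤ h = (Scheme.ΓSpecIso Γ(Y, U)).inv := by
  rw [Scheme.Hom.appLE, hU.fromSpec_app_self, Category.assoc, ← Functor.map_comp]
  have : (eqToHom hU.fromSpec_preimage_self).op ≫ (homOfLE h).op = 𝟙 _ := Subsingleton.elim _ _
  rw [this, CategoryTheory.Functor.map_id, Category.comp_id]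

include hπ in
/-- On an affine open, the sections of the perfection are the perfect closure. -/
theorem sections_model {U : X.Opens} (hU : IsAffineOpen U) [CharP Γ(X, U) p] :
    ∃ (R : Type u) (_ : CommRing R) (α : Γ(X', π ⁻¹ᵁ U) →+* R)
      (β : PerfectClosure Γ(X, U) p →+* R), Function.Bijective α ∧ Function.Bijective β ∧
      ∀ s : Γ(X, U), α (π.app U s) = β (PerfectClosure.of Γ(X, U) p s) := by
  obtain ⟨e, he⟩ := exists_iso_model p π hπ Γ(X, U) hU.fromSpec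
  have hrange : (pullback.fst π hU.fromSpec).opensRange = π ⁻¹ᵁ U := by
    ext1
    change Set.range (pullback.fst π hU.fromSpec) = _
    rw [IsOpenImmersion.range_pullbackFst]
    change π ⁻¹' (Set.range hU.fromSpec) = _
    rw [hU.range_fromSpec]
    rfl
  have hle : (⊤ : (pullback π hU.fromSpec).Opens) ≤ (pullback.fst π hU.fromSpec) ⁻¹ᵁ (π ⁻¹ᵁ U) := by
    rw [← hrange]; simp
  haveI := isIso_appLE_of_opensRange (pullback.fst π hU.fromSpec) _ hrange hle
  haveI : IsIso e.hom.appTop := inferInstanceAs (IsIso (e.hom.app ⊤))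
  refine ⟨Γ(pullback π hU.fromSpec, ⊤), inferInstance, ((pullback.fst π hU.fromSpec).appLE (π ⁻¹ᵁ U) ⊤ hle).hom,
    ((Scheme.ΓSpecIso _).inv ≫ e.hom.appTop).hom, ?_, ?_, ?_⟩
  · exact ConcreteCategory.bijective_of_isIso _
  · exact ConcreteCategory.bijective_of_isIso ((Scheme.ΓSpecIso _).inv ≫ e.hom.appTop)
  · intro s
    have hcond : pullback.fst π hU.fromSpec ≫ π =
        e.hom ≫ Spec.map (CommRingCat.ofHom (PerfectClosure.of Γ(X, U) p)) ≫ hU.fromSpec := by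
      rw [pullback.condition, ← he, Category.assoc]
    have h1 : (pullback.fst π hU.fromSpec ≫ π).appLE U ⊤ (by simpa using hle) =
        π.app U ≫ (pullback.fst π hU.fromSpec).appLE (π ⁻¹ᵁ U) ⊤ hle := by
      rw [Scheme.Hom.comp_appLE]
    have h2 : (e.hom ≫ Spec.map (CommRingCat.ofHom (PerfectClosure.of Γ(X, U) p)) ≫
        hU.fromSpec).appLE U ⊤ (hcond ▸ (by simpa using hle)) =
        CommRingCat.ofHom (PerfectClosure.of Γ(X, U) p) ≫ (Scheme.ΓSpecIso _).inv ≫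
          e.hom.appTop := by
      have hfs : (⊤ : (Spec Γ(X, U)).Opens) ≤ hU.fromSpec ⁻¹ᵁ U := by simp
      rw [Scheme.ΓSpecIso_inv_naturality_assoc,
        show (Scheme.ΓSpecIso (CommRingCat.of Γ(X, U))).inv = hU.fromSpec.appLE U ⊤ hfs from
          (fromSpec_appLE_top hU hfs).symm,
        appTop_eq_appLE, appTop_eq_appLE, Scheme.Hom.appLE_comp_appLE,
        Scheme.Hom.appLE_comp_appLE]
      exact appLE_congr_hom (Category.assoc _ _ _).symm _ _ _
    have h3 := appLE_congr_hom hcond U ⊤ (by simpa using hle)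
    rw [h1, h2] at h3
    exact congrArg (fun φ => φ.hom s) h3

variable [IsCharP X p]

include hπ in
theorem affine_ker {U : X.Opens} (hU : IsAffineOpen U) (s : Γ(X, U)) (hs : π.app U s = 0) :
    ∃ n : ℕ, s ^ (p ^ n) = 0 := by
  rcases subsingleton_or_nontrivial Γ(X, U) with h | h
  · exact ⟨0, Subsingleton.elim _ _⟩
  · haveI : CharP Γ(X, U) p :=
      (CharP.charP_iff_prime_eq_zero Fact.out).2 (natCast_eq_zero_app X p U)
    obtain ⟨R, _, α, β, hα, hβ, hαβ⟩ := sections_model p π hπ hU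
    have h1 : β (PerfectClosure.of Γ(X, U) p s) = 0 := by rw [← hαβ, hs, map_zero]
    have h2 : PerfectClosure.of Γ(X, U) p s = 0 := hβ.1 (by rw [h1, map_zero])
    exact (of_eq_zero_iff p _ s).1 h2

include hπ in
theorem affine_im {U : X.Opens} (hU : IsAffineOpen U) (s' : Γ(X', π ⁻¹ᵁ U)) :
    ∃ (n : ℕ) (s : Γ(X, U)), π.app U s = s' ^ (p ^ n) := by
  rcases subsingleton_or_nontrivial Γ(X, U) with h | h
  · haveI : Subsingleton Γ(X', π ⁻¹ᵁ U) := by
      apply subsingleton_of_zero_eq_one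
      have h1 : (π.app U).hom (0 : Γ(X, U)) = (π.app U).hom 1 := by
        rw [Subsingleton.elim (0 : Γ(X, U)) 1]
      rw [map_zero, map_one] at h1
      exact h1
    exact ⟨0, 0, Subsingleton.elim _ _⟩
  · haveI : CharP Γ(X, U) p :=
      (CharP.charP_iff_prime_eq_zero Fact.out).2 (natCast_eq_zero_app X p U)
    obtain ⟨R, _, α, β, hα, hβ, hαβ⟩ := sections_model p π hπ hU
    obtain ⟨t, ht⟩ := hβ.2 (α s')
    obtain ⟨n, x, hx⟩ := exists_rho p _ t
    refine ⟨n, x, hα.1 ?_⟩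
    rw [hαβ, map_pow, ← ht, ← map_pow, hx, rho_pow]

theorem pow_p_pow_eq_zero_of_le {R : Type*} [MonoidWithZero R] {s : R} {n N : ℕ} (h : n ≤ N)
    (hs : s ^ (p ^ n) = 0) : s ^ (p ^ N) = 0 := by
  obtain ⟨k, rfl⟩ := Nat.exists_eq_add_of_le h
  rw [pow_add, pow_mul, hs, zero_pow (pow_ne_zero _ (Fact.out : p.Prime).ne_zero)]

theorem app_res (U W : X.Opens) (hUW : U ≤ W) (s : Γ(X, W)) :
    π.app U (X.presheaf.map (homOfLE hUW).op s) =
      X'.presheaf.map (homOfLE (show π ⁻¹ᵁ U ≤ π ⁻¹ᵁ W from fun _ hx => hUW hx)).op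
        (π.app W s) := by
  have := π.naturality (homOfLE hUW).op
  exact congrArg (fun φ => φ.hom s) this

include hπ in
theorem compact_ker {W : X.Opens} (hW : IsCompact (W : Set X)) (s : Γ(X, W))
    (hs : π.app W s = 0) : ∃ n : ℕ, s ^ (p ^ n) = 0 := by
  have H : ∀ x : W, ∃ (U : X.Opens) (hUW : U ≤ W) (n : ℕ), x.1 ∈ U ∧
      (X.presheaf.map (homOfLE hUW).op s) ^ (p ^ n) = 0 := by
    intro x
    obtain ⟨_, ⟨U, hU : IsAffineOpen U, rfl⟩, hxU, hUW⟩ :=
      X.isBasis_affineOpens.exists_subset_of_mem_open x.2 W.isOpen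
    have hUW' : U ≤ W := hUW
    obtain ⟨n, hn⟩ := affine_ker p π hπ hU (X.presheaf.map (homOfLE hUW').op s) (by
      rw [app_res, hs, map_zero])
    exact ⟨U, hUW', n, hxU, hn⟩
  choose U hUW n hxU hn using H
  obtain ⟨t, ht⟩ := hW.elim_nhds_subcover' (fun x hx => (U ⟨x, hx⟩ : Set X))
    (fun x hx => (U ⟨x, hx⟩).isOpen.mem_nhds (hxU ⟨x, hx⟩))
  refine ⟨t.sup n, ?_⟩
  apply X.sheaf.eq_of_locally_eq' (fun x : t => U x.1) W (fun x => homOfLE (hUW x.1))
  · intro x hx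
    obtain ⟨y, hy, hxy⟩ := Set.mem_iUnion₂.1 (ht hx)
    simp only [TopologicalSpace.Opens.mem_iSup]
    exact ⟨⟨y, hy⟩, hxy⟩
  · intro x
    change (X.presheaf.map (homOfLE (hUW x.1)).op).hom (s ^ p ^ t.sup n) =
      (X.presheaf.map (homOfLE (hUW x.1)).op).hom 0
    rw [map_zero, map_pow]
    exact pow_p_pow_eq_zero_of_le p (Finset.le_sup x.2) (hn x.1)

theorem sub_pow_p_pow {R : Type*} [CommRing R] (h : (p : R) = 0) (a b : R) (m : ℕ) :
    (a - b) ^ (p ^ m) = a ^ (p ^ m) - b ^ (p ^ m) := by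
  rcases subsingleton_or_nontrivial R with hR | hR
  · exact Subsingleton.elim _ _
  · haveI : CharP R p := (CharP.charP_iff_prime_eq_zero Fact.out).2 h
    exact sub_pow_char_pow a b m

include hπ in
theorem global_im [CompactSpace X] [QuasiSeparatedSpace X] (s' : Γ(X', ⊤)) :
    ∃ (n : ℕ) (s : Γ(X, ⊤)), π.appTop s = s' ^ (p ^ n) := by
  classical
  have H : ∀ x : X, ∃ (U : X.Opens) (_ : IsAffineOpen U) (n : ℕ) (t : Γ(X, U)), x ∈ U ∧
      π.app U t = (X'.presheaf.map (homOfLE (le_top : π ⁻¹ᵁ U ≤ ⊤)).op s') ^ (p ^ n) := by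
    intro x
    obtain ⟨_, ⟨U, hU : IsAffineOpen U, rfl⟩, hxU, -⟩ :=
      X.isBasis_affineOpens.exists_subset_of_mem_open (Set.mem_univ x) isOpen_univ
    obtain ⟨n, t, ht⟩ := affine_im p π hπ hU (X'.presheaf.map (homOfLE le_top).op s')
    exact ⟨U, hU, n, t, hxU, ht⟩
  choose U hU n t hxU ht using H
  obtain ⟨T, hT⟩ := CompactSpace.elim_nhds_subcover (fun x => (U x : Set X))
    (fun x => (U x).isOpen.mem_nhds (hxU x))
  set N := T.sup n with hN
  obtain ⟨t1, ht1def⟩ : ∃ t1 : ∀ x : X, Γ(X, U x), ∀ x, t1 x = t x ^ (p ^ (N - n x)) :=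
    ⟨_, fun _ => rfl⟩
  have ht1 : ∀ x ∈ T, π.app (U x) (t1 x) =
      (X'.presheaf.map (homOfLE (le_top : π ⁻¹ᵁ U x ≤ ⊤)).op s') ^ (p ^ N) := by
    intro x hx
    rw [ht1def, map_pow, ht, ← pow_mul, ← pow_add, Nat.add_sub_cancel' (Finset.le_sup hx)]
  have D : ∀ x y : T, ∃ m : ℕ,
      (X.presheaf.map (homOfLE (inf_le_left : U x.1 ⊓ U y.1 ≤ U x.1)).op (t1 x.1) -
        X.presheaf.map (homOfLE (inf_le_right : U x.1 ⊓ U y.1 ≤ U y.1)).op (t1 y.1)) ^ (p ^ m)
        = 0 := by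
    intro x y
    apply compact_ker p π hπ (W := U x.1 ⊓ U y.1) (IsCompact.inter_of_isOpen (hU x.1).isCompact
      (hU y.1).isCompact (U x.1).isOpen (U y.1).isOpen)
    rw [map_sub, app_res, app_res, ht1 x.1 x.2, ht1 y.1 y.2, map_pow, map_pow, sub_eq_zero]
    congr 1
    rw [← ConcreteCategory.comp_apply, ← ConcreteCategory.comp_apply, ← Functor.map_comp,
      ← Functor.map_comp]
    rfl
  choose m hm using D
  set M := (Finset.univ : Finset (T × T)).sup (fun q => m q.1 q.2) with hM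
  let sf : ∀ x : T, Γ(X, U x.1) := fun x => t1 x.1 ^ (p ^ M)
  have hcompat : TopCat.Presheaf.IsCompatible X.presheaf (fun x : T => U x.1) sf := by
    intro x y
    have h1 : TopologicalSpace.Opens.infLELeft (U x.1) (U y.1) = homOfLE inf_le_left :=
      Subsingleton.elim _ _
    have h2 : TopologicalSpace.Opens.infLERight (U x.1) (U y.1) = homOfLE inf_le_right :=
      Subsingleton.elim _ _
    rw [h1, h2]
    change (X.presheaf.map (homOfLE (inf_le_left : U x.1 ⊓ U y.1 ≤ U x.1)).op).hom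
        (t1 x.1 ^ p ^ M) =
      (X.presheaf.map (homOfLE (inf_le_right : U x.1 ⊓ U y.1 ≤ U y.1)).op).hom (t1 y.1 ^ p ^ M)
    rw [← sub_eq_zero, map_pow, map_pow,
      ← sub_pow_p_pow p (natCast_eq_zero_app X p (U x.1 ⊓ U y.1))]
    exact pow_p_pow_eq_zero_of_le p
      (Finset.le_sup (f := fun q : T × T => m q.1 q.2) (Finset.mem_univ (x, y))) (hm x y)
  have hcover : (⊤ : X.Opens) ≤ iSup (fun x : T => U x.1) := by
    intro x _
    have hx : x ∈ ⋃ y ∈ T, (U y : Set X) := by rw [hT]; trivial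
    obtain ⟨y, hy, hxy⟩ := Set.mem_iUnion₂.1 hx
    simp only [TopologicalSpace.Opens.mem_iSup]
    exact ⟨⟨y, hy⟩, hxy⟩
  obtain ⟨s, hs, -⟩ := X.sheaf.existsUnique_gluing' (fun x : T => U x.1) ⊤
    (fun x => homOfLE le_top) hcover sf hcompat
  refine ⟨N + M, s, ?_⟩
  apply X'.sheaf.eq_of_locally_eq' (fun x : T => π ⁻¹ᵁ U x.1) ⊤ (fun x => homOfLE le_top)
  · intro x' _
    obtain ⟨y, hy⟩ := TopologicalSpace.Opens.mem_iSup.1 (hcover (show π x' ∈ (⊤ : X.Opens) from trivial))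
    simp only [TopologicalSpace.Opens.mem_iSup]
    exact ⟨y, hy⟩
  · intro x
    change (X'.presheaf.map (homOfLE (le_top : π ⁻¹ᵁ U x.1 ≤ ⊤)).op).hom (π.appTop s) =
      (X'.presheaf.map (homOfLE (le_top : π ⁻¹ᵁ U x.1 ≤ ⊤)).op).hom (s' ^ p ^ (N + M))
    have h3 := app_res π (U x.1) ⊤ le_top s
    have h4 : X.presheaf.map (homOfLE (le_top : U x.1 ≤ ⊤)).op s = sf x := hs x
    rw [h4] at h3
    change _ = (X'.presheaf.map (homOfLE (le_top : π ⁻¹ᵁ U x.1 ≤ ⊤)).op).hom (π.appTop s) at h3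
    rw [← h3]
    change (π.app (U x.1)).hom (t1 x.1 ^ p ^ M) = _
    rw [map_pow, ht1 x.1 x.2, map_pow, ← pow_mul, ← pow_add]

theorem add_pow_p_pow {R : Type*} [CommRing R] (h : (p : R) = 0) (a b : R) (m : ℕ) :
    (a + b) ^ (p ^ m) = a ^ (p ^ m) + b ^ (p ^ m) := by
  rcases subsingleton_or_nontrivial R with hR | hR
  · exact Subsingleton.elim _ _
  · haveI : CharP R p := (CharP.charP_iff_prime_eq_zero Fact.out).2 h
    exact add_pow_char_pow a b p m

/-- A ring map which is an "isomorphism up to `p`-power roots" reflects the unit ideal. -/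
theorem ideal_eq_top_of_map_eq_top {A B : Type*} [CommRing A] [CommRing B] (φ : A →+* B)
    (hA : (p : A) = 0) (hB : (p : B) = 0)
    (hker : ∀ a, φ a = 0 → ∃ n : ℕ, a ^ (p ^ n) = 0)
    (him : ∀ b, ∃ (n : ℕ) (a : A), φ a = b ^ (p ^ n))
    (J : Ideal A) (hJ : Ideal.map φ J = ⊤) : J = ⊤ := by
  have key : ∀ b ∈ Ideal.map φ J, ∃ (n : ℕ) (a : A), a ∈ J ∧ φ a = b ^ (p ^ n) := by
    intro b hb
    refine Submodule.span_induction (p := fun b _ => ∃ (n : ℕ) (a : A), a ∈ J ∧ φ a = b ^ (p ^ n))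
      ?_ ?_ ?_ ?_ hb
    · rintro _ ⟨a, ha, rfl⟩
      exact ⟨0, a, ha, by simp⟩
    · exact ⟨0, 0, J.zero_mem, by simp⟩
    · rintro b1 b2 - - ⟨n1, a1, ha1, h1⟩ ⟨n2, a2, ha2, h2⟩
      refine ⟨n1 + n2, a1 ^ (p ^ n2) + a2 ^ (p ^ n1), J.add_mem (J.pow_mem_of_mem ha1 _
        (pow_pos (Fact.out : p.Prime).pos _)) (J.pow_mem_of_mem ha2 _
        (pow_pos (Fact.out : p.Prime).pos _)), ?_⟩
      rw [add_pow_p_pow p hB, map_add, map_pow, map_pow, h1, h2, ← pow_mul, ← pow_mul,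
        ← pow_add, ← pow_add, add_comm n2 n1]
    · rintro c b - ⟨n, a, ha, h⟩
      obtain ⟨m, ac, hac⟩ := him c
      refine ⟨n + m, ac ^ (p ^ n) * a ^ (p ^ m), J.mul_mem_left _ (J.pow_mem_of_mem ha _
        (pow_pos (Fact.out : p.Prime).pos _)), ?_⟩
      rw [smul_eq_mul, mul_pow, map_mul, map_pow, map_pow, hac, h, ← pow_mul, ← pow_mul,
        ← pow_add, ← pow_add, add_comm m n]
  obtain ⟨n, a, ha, h⟩ := key 1 (by rw [hJ]; trivial)
  rw [one_pow] at h
  obtain ⟨k, hk⟩ := hker (a - 1) (by rw [map_sub, h, map_one, sub_self])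
  rw [sub_pow_p_pow p hA, one_pow, sub_eq_zero] at hk
  rw [Ideal.eq_top_iff_one, ← hk]
  exact J.pow_mem_of_mem ha _ (pow_pos (Fact.out : p.Prime).pos _)

include hπ in
/-- If the perfection of `X` is affine, then `X` is affine. -/
theorem isAffine_of_isAffine_perfection [IsAffine X'] : IsAffine X := by
  have hhomeo := isHomeomorph p π hπ
  have hsurj : Function.Surjective π := hhomeo.surjective
  haveI : CompactSpace X := hhomeo.homeomorph.compactSpace
  haveI : QuasiSeparatedSpace X := (quasiSeparatedSpace_congr hhomeo.homeomorph).1 inferInstance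
  have step2 : ∀ x : X, ∃ a : Γ(X, ⊤), x ∈ X.basicOpen a ∧ IsAffineOpen (X.basicOpen a) := by
    intro x
    obtain ⟨_, ⟨U, hU : IsAffineOpen U, rfl⟩, hxU, -⟩ :=
      X.isBasis_affineOpens.exists_subset_of_mem_open (Set.mem_univ x) isOpen_univ
    obtain ⟨x', rfl⟩ := hsurj x
    obtain ⟨f, hfU, hxf⟩ := (isAffineOpen_top X').exists_basicOpen_le
      (V := π ⁻¹ᵁ U) ⟨x', hxU⟩ trivial
    obtain ⟨n, a, ha⟩ := global_im p π hπ f
    have hpre : π ⁻¹ᵁ X.basicOpen a = X'.basicOpen f := by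
      rw [Scheme.preimage_basicOpen]
      change X'.basicOpen (π.appTop a) = _
      rw [ha, Scheme.basicOpen_pow _ _ (pow_pos (Fact.out : p.Prime).pos _)]
    have hle : X.basicOpen a ≤ U := by
      intro y hy
      obtain ⟨y', rfl⟩ := hsurj y
      have : y' ∈ π ⁻¹ᵁ X.basicOpen a := hy
      rw [hpre] at this
      exact hfU this
    refine ⟨a, ?_, ?_⟩
    · have : x' ∈ π ⁻¹ᵁ X.basicOpen a := by rw [hpre]; exact hxf
      exact this
    · have := hU.basicOpen (X.presheaf.map (homOfLE (le_top : U ≤ ⊤)).op a)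
      rwa [Scheme.basicOpen_res, inf_eq_right.2 hle] at this
  apply isAffine_of_isAffineOpen_basicOpen {a : Γ(X, ⊤) | IsAffineOpen (X.basicOpen a)} ?_
    (fun a ha => ha)
  apply ideal_eq_top_of_map_eq_top p π.appTop.hom (natCast_eq_zero_app X p ⊤)
    (natCast_eq_zero_app X' p ⊤)
  · intro a ha
    exact compact_ker p π hπ (W := ⊤) isCompact_univ a ha
  · intro b
    exact global_im p π hπ b
  · rw [Ideal.map_span, ← (isAffineOpen_top X').self_le_iSup_basicOpen_iff]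
    intro x' _
    obtain ⟨a, hxa, ha⟩ := step2 (π x')
    simp only [TopologicalSpace.Opens.mem_iSup]
    refine ⟨⟨π.appTop a, a, ha, rfl⟩, ?_⟩
    change x' ∈ X'.basicOpen (π.app ⊤ a)
    rw [← Scheme.preimage_basicOpen]
    exact hxa

end affine

end Groth.Agent.H22.Perf
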