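import Mathlib

/-!
# Primitive roots of unity from splitting of `X ^ n - 1` (helper22)
-/

set_option autoImplicit false

namespace Groth.Agent.Lib.helper22.RootsOfUnity

open Polynomial

/-- If `X ^ d - 1` splits over the field `K` and `d ≠ 0` in `K`, then `K` contains a primitive
`d`-th root of unity. -/
theorem exists_isPrimitiveRoot_of_splits {K : Type*} [Field K] (d : ℕ) (hd : 0 < d)
    (hdK : (d : K) ≠ 0) (hs : (X ^ d - 1 : K[X]).Splits) : ∃ ζ : K, IsPrimitiveRoot ζ d := by
  classical
  haveI : NeZero d := ⟨hd.ne'⟩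
  rw [← card_rootsOfUnity_eq_iff_exists_isPrimitiveRoot]
  have hsep : (X ^ d - 1 : K[X]).Separable := X_pow_sub_one_separable_iff.2 hdK
  have hnodup : (nthRoots d (1 : K)).Nodup := by
    rw [nthRoots, map_one]; exact nodup_roots hsep
  have hcard : Multiset.card (nthRoots d (1 : K)) = d := by
    rw [nthRoots, map_one, splits_iff_card_roots.1 hs]
    have := natDegree_X_pow_sub_C (R := K) (n := d) (r := 1)
    rwa [map_one] at this
  rw [Nat.card_congr (rootsOfUnityEquivNthRoots K d)]
  have : Nat.card { x // x ∈ nthRoots d (1 : K) } = (nthRoots d (1 : K)).toFinset.card := by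
    rw [Nat.card_eq_fintype_card]
    exact Fintype.card_of_subtype _ (fun x => by simp)
  rw [this, Multiset.toFinset_card_of_nodup hnodup, hcard]

end Groth.Agent.Lib.helper22.RootsOfUnity
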