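import Mathlib
import Groth.Prelude.Def_SekSuwa2

/-!
# The coordinate ring of `G_{λ,N}` is `R[T]/(P_{λ,N})`, free of rank `N` (helper22)
-/

set_option autoImplicit false
universe u

open Polynomial

namespace Groth.Agent.H22.SekSuwaK

open SekSuwa

variable {R : Type u} [CommRing R] {lam : R} {N : ℕ}

lemma natDegree_base_le : (1 + C lam * X : R[X]).natDegree ≤ 1 := by
  refine (natDegree_add_le _ _).trans ?_
  rw [natDegree_one]
  exact max_le (Nat.zero_le _) ((natDegree_C_mul_le _ _).trans natDegree_X_le)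

lemma natDegree_rhs_le : ((1 + C lam * X : R[X]) ^ N - 1).natDegree ≤ N := by
  refine (natDegree_sub_le _ _).trans ?_
  rw [natDegree_one]
  refine max_le ?_ (Nat.zero_le _)
  calc ((1 + C lam * X : R[X]) ^ N).natDegree ≤ N * (1 + C lam * X : R[X]).natDegree :=
        natDegree_pow_le
    _ ≤ N * 1 := Nat.mul_le_mul_left _ natDegree_base_le
    _ = N := mul_one N

lemma coeff_rhs (hN : 0 < N) : ((1 + C lam * X : R[X]) ^ N - 1).coeff N = lam ^ N := by
  rw [coeff_sub, coeff_one, if_neg (by omega), sub_zero]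
  have := coeff_pow_of_natDegree_le (p := (1 + C lam * X : R[X])) (m := N) (n := 1)
    natDegree_base_le
  rw [mul_one] at this
  rw [this]
  congr 1
  simp [coeff_one]

lemma psiPoly_coeff (h : DivCond lam N) (n : ℕ) :
    lam ^ N * (psiPoly lam N h).coeff n = ((1 + C lam * X : R[X]) ^ N - 1).coeff n := by
  rw [← psiPoly_spec h, coeff_C_mul]

lemma psiPoly_natDegree_le (h : DivCond lam N) : (psiPoly lam N h).natDegree ≤ N := by
  rw [natDegree_le_iff_coeff_eq_zero]
  intro n hn
  have h1 := psiPoly_coeff h n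
  rw [coeff_eq_zero_of_natDegree_lt (lt_of_le_of_lt natDegree_rhs_le hn)] at h1
  exact cancel_nzd h.pow_nzd (h1.trans (mul_zero _).symm)

lemma psiPoly_coeff_N (h : DivCond lam N) (hN : 0 < N) : (psiPoly lam N h).coeff N = 1 := by
  have h1 := psiPoly_coeff h N
  rw [coeff_rhs hN] at h1
  exact cancel_nzd h.pow_nzd (h1.trans (mul_one _).symm)

lemma psiPoly_monic (h : DivCond lam N) (hN : 0 < N) : (psiPoly lam N h).Monic :=
  monic_of_natDegree_le_of_coeff_eq_one N (psiPoly_natDegree_le h) (psiPoly_coeff_N h hN)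

lemma psiPoly_natDegree [Nontrivial R] (h : DivCond lam N) (hN : 0 < N) :
    (psiPoly lam N h).natDegree = N :=
  natDegree_eq_of_le_of_coeff_ne_zero (psiPoly_natDegree_le h)
    (by rw [psiPoly_coeff_N h hN]; exact one_ne_zero)

section Equiv

variable (R lam N) (h : DivCond lam N)

lemma root_pow : (1 + lam • AdjoinRoot.root (psiPoly lam N h)) ^ N = 1 := by
  have := aeval_psiPoly h (AdjoinRoot.root (psiPoly lam N h))
  rw [AdjoinRoot.aeval_eq, AdjoinRoot.mk_self, mul_zero] at this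
  rw [Algebra.smul_def]
  exact (sub_eq_zero.mp this.symm)

/-- the map `A → R[T]/(P)`. -/
noncomputable def toAdjoin₀ (hN : 0 < N) : A R lam →ₐ[R] AdjoinRoot (psiPoly lam N h) :=
  A.lift R lam (AdjoinRoot.root (psiPoly lam N h))
    ((1 + lam • AdjoinRoot.root (psiPoly lam N h)) ^ (N - 1)) (by
      rw [← pow_succ', Nat.sub_add_cancel hN, root_pow])

lemma toAdjoin₀_kerGen (hN : 0 < N) : toAdjoin₀ R lam N h hN (kerGen lam N h) = 0 := by
  rw [kerGen, ← Polynomial.aeval_algHom_apply, toAdjoin₀, A.lift_t, AdjoinRoot.aeval_eq,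
    AdjoinRoot.mk_self]

/-- the map `AK → R[T]/(P)`. -/
noncomputable def toAdjoin (hN : 0 < N) : AK R lam N h →ₐ[R] AdjoinRoot (psiPoly lam N h) :=
  Ideal.Quotient.liftₐ (kerIdeal lam N h) (toAdjoin₀ R lam N h hN) (by
    intro a ha
    obtain ⟨d, rfl⟩ := Ideal.mem_span_singleton'.mp ha
    rw [map_mul, toAdjoin₀_kerGen, mul_zero])

lemma toAdjoin_mk (hN : 0 < N) (a : A R lam) :
    toAdjoin R lam N h hN (AK.mkHom R lam N h a) = toAdjoin₀ R lam N h hN a := rfl

/-- the map `R[T]/(P) → AK`. -/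
noncomputable def ofAdjoin : AdjoinRoot (psiPoly lam N h) →ₐ[R] AK R lam N h :=
  AdjoinRoot.liftAlgHom (psiPoly lam N h) (Algebra.ofId R (AK R lam N h)) AK.t (by
    have := AK.aeval_t (R := R) (lam := lam) (N := N) (h := h)
    rwa [Polynomial.aeval_def] at this)

lemma ofAdjoin_root : ofAdjoin R lam N h (AdjoinRoot.root _) = AK.t := by
  simp [ofAdjoin]

lemma AK_u_mul_inv : (1 + lam • (AK.t : AK R lam N h)) * AK.inv = 1 := by
  have := congrArg (AK.mkHom R lam N h) (A.u_mul_inv (R := R) (lam := lam))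
  rw [map_mul, map_one, A.u, map_add, map_one, map_smul] at this
  exact this

lemma AK_inv_eq (hN : 0 < N) : (AK.inv : AK R lam N h) = (1 + lam • AK.t) ^ (N - 1) := by
  have h1 := AK_u_mul_inv R lam N h
  have h2 : (1 + lam • (AK.t : AK R lam N h)) ^ (N - 1) * (1 + lam • AK.t) = 1 := by
    rw [← pow_succ, Nat.sub_add_cancel hN, AK.u_pow]
  calc (AK.inv : AK R lam N h) = ((1 + lam • AK.t) ^ (N - 1) * (1 + lam • AK.t)) * AK.inv := by
        rw [h2, one_mul]
    _ = (1 + lam • AK.t) ^ (N - 1) * ((1 + lam • AK.t) * AK.inv) := by ring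
    _ = (1 + lam • AK.t) ^ (N - 1) := by rw [h1, mul_one]

/-- `AK ≃ R[T]/(P_{λ,N})` for `N ≥ 1`. -/
noncomputable def akEquiv (hN : 0 < N) : AK R lam N h ≃ₐ[R] AdjoinRoot (psiPoly lam N h) :=
  AlgEquiv.ofAlgHom (toAdjoin R lam N h hN) (ofAdjoin R lam N h)
    (by
      apply AdjoinRoot.algHom_ext
      rw [AlgHom.comp_apply, ofAdjoin_root, AK.t, toAdjoin_mk, toAdjoin₀, A.lift_t]
      rfl)
    (by
      apply AK.algHom_ext
      · rw [AlgHom.comp_apply, AK.t, toAdjoin_mk, toAdjoin₀, A.lift_t, ofAdjoin_root]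
        rfl
      · rw [AlgHom.comp_apply, AK.inv, toAdjoin_mk, toAdjoin₀, A.lift_inv, map_pow, map_add,
          map_one, map_smul, ofAdjoin_root]
        rw [AlgHom.id_apply]
        exact (AK_inv_eq R lam N h hN).symm)

lemma finite_AK (hN : 0 < N) : Module.Finite R (AK R lam N h) :=
  haveI : Module.Finite R (AdjoinRoot (psiPoly lam N h)) :=
    Module.Finite.of_basis (AdjoinRoot.powerBasis' (psiPoly_monic h hN)).basis
  Module.Finite.equiv (akEquiv R lam N h hN).symm.toLinearEquiv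

lemma free_AK' (hN : 0 < N) : Module.Free R (AK R lam N h) :=
  haveI : Module.Free R (AdjoinRoot (psiPoly lam N h)) :=
    Module.Free.of_basis (AdjoinRoot.powerBasis' (psiPoly_monic h hN)).basis
  Module.Free.of_equiv (akEquiv R lam N h hN).symm.toLinearEquiv

lemma finrank_AK [Nontrivial R] (hN : 0 < N) : Module.finrank R (AK R lam N h) = N := by
  rw [LinearEquiv.finrank_eq (akEquiv R lam N h hN).toLinearEquiv,
    Module.finrank_eq_card_basis (AdjoinRoot.powerBasis' (psiPoly_monic h hN)).basis,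
    Fintype.card_fin, AdjoinRoot.powerBasis'_dim, psiPoly_natDegree h hN]

end Equiv

end Groth.Agent.H22.SekSuwaK
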