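import Mathlib
import Groth.Prelude.Def_W4c2movlemaddchowShuffle

/-!
# Shuffle decompositions (helper22)

Abstract bijection `(τ, σ) ↦ τ * ext σ` between pairs of shuffles and iterated shuffles,
and the concrete facts about `extRight`/`extLeft` of the prelude `W4c2movlemaddchow`.
-/

set_option autoImplicit false

namespace Groth.Agent.Lib.helper22.Shuffle

open Equiv

/-- A strictly monotone permutation of `Fin n` is the identity. -/
lemma perm_eq_one_of_strictMono {n : ℕ} (ρ : Perm (Fin n)) (h : StrictMono ρ) : ρ = 1 := by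
  have : (ρ : Fin n → Fin n) = id := by
    apply (StrictMono.range_inj h strictMono_id).1
    rw [Set.range_id, ρ.surjective.range_eq]
  ext x
  rw [this]; rfl

/-- Abstract shuffle decomposition. -/
theorem bijOn_mul_ext {m a r s : ℕ} (e : Fin a → Fin m) (he : StrictMono e)
    (ext : Perm (Fin a) → Perm (Fin m)) (hext_one : ext 1 = 1)
    (hext_mul : ∀ x y, ext (x * y) = ext x * ext y)
    (hext_e : ∀ σ x, ext σ (e x) = e (σ x))
    (Q : Perm (Fin m) → Prop) (hQ : ∀ τ σ, Q (τ * ext σ) ↔ Q τ)
    (b1 : Fin r → Fin a) (b2 : Fin s → Fin a) :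
    Set.BijOn (fun p : Perm (Fin m) × Perm (Fin a) => p.1 * ext p.2)
      ({τ | Monotone (fun x => τ (e x)) ∧ Q τ} ×ˢ
        {σ | Monotone (fun i => σ (b1 i)) ∧ Monotone (fun j => σ (b2 j))})
      {ν | Monotone (fun i => ν (e (b1 i))) ∧ Monotone (fun j => ν (e (b2 j))) ∧ Q ν} := by
  refine ⟨?_, ?_, ?_⟩
  · rintro ⟨τ, σ⟩ ⟨⟨hτ1, hτ2⟩, hσ1, hσ2⟩
    refine ⟨?_, ?_, ?_⟩
    · intro i j hij
      simp only [Perm.coe_mul, Function.comp_apply, hext_e]
      exact hτ1 (hσ1 hij)
    · intro i j hij
      simp only [Perm.coe_mul, Function.comp_apply, hext_e]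
      exact hτ1 (hσ2 hij)
    · exact (hQ τ σ).2 hτ2
  · rintro ⟨τ₁, σ₁⟩ ⟨⟨hτ1, _⟩, _⟩ ⟨τ₂, σ₂⟩ ⟨⟨hτ2, _⟩, _⟩ heq
    simp only at heq
    have hs1 : StrictMono (fun x => τ₁ (e x)) :=
      hτ1.strictMono_of_injective (τ₁.injective.comp he.injective)
    have hs2 : StrictMono (fun x => τ₂ (e x)) :=
      hτ2.strictMono_of_injective (τ₂.injective.comp he.injective)
    have hcomp : ∀ x, τ₁ (e (σ₁ x)) = τ₂ (e (σ₂ x)) := by
      intro x
      have := congrArg (fun ν : Perm (Fin m) => ν (e x)) heq
      simpa [hext_e] using this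
    have hρ : StrictMono (σ₂ * σ₁⁻¹ : Perm (Fin a)) := by
      intro i j hij
      have h1 : τ₁ (e i) < τ₁ (e j) := hs1 hij
      have e1 := hcomp (σ₁⁻¹ i)
      have e2 := hcomp (σ₁⁻¹ j)
      simp only [Perm.coe_inv, Equiv.apply_symm_apply] at e1 e2
      rw [e1, e2] at h1
      exact hs2.lt_iff_lt.1 h1
    have hρ1 := perm_eq_one_of_strictMono _ hρ
    have hσ : σ₁ = σ₂ := by
      have := mul_inv_eq_one.1 hρ1
      exact this.symm
    subst hσ
    have hτ : τ₁ = τ₂ := mul_right_cancel heq
    rw [hτ]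
  · rintro ν ⟨hν1, hν2, hν3⟩
    let f : Fin a → Fin m := fun x => ν (e x)
    have hf : Function.Injective f := ν.injective.comp he.injective
    let π : Perm (Fin a) := Tuple.sort f
    have hπ : Monotone (f ∘ π) := Tuple.monotone_sort f
    have hπs : StrictMono (f ∘ π) := hπ.strictMono_of_injective (hf.comp π.injective)
    have hmul : ext π * ext π⁻¹ = 1 := by rw [← hext_mul, mul_inv_cancel, hext_one]
    refine ⟨(ν * ext π, π⁻¹), ⟨⟨?_, ?_⟩, ?_, ?_⟩, ?_⟩
    · intro i j hij
      simp only [Perm.coe_mul, Function.comp_apply, hext_e]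
      exact hπ hij
    · exact (hQ ν π).2 hν3
    · intro i j hij
      have h1 : f (b1 i) ≤ f (b1 j) := hν1 hij
      have e1 : f (b1 i) = (f ∘ π) (π⁻¹ (b1 i)) := by simp
      have e2 : f (b1 j) = (f ∘ π) (π⁻¹ (b1 j)) := by simp
      rw [e1, e2] at h1
      exact hπs.le_iff_le.1 h1
    · intro i j hij
      have h1 : f (b2 i) ≤ f (b2 j) := hν2 hij
      have e1 : f (b2 i) = (f ∘ π) (π⁻¹ (b2 i)) := by simp
      have e2 : f (b2 j) = (f ∘ π) (π⁻¹ (b2 j)) := by simp
      rw [e1, e2] at h1
      exact hπs.le_iff_le.1 h1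
    · simp only
      rw [mul_assoc, hmul, mul_one]


open W4c2movlemaddchow

section ExtRight
variable (a t : ℕ)

lemma extRight_castAdd (σ : Perm (Fin a)) (i : Fin a) :
    extRight a t σ (Fin.castAdd t i) = Fin.castAdd t (σ i) := by
  simp [extRight, Equiv.permCongr_apply]

lemma extRight_natAdd (σ : Perm (Fin a)) (l : Fin t) :
    extRight a t σ (Fin.natAdd a l) = Fin.natAdd a l := by
  simp [extRight, Equiv.permCongr_apply]

lemma extRight_one : extRight a t 1 = 1 := by
  ext x
  refine Fin.addCases (fun i => ?_) (fun l => ?_) x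
  · rw [extRight_castAdd]; rfl
  · rw [extRight_natAdd]; rfl

lemma extRight_mul (x y : Perm (Fin a)) : extRight a t (x * y) = extRight a t x * extRight a t y := by
  ext z
  refine Fin.addCases (fun i => ?_) (fun l => ?_) z
  · rw [Perm.mul_apply, extRight_castAdd, extRight_castAdd, extRight_castAdd]; rfl
  · rw [Perm.mul_apply, extRight_natAdd, extRight_natAdd, extRight_natAdd]

lemma sign_extRight (σ : Perm (Fin a)) : Perm.sign (extRight a t σ) = Perm.sign σ := by
  simp [extRight]

end ExtRight

section ExtLeft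
variable (r s t : ℕ)

/-- embedding of the last `s + t` positions -/
def embL (x : Fin (s + t)) : Fin (r + s + t) := Fin.cast (Nat.add_assoc r s t).symm (Fin.natAdd r x)

/-- embedding of the first `r` positions -/
def embF (i : Fin r) : Fin (r + s + t) := Fin.castAdd t (Fin.castAdd s i)

lemma embL_strictMono : StrictMono (embL r s t) := by
  intro x y h
  simp only [embL, Fin.lt_def, Fin.val_cast, Fin.val_natAdd] at *
  omega

lemma embL_castAdd (j : Fin s) : embL r s t (Fin.castAdd t j) = Fin.castAdd t (Fin.natAdd r j) := by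
  ext; simp [embL]

lemma embL_natAdd (l : Fin t) : embL r s t (Fin.natAdd s l) = Fin.natAdd (r + s) l := by
  ext; simp [embL, Nat.add_assoc]

lemma embF_eq (i : Fin r) :
    embF r s t i = Fin.cast (Nat.add_assoc r s t).symm (Fin.castAdd (s + t) i) := by
  ext; simp [embF]

lemma extLeft_embL (σ : Perm (Fin (s + t))) (x : Fin (s + t)) :
    extLeft r s t σ (embL r s t x) = embL r s t (σ x) := by
  simp [extLeft, embL, Equiv.permCongr_apply]

lemma extLeft_embF (σ : Perm (Fin (s + t))) (i : Fin r) :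
    extLeft r s t σ (embF r s t i) = embF r s t i := by
  rw [embF_eq]
  simp [extLeft, Equiv.permCongr_apply]

lemma cases_embF_embL {P : Fin (r + s + t) → Prop} (h1 : ∀ i, P (embF r s t i))
    (h2 : ∀ x, P (embL r s t x)) (z : Fin (r + s + t)) : P z := by
  have hz : z = Fin.cast (Nat.add_assoc r s t).symm (Fin.cast (Nat.add_assoc r s t) z) := by
    ext; simp
  rw [hz]
  refine Fin.addCases (fun i => ?_) (fun x => ?_) (Fin.cast (Nat.add_assoc r s t) z)
  · rw [← embF_eq]; exact h1 i
  · exact h2 x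

lemma extLeft_one : extLeft r s t 1 = 1 := by
  apply Equiv.ext
  intro z
  refine cases_embF_embL r s t (P := fun z => extLeft r s t 1 z = (1 : Perm (Fin (r + s + t))) z)
    (fun i => ?_) (fun x => ?_) z
  · rw [extLeft_embF]; rfl
  · rw [extLeft_embL]; rfl

lemma extLeft_mul (x y : Perm (Fin (s + t))) :
    extLeft r s t (x * y) = extLeft r s t x * extLeft r s t y := by
  apply Equiv.ext
  intro z
  refine cases_embF_embL r s t
    (P := fun z => extLeft r s t (x * y) z = (extLeft r s t x * extLeft r s t y) z)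
    (fun i => ?_) (fun w => ?_) z
  · rw [Perm.mul_apply, extLeft_embF, extLeft_embF, extLeft_embF]
  · rw [Perm.mul_apply, extLeft_embL, extLeft_embL, extLeft_embL]; rfl

lemma sign_extLeft (σ : Perm (Fin (s + t))) : Perm.sign (extLeft r s t σ) = Perm.sign σ := by
  simp [extLeft]

/-- Unfolding the shuffle condition for the re-bracketed permutation. -/
lemma isShuffle₂_permCongr_iff (τ : Perm (Fin (r + s + t))) :
    IsShuffle₂ r (s + t) ((finCongr (Nat.add_assoc r s t)).permCongr τ) ↔
      Monotone (fun x => τ (embL r s t x)) ∧ Monotone (fun i => τ (embF r s t i)) := by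
  unfold IsShuffle₂
  rw [and_comm]
  refine and_congr ?_ ?_
  · constructor
    · intro h x y hxy
      exact h hxy
    · intro h x y hxy
      exact h hxy
  · constructor
    · intro h x y hxy
      have := h hxy
      simp only [embF_eq]
      exact this
    · intro h x y hxy
      have := h hxy
      simp only [embF_eq] at this
      exact this

end ExtLeft

end Groth.Agent.Lib.helper22.Shuffle
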