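import Mathlib

set_option autoImplicit false

namespace Groth.Agent.Lib.helper22.SimpleDim

open Module

theorem nonempty_linearEquiv_of_isSimpleModule (B : Type*) [Ring B] [IsSimpleRing B]
    [IsArtinianRing B] (S S' : Type*) [AddCommGroup S] [Module B S] [AddCommGroup S'] [Module B S']
    [IsSimpleModule B S] [IsSimpleModule B S'] : Nonempty (S ≃ₗ[B] S') := by
  obtain ⟨I, ⟨e1⟩⟩ := IsSemisimpleRing.exists_linearEquiv_ideal_of_isSimpleModule B S
  obtain ⟨I', ⟨e1'⟩⟩ := IsSemisimpleRing.exists_linearEquiv_ideal_of_isSimpleModule B S'
  haveI : IsSimpleModule B I := (e1.isSimpleModule_iff).mp inferInstance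
  haveI : IsSimpleModule B I' := (e1'.isSimpleModule_iff).mp inferInstance
  obtain ⟨e2⟩ := IsSimpleRing.isIsotypic B B I' I
  exact ⟨e1.trans (e2.trans e1'.symm)⟩

theorem finite_end (F B S : Type*) [Field F] [Ring B] [Algebra F B]
    [AddCommGroup S] [Module F S] [Module B S] [IsScalarTower F B S] [FiniteDimensional F S] :
    FiniteDimensional F (Module.End B S) := by
  have hinj : Function.Injective (LinearMap.restrictScalarsₗ F B S S F) :=
    LinearMap.restrictScalars_injective F
  exact Module.Finite.of_injective _ hinj

/-- dimension data of a power of a module -/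
theorem finrank_pow_and_end (F B S : Type*) [Field F] [Ring B] [Algebra F B]
    [AddCommGroup S] [Module F S] [Module B S] [IsScalarTower F B S] [FiniteDimensional F S] (k : ℕ) :
    finrank F (Fin k → S) = k * finrank F S ∧
    finrank F (Module.End B (Fin k → S)) = k * k * finrank F (Module.End B S) := by
  haveI := finite_end F B S
  constructor
  · rw [Module.finrank_pi_fintype]
    simp
  · rw [(endVecAlgEquivMatrixEnd (Fin k) F B S).toLinearEquiv.finrank_eq, Module.finrank_matrix]
    simp

/-- **Dimension formula** for modules over a simple finite-dimensional algebra: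
`dim B * dim End_B(M) = (dim M)^2`. -/
theorem finrank_mul_finrank_end (F B M : Type*) [Field F] [Ring B] [Algebra F B] [IsSimpleRing B]
    [FiniteDimensional F B] [AddCommGroup M] [Module F M] [Module B M] [IsScalarTower F B M]
    [FiniteDimensional F M] :
    finrank F B * finrank F (Module.End B M) = finrank F M ^ 2 := by
  haveI : IsArtinianRing B := IsArtinianRing.of_finite F B
  haveI : Module.Finite B M := Module.Finite.of_restrictScalars_finite F B M
  rcases subsingleton_or_nontrivial M with hM | hM
  · rw [Module.finrank_zero_of_subsingleton (M := M)]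
    haveI : Subsingleton (Module.End B M) := ⟨fun f g => LinearMap.ext fun x => Subsingleton.elim _ _⟩
    rw [Module.finrank_zero_of_subsingleton (M := Module.End B M)]
    simp
  obtain ⟨N, hN, S, hS, ⟨eB⟩⟩ := (IsSimpleRing.isIsotypic B B).linearEquiv_fun
  obtain ⟨k, hk, S', hS', ⟨eM⟩⟩ := (IsSimpleRing.isIsotypic B M).linearEquiv_fun
  obtain ⟨eS⟩ := nonempty_linearEquiv_of_isSimpleModule B S' S
  haveI : FiniteDimensional F S :=
    Module.Finite.of_injective ((Submodule.subtype S).restrictScalars F) Subtype.val_injective
  haveI : FiniteDimensional F S' :=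
    Module.Finite.of_injective ((Submodule.subtype S').restrictScalars F) Subtype.val_injective
  have h1 := finrank_pow_and_end F B S N
  have h2 := finrank_pow_and_end F B S' k
  have hS : finrank F S' = finrank F S := (eS.restrictScalars F).finrank_eq
  have hES : finrank F (Module.End B S') = finrank F (Module.End B S) :=
    (eS.conjAlgEquiv F).toLinearEquiv.finrank_eq
  have hB1 : finrank F B = N * finrank F S := by
    rw [← h1.1]; exact (eB.restrictScalars F).finrank_eq
  have hB2 : finrank F B = N * N * finrank F (Module.End B S) := by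
    rw [← h1.2, ← (eB.conjAlgEquiv F).toLinearEquiv.finrank_eq,
      ← (AlgEquiv.moduleEndSelf F (A := B)).toLinearEquiv.finrank_eq,
      ← (MulOpposite.opLinearEquiv F : B ≃ₗ[F] Bᵐᵒᵖ).finrank_eq]
  have hM1 : finrank F M = k * finrank F S := by
    rw [← hS, ← h2.1]; exact (eM.restrictScalars F).finrank_eq
  have hM2 : finrank F (Module.End B M) = k * k * finrank F (Module.End B S) := by
    rw [← hES, ← h2.2]; exact (eM.conjAlgEquiv F).toLinearEquiv.finrank_eq
  have hN0 : N ≠ 0 := NeZero.ne N
  have hσ : finrank F S = N * finrank F (Module.End B S) := by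
    have : N * finrank F S = N * (N * finrank F (Module.End B S)) := by
      rw [← hB1, hB2]; ring
    exact Nat.eq_of_mul_eq_mul_left (Nat.pos_of_ne_zero hN0) this
  rw [hB2, hM2, hM1, hσ]
  ring

end Groth.Agent.Lib.helper22.SimpleDim
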