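import Mathlib
import Groth.Agent.Lib.helper22.SmoothDescentSch0
open CategoryTheory CategoryTheory.Limits AlgebraicGeometry TensorProduct

namespace Groth.Agent.H22.SmoothDescent
universe u

section G2

lemma flat_fromSpecStalk (Y : Scheme.{u}) (y : Y) : Flat (Y.fromSpecStalk y) := by
  obtain ⟨_, ⟨U, hU, rfl⟩, hyU, -⟩ := Y.isBasis_affineOpens.exists_subset_of_mem_open
    (Set.mem_univ y) isOpen_univ
  rw [← hU.fromSpecStalk_eq_fromSpecStalk hyU]
  unfold IsAffineOpen.fromSpecStalk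
  haveI : Flat (Spec.map (Y.presheaf.germ U y hyU)) := by
    rw [HasRingHomProperty.Spec_iff (P := @Flat)]
    letI : Algebra Γ(Y, U) (Y.presheaf.stalk y) :=
      TopCat.Presheaf.algebra_section_stalk Y.presheaf ⟨y, hyU⟩
    haveI : IsLocalization.AtPrime (Y.presheaf.stalk y) (hU.primeIdealOf ⟨y, hyU⟩).asIdeal :=
      hU.isLocalization_stalk ⟨y, hyU⟩
    have : Module.Flat Γ(Y, U) (Y.presheaf.stalk y) :=
      IsLocalization.flat _ (hU.primeIdealOf ⟨y, hyU⟩).asIdeal.primeCompl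
    exact this
  infer_instance


/-- Pointwise base change of the smooth locus. -/
lemma preimage_smoothLocus_le_of_isPullback {X' Y' X'' T : Scheme.{u}} {f' : X' ⟶ Y'} {j : T ⟶ Y'}
    {a : X'' ⟶ X'} {b : X'' ⟶ T} (H₂ : IsPullback a b f' j)
    [LocallyOfFinitePresentation f'] [LocallyOfFinitePresentation b] :
    a ⁻¹ᵁ f'.smoothLocus ≤ b.smoothLocus := by
  set W := f'.smoothLocus with hW
  have hsm : Smooth (W.ι ≫ f') := by
    rw [← Scheme.Hom.smoothLocus_eq_top_iff, ← Scheme.Hom.preimage_smoothLocus_eq]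
    exact top_le_iff.mp fun x _ => x.2
  have sq : IsPullback (a ∣_ W) ((a ⁻¹ᵁ W).ι ≫ b) (W.ι ≫ f') j :=
    (isPullback_morphismRestrict a W).paste_vert H₂
  have hsm' : Smooth ((a ⁻¹ᵁ W).ι ≫ b) := MorphismProperty.of_isPullback (P := @Smooth) sq hsm
  have h1 : ((a ⁻¹ᵁ W).ι ≫ b).smoothLocus = ⊤ := Scheme.Hom.smoothLocus_eq_top _
  rw [← Scheme.Hom.preimage_smoothLocus_eq] at h1
  intro x hx
  have : (⟨x, hx⟩ : (a ⁻¹ᵁ W).toScheme) ∈ (a ⁻¹ᵁ W).ι ⁻¹ᵁ b.smoothLocus := by rw [h1]; trivial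
  exact this

variable {X S X' S' : Scheme.{u}} {f : X ⟶ S} {g : S' ⟶ S} {f' : X' ⟶ S'} {g' : X' ⟶ X}

/-- Pointwise descent of smoothness along a base change which is flat at the point. -/
theorem mem_smoothLocus_of_isPullback_of_flat_stalkMap (H : IsPullback g' f' f g)
    [LocallyOfFinitePresentation f] [LocallyOfFinitePresentation f'] (x' : X')
    (hg : (g.stalkMap (f' x')).hom.Flat) (hx' : x' ∈ f'.smoothLocus) :
    g' x' ∈ f.smoothLocus := by
  set y' := f' x' with hy'
  set j := S'.fromSpecStalk y' with hj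
  have H₂ : IsPullback (pullback.fst f' j) (pullback.snd f' j) f' j := IsPullback.of_hasPullback _ _
  have H₃ : IsPullback (pullback.fst f' j ≫ g') (pullback.snd f' j) f (j ≫ g) := H₂.paste_horiz H
  haveI : Flat (j ≫ g) := by
    rw [hj, ← Scheme.SpecMap_stalkMap_fromSpecStalk]
    haveI : Flat (Spec.map (g.stalkMap y')) := by
      rw [HasRingHomProperty.Spec_iff (P := @Flat)]
      exact hg
    haveI := flat_fromSpecStalk S (g y')
    infer_instance
  obtain ⟨x'', hx''a, hx''b⟩ := Scheme.Pullback.exists_preimage_pullback (f := f') (g := j) x'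
    (IsLocalRing.closedPoint _) (by rw [hj, Scheme.fromSpecStalk_closedPoint])
  have h1 : x'' ∈ (pullback.snd f' j).smoothLocus :=
    preimage_smoothLocus_le_of_isPullback H₂ (by
      show (pullback.fst f' j) x'' ∈ f'.smoothLocus
      rw [hx''a]; exact hx')
  have h2 := mem_smoothLocus_of_isPullback H₃ x'' h1
  rw [Scheme.Hom.comp_apply, hx''a] at h2
  exact h2

end G2
end Groth.Agent.H22.SmoothDescent
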