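import Mathlib
open TensorProduct Algebra IsLocalRing

namespace Groth.Agent.H22.SmoothFibre
universe u

section F1

lemma isUnit_right_of_mul {A : Type*} [CommRing A] {a b : A} (h : IsUnit (a * b)) : IsUnit b :=
  (IsUnit.mul_iff.mp h).2

set_option backward.isDefEq.respectTransparency false in
/-- The localisation of the fibre ring at a prime `Q'` is `F ⊗[S] S_q`, `q = Q' ∩ S`. -/
lemma formallySmooth_fiber_tensor_localization {R S : Type u} [CommRing R] [CommRing S]
    [Algebra R S] (p : Ideal R) [p.IsPrime] (Q' : Ideal (p.Fiber S)) [Q'.IsPrime]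
    (q : Ideal S) [q.IsPrime]
    (hq : Q'.comap (Algebra.TensorProduct.includeRight : S →ₐ[R] p.Fiber S).toRingHom = q)
    [FormallySmooth p.ResidueField (Localization.AtPrime Q')] :
    letI : Algebra S (p.Fiber S) := Algebra.TensorProduct.rightAlgebra
    FormallySmooth p.ResidueField ((p.Fiber S) ⊗[S] Localization.AtPrime q) := by
  letI : Algebra S (p.Fiber S) := Algebra.TensorProduct.rightAlgebra
  have hM : IsLocalization (algebraMapSubmonoid (p.Fiber S) q.primeCompl) ((p.Fiber S) ⊗[S] Localization.AtPrime q) := inferInstance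
  have hle : algebraMapSubmonoid (p.Fiber S) q.primeCompl ≤ Q'.primeCompl := by
    rintro _ ⟨s, hs, rfl⟩ hmem
    apply hs
    rw [← hq]
    exact hmem
  haveI : IsLocalization Q'.primeCompl ((p.Fiber S) ⊗[S] Localization.AtPrime q) := by
    refine IsLocalization.of_le (algebraMapSubmonoid (p.Fiber S) q.primeCompl) _ hle ?_
    intro x hx
    obtain ⟨r, hr, s, e⟩ := Ideal.Fiber.exists_smul_eq_one_tmul p x
    have hru : IsUnit (algebraMap R (p.Fiber S) r) := by
      rw [IsScalarTower.algebraMap_apply R p.ResidueField (p.Fiber S)]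
      refine IsUnit.map _ ?_
      rw [isUnit_iff_ne_zero, Ne, Ideal.algebraMap_residueField_eq_zero]
      exact hr
    have hs : s ∉ q := by
      intro hsq
      apply hx
      have h1 : (1 : p.ResidueField) ⊗ₜ[R] s ∈ Q' := by
        rw [← hq] at hsq
        exact hsq
      rw [← e, Algebra.smul_def] at h1
      exact (Ideal.IsPrime.mul_mem_left_iff (fun h => Ideal.IsPrime.ne_top inferInstance
        (Ideal.eq_top_of_isUnit_mem _ h hru))).mp h1
    have h2 : IsUnit (algebraMap (p.Fiber S) ((p.Fiber S) ⊗[S] Localization.AtPrime q) ((1 : p.ResidueField) ⊗ₜ[R] s)) :=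
      IsLocalization.map_units (M := algebraMapSubmonoid (p.Fiber S) q.primeCompl) ((p.Fiber S) ⊗[S] Localization.AtPrime q)
        ⟨_, s, hs, rfl⟩
    rw [← e, Algebra.smul_def, map_mul] at h2
    exact isUnit_right_of_mul (A := p.Fiber S ⊗[S] Localization.AtPrime q)
      (a := algebraMap (p.Fiber S) _ (algebraMap R (p.Fiber S) r)) h2
  let e := IsLocalization.algEquiv Q'.primeCompl (Localization.AtPrime Q') ((p.Fiber S) ⊗[S] Localization.AtPrime q)
  let e' : Localization.AtPrime Q' ≃ₐ[p.ResidueField] (p.Fiber S) ⊗[S] Localization.AtPrime q :=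
    e.restrictScalars p.ResidueField
  exact FormallySmooth.of_equiv (A := Localization.AtPrime Q') e'


set_option backward.isDefEq.respectTransparency false in
/-- Pointwise fibre criterion: flat at `q` and the fibre smooth at the point of `q`. -/
lemma isSmoothAt_of_flat_of_fiber {R S : Type u} [CommRing R] [CommRing S] [Algebra R S]
    [Algebra.FinitePresentation R S] (p : Ideal R) (q : Ideal S)
    [p.IsPrime] [q.IsPrime] [q.LiesOver p] [Module.Flat R (Localization.AtPrime q)]
    (Q' : Ideal (p.Fiber S)) [Q'.IsPrime]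
    (hq : Q'.comap (Algebra.TensorProduct.includeRight : S →ₐ[R] p.Fiber S).toRingHom = q)
    [FormallySmooth p.ResidueField (Localization.AtPrime Q')] :
    Algebra.IsSmoothAt R q := by
  let Rp := Localization.AtPrime p
  let Sp := Localization (algebraMapSubmonoid S p.primeCompl)
  let Sq := Localization.AtPrime q
  let := Localization.AtPrime.algebraOfLiesOver p q
  let f : Sp →ₐ[S] Sq := IsLocalization.liftAlgHom (M := algebraMapSubmonoid S p.primeCompl)
        (f := Algebra.ofId _ _) (by
      rintro ⟨_, x, hx, rfl⟩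
      simpa using! IsLocalization.map_units (M := q.primeCompl) Sq ⟨algebraMap _ _ x,
        by simp_all [q.over_def p]⟩)
  algebraize [f.toRingHom]
  have : IsScalarTower R Sp Sq := .to₁₃₄ _ S _ _
  have : IsScalarTower Rp Sp Sq := .of_algebraMap_eq' <| by
    apply IsLocalization.ringHom_ext p.primeCompl
    simp only [RingHom.comp_assoc, ← IsScalarTower.algebraMap_eq]
  have : IsLocalization (algebraMapSubmonoid Sp q.primeCompl) Sq :=
    .isLocalization_of_submonoid_le _ _ (algebraMapSubmonoid S p.primeCompl) _
    (by rintro _ ⟨x, hx, rfl⟩; simp_all [q.over_def p])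
  have : FinitePresentation Rp Sp := by
    have : Algebra.IsPushout R Rp S Sp :=
      .symm <| Algebra.isPushout_of_isLocalization p.primeCompl _ _ _
    exact .equiv (Algebra.IsPushout.equiv R Rp S Sp)
  have : FormallySmooth (ResidueField Rp) (ResidueField Rp ⊗[Rp] Sq) := by
    let : Algebra S (ResidueField Rp ⊗[R] S) := Algebra.TensorProduct.rightAlgebra
    have : FormallySmooth (ResidueField Rp) ((ResidueField Rp ⊗[R] S) ⊗[S] Sq) :=
      formallySmooth_fiber_tensor_localization p Q' q hq
    let e : ResidueField Rp ⊗[R] S ≃ₐ[S] S ⊗[R] ResidueField Rp :=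
      { __ := Algebra.TensorProduct.comm _ _ _, commutes' _ := rfl }
    let e' : (ResidueField Rp ⊗[R] S) ⊗[S] Sq ≃ₐ[R] ResidueField Rp ⊗[Rp] Sq :=
      ((Algebra.TensorProduct.comm _ _ _).restrictScalars R).trans <|
      ((Algebra.TensorProduct.congr (.refl (R := S)) e).restrictScalars R).trans <|
      ((Algebra.TensorProduct.cancelBaseChange _ _ S _ _).restrictScalars R).trans <|
      (Algebra.TensorProduct.comm _ _ _).trans (Algebra.TensorProduct.equivOfCompatibleSMul ..)
    have : e'.toAlgHom.comp (IsScalarTower.toAlgHom R p.ResidueField _) =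
        IsScalarTower.toAlgHom _ _ _ := by ext
    let e'' : (ResidueField Rp ⊗[R] S) ⊗[S] Sq ≃ₐ[ResidueField Rp] ResidueField Rp ⊗[Rp] Sq :=
      { __ := e', commutes' r := congr($this r) }
    exact .of_equiv e''
  have : Module.Flat Rp Sq := by
    rw [Module.flat_iff_of_isLocalization Rp p.primeCompl]
    infer_instance
  have := FormallySmooth.of_formallySmooth_residueField_tensor
    (R := Rp) (S := Sq) (P := Sp) (algebraMapSubmonoid _ q.primeCompl)
  exact .comp R Rp Sq

end F1
end Groth.Agent.H22.SmoothFibre
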