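import Mathlib
import Groth.Agent.Lib.helper22.SmoothFibre0
import Groth.Agent.Lib.helper22.SmoothDescent
open TensorProduct Algebra IsLocalRing

namespace Groth.Agent.H22.SmoothFibre
universe u

section RL

attribute [local instance] Algebra.TensorProduct.rightAlgebra

/-- Fibre criterion after an extension of the residue field. -/
theorem isSmoothAt_of_flat_of_fiber_extension {R S T : Type u} [CommRing R] [CommRing S]
    [CommRing T] [Algebra R S] [Algebra R T] [Algebra.FinitePresentation R S]
    (p : Ideal R) (q : Ideal S) [p.IsPrime] [q.IsPrime] [q.LiesOver p]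
    [Module.Flat R (Localization.AtPrime q)]
    [Algebra p.ResidueField T] [IsScalarTower R p.ResidueField T]
    (Q : PrimeSpectrum (T ⊗[R] S))
    (hq : (PrimeSpectrum.comap (algebraMap S (T ⊗[R] S)) Q).asIdeal = q)
    (hQ : Q ∈ Algebra.smoothLocus T (T ⊗[R] S)) :
    Algebra.IsSmoothAt R q := by
  let e : T ⊗[p.ResidueField] (p.Fiber S) ≃ₐ[T] T ⊗[R] S :=
    Algebra.TensorProduct.cancelBaseChange R p.ResidueField T T S
  let Q₁ : PrimeSpectrum (T ⊗[p.ResidueField] (p.Fiber S)) :=
    PrimeSpectrum.comap e.toAlgHom.toRingHom Q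
  have hQ₁ : Q₁ ∈ Algebra.smoothLocus T (T ⊗[p.ResidueField] (p.Fiber S)) := by
    have h' : Algebra.FormallySmooth T (Localization.AtPrime Q.asIdeal) := hQ
    exact Algebra.FormallySmooth.of_equiv
      (Localization.localAlgEquiv Q₁.asIdeal Q.asIdeal e rfl).symm
  have key := Groth.Agent.H22.SmoothDescent.mem_smoothLocus_of_tensorProduct
    p.ResidueField (p.Fiber S) T Q₁ hQ₁
  set Q' := PrimeSpectrum.comap (algebraMap (p.Fiber S) (T ⊗[p.ResidueField] (p.Fiber S))) Q₁
    with hQ'
  have hcomap : Q'.asIdeal.comap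
      (Algebra.TensorProduct.includeRight : S →ₐ[R] p.Fiber S).toRingHom = q := by
    rw [← hq]
    ext s
    simp only [Ideal.mem_comap, PrimeSpectrum.comap_asIdeal, hQ', Q₁]
    have : e.toAlgHom.toRingHom (algebraMap (p.Fiber S) (T ⊗[p.ResidueField] (p.Fiber S))
        ((Algebra.TensorProduct.includeRight : S →ₐ[R] p.Fiber S).toRingHom s)) =
        algebraMap S (T ⊗[R] S) s := by
      show e ((1 : T) ⊗ₜ[p.ResidueField] ((1 : p.ResidueField) ⊗ₜ[R] s)) = (1 : T) ⊗ₜ[R] s
      simp [e]
    rw [this]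
  haveI : Algebra.FormallySmooth p.ResidueField (Localization.AtPrime Q'.asIdeal) := key
  exact isSmoothAt_of_flat_of_fiber p q Q'.asIdeal hcomap


/-- Pushout form of the fibre criterion: `C = T ⊗[R] S` where `R → T` kills `p` and inverts its
complement (e.g. `T` an extension field of `κ(p)`). -/
theorem isSmoothAt_of_flat_of_isPushout {R S T C : Type u} [CommRing R] [CommRing S]
    [CommRing T] [CommRing C] [Algebra R S] [Algebra R T] [Algebra R C] [Algebra S C] [Algebra T C]
    [IsScalarTower R S C] [IsScalarTower R T C] [Algebra.IsPushout R T S C]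
    [Algebra.FinitePresentation R S]
    (p : Ideal R) (q : Ideal S) [p.IsPrime] [q.IsPrime] [q.LiesOver p]
    [Module.Flat R (Localization.AtPrime q)]
    (h0 : p ≤ RingHom.ker (algebraMap R T))
    (h1 : p.primeCompl ≤ (IsUnit.submonoid T).comap (algebraMap R T))
    (Q : PrimeSpectrum C)
    (hq : (PrimeSpectrum.comap (algebraMap S C) Q).asIdeal = q)
    (hQ : Q ∈ Algebra.smoothLocus T C) :
    Algebra.IsSmoothAt R q := by
  letI : Algebra p.ResidueField T := (Ideal.ResidueField.lift p (algebraMap R T) h0 h1).toAlgebra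
  haveI : IsScalarTower R p.ResidueField T := IsScalarTower.of_algebraMap_eq fun r => by
    rw [RingHom.algebraMap_toAlgebra, Ideal.ResidueField.lift_algebraMap]
  let e := Algebra.IsPushout.equiv R T S C
  let Q₁ : PrimeSpectrum (T ⊗[R] S) := PrimeSpectrum.comap e.toAlgHom.toRingHom Q
  have hQ₁ : Q₁ ∈ Algebra.smoothLocus T (T ⊗[R] S) := by
    have h' : Algebra.FormallySmooth T (Localization.AtPrime Q.asIdeal) := hQ
    exact Algebra.FormallySmooth.of_equiv
      (Localization.localAlgEquiv Q₁.asIdeal Q.asIdeal e rfl).symm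
  refine isSmoothAt_of_flat_of_fiber_extension (T := T) p q Q₁ ?_ hQ₁
  rw [← hq]
  exact congr($(Groth.Agent.H22.SmoothDescent.comap_equiv_comap R S T C Q).asIdeal)

end RL
end Groth.Agent.H22.SmoothFibre
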