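import Mathlib
import Groth.Agent.Lib.helper22.SmoothFibre
import Groth.Agent.Lib.helper22.SmoothDescentSch
open CategoryTheory CategoryTheory.Limits AlgebraicGeometry TensorProduct

namespace Groth.Agent.H22.SmoothFibre
universe u

section FC

theorem mem_basicOpen_iff_notMem_primeIdealOf {S : Scheme.{u}} {V : S.Opens} (hV : IsAffineOpen V)
    (s : S) (hs : s ∈ V) (r : Γ(S, V)) :
    s ∈ S.basicOpen r ↔ r ∉ (hV.primeIdealOf ⟨s, hs⟩).asIdeal := by
  have h2 : hV.fromSpec (hV.primeIdealOf ⟨s, hs⟩) = s := hV.fromSpec_primeIdealOf ⟨s, hs⟩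
  have h3 : hV.primeIdealOf ⟨s, hs⟩ ∈ hV.fromSpec ⁻¹ᵁ S.basicOpen r ↔
      r ∉ (hV.primeIdealOf ⟨s, hs⟩).asIdeal := by
    rw [hV.fromSpec_preimage_basicOpen]
    rfl
  rw [← h3]
  show _ ↔ hV.fromSpec (hV.primeIdealOf ⟨s, hs⟩) ∈ S.basicOpen r
  rw [h2]

/-- For a morphism `t` from the spectrum of a field, sections vanishing at the image point go
to zero and the others go to units. -/
theorem appLE_field {S : Scheme.{u}} {K : Type u} [Field K] (t : Spec (.of K) ⟶ S)
    {V : S.Opens} (hV : IsAffineOpen V) {V' : (Spec (.of K)).Opens} (e : V' ≤ t ⁻¹ᵁ V)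
    (c : Spec (.of K)) (hc : c ∈ V') (r : Γ(S, V)) :
    (r ∈ (hV.primeIdealOf ⟨t c, e hc⟩).asIdeal → (t.appLE V V' e).hom r = 0) ∧
    (r ∉ (hV.primeIdealOf ⟨t c, e hc⟩).asIdeal → IsUnit ((t.appLE V V' e).hom r)) := by
  have hsub : ∀ y : Spec (.of K), y = c := fun y =>
    Subsingleton.elim (α := PrimeSpectrum K) y c
  have hbo := Scheme.basicOpen_appLE t V' V e r
  constructor
  · intro hr
    have : (Spec (.of K)).basicOpen ((t.appLE V V' e).hom r) = ⊥ := by
      rw [hbo]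
      ext y
      simp only [TopologicalSpace.Opens.coe_inf, Set.mem_inter_iff, SetLike.mem_coe,
        TopologicalSpace.Opens.coe_bot, Set.mem_empty_iff_false, iff_false, not_and]
      intro _ hy
      rw [hsub y] at hy
      exact ((mem_basicOpen_iff_notMem_primeIdealOf hV (t c) (e hc) r).mp hy) hr
    exact (basicOpen_eq_bot_iff _).mp this
  · intro hr
    have : (Spec (.of K)).basicOpen ((t.appLE V V' e).hom r) = V' := by
      rw [hbo]
      refine le_antisymm inf_le_left ?_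
      intro y hy
      refine ⟨hy, ?_⟩
      rw [hsub y]
      exact (mem_basicOpen_iff_notMem_primeIdealOf hV (t c) (e hc) r).mpr hr
    refine RingedSpace.isUnit_of_isUnit_germ (X := (Spec (.of K)).toLocallyRingedSpace.toRingedSpace)
      V' _ ?_
    intro y hy
    have hy' : y ∈ (Spec (.of K)).basicOpen ((t.appLE V V' e).hom r) := by rw [this]; exact hy
    exact ((Spec (.of K)).mem_basicOpen _ y hy).mp hy'


open Groth.Agent.H22.SmoothDescent in
/-- Fibre criterion for smoothness at a point: `f` flat at `x = a z` and the base change of `f`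
to a field (a geometric or scheme-theoretic fibre) smooth at `z`. -/
theorem mem_smoothLocus_of_flat_of_fibre {X S P : Scheme.{u}} {K : Type u} [Field K]
    {f : X ⟶ S} {t : Spec (.of K) ⟶ S} {a : P ⟶ X} {b : P ⟶ Spec (.of K)}
    (H : IsPullback a b f t) [LocallyOfFinitePresentation f] [LocallyOfFinitePresentation b]
    (z : P) (hflat : (f.stalkMap (a z)).hom.Flat) (hz : z ∈ b.smoothLocus) :
    a z ∈ f.smoothLocus := by
  obtain ⟨V, hV, U, hU, hUV, V', hV', hV'V, UY, hUY, h1, h2, hzUY, hpo⟩ :=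
    exists_affine_pushout H z
  rw [Scheme.Hom.mem_smoothLocus, formallySmooth_stalkMap_iff V hV U hU hUV (h1 hzUY)]
  rw [Scheme.Hom.mem_smoothLocus, formallySmooth_stalkMap_iff V' hV' UY hUY h2 hzUY] at hz
  letI := (f.appLE V U hUV).hom.toAlgebra
  letI := (t.appLE V V' hV'V).hom.toAlgebra
  letI := (a.appLE U UY h1).hom.toAlgebra
  letI := (b.appLE V' UY h2).hom.toAlgebra
  letI : Algebra Γ(S, V) Γ(P, UY) := (f.appLE V U hUV ≫ a.appLE U UY h1).hom.toAlgebra
  haveI : IsScalarTower Γ(S, V) Γ(X, U) Γ(P, UY) := IsScalarTower.of_algebraMap_eq' rfl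
  haveI : IsScalarTower Γ(S, V) Γ(Spec (.of K), V') Γ(P, UY) := IsScalarTower.of_algebraMap_eq' (by
    show (f.appLE V U hUV ≫ a.appLE U UY h1).hom = (t.appLE V V' hV'V ≫ b.appLE V' UY h2).hom
    rw [hpo.w])
  haveI : Algebra.IsPushout Γ(S, V) Γ(Spec (.of K), V') Γ(X, U) Γ(P, UY) :=
    (CommRingCat.isPushout_iff_isPushout (R := Γ(S, V)) (R' := Γ(Spec (.of K), V'))
      (S := Γ(X, U)) (S' := Γ(P, UY))).mp hpo.flip
  haveI : Algebra.FinitePresentation Γ(S, V) Γ(X, U) :=
    HasRingHomProperty.appLE @LocallyOfFinitePresentation f inferInstance ⟨V, hV⟩ ⟨U, hU⟩ hUV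
  have hxU : a z ∈ U := h1 hzUY
  have hpq : (hV.primeIdealOf ⟨f (a z), hUV hxU⟩).asIdeal =
      Ideal.comap (f.appLE V U hUV).hom (hU.primeIdealOf ⟨a z, hxU⟩).asIdeal :=
    congr($(IsAffineOpen.comap_primeIdealOf_appLE V hV U hU hUV hxU).1).symm
  haveI : (hU.primeIdealOf ⟨a z, hxU⟩).asIdeal.LiesOver
      (hV.primeIdealOf ⟨f (a z), hUV hxU⟩).asIdeal := ⟨hpq⟩
  -- flatness of the local ring
  haveI : Module.Flat Γ(S, V) (Localization.AtPrime (hU.primeIdealOf ⟨a z, hxU⟩).asIdeal) := by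
    have hfl := (RingHom.Flat.respectsIso.arrow_mk_iso_iff
      (IsAffineOpen.arrowStalkMapIso f V hV U hU hUV hxU)).mp hflat
    letI := Localization.AtPrime.algebraOfLiesOver (hV.primeIdealOf ⟨f (a z), hUV hxU⟩).asIdeal
      (hU.primeIdealOf ⟨a z, hxU⟩).asIdeal
    haveI : Module.Flat (Localization.AtPrime (hV.primeIdealOf ⟨f (a z), hUV hxU⟩).asIdeal)
        (Localization.AtPrime (hU.primeIdealOf ⟨a z, hxU⟩).asIdeal) := hfl
    exact Module.Flat.trans Γ(S, V)
      (Localization.AtPrime (hV.primeIdealOf ⟨f (a z), hUV hxU⟩).asIdeal) _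
  -- the point of the field
  have hbz : b z ∈ V' := h2 hzUY
  have htb : t (b z) = f (a z) := by
    rw [← Scheme.Hom.comp_apply, ← H.w, Scheme.Hom.comp_apply]
  have hfield := fun r => appLE_field t hV hV'V (b z) hbz r
  have hpe : (hV.primeIdealOf ⟨t (b z), hV'V hbz⟩) = (hV.primeIdealOf ⟨f (a z), hUV hxU⟩) := by
    congr 1
    exact Subtype.ext htb
  have hq := congr($(IsAffineOpen.comap_primeIdealOf_appLE U hU UY hUY h1 hzUY).1)
  refine isSmoothAt_of_flat_of_isPushout (T := Γ(Spec (.of K), V')) (C := Γ(P, UY))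
    (hV.primeIdealOf ⟨f (a z), hUV hxU⟩).asIdeal (hU.primeIdealOf ⟨a z, hxU⟩).asIdeal ?_ ?_
    (hUY.primeIdealOf ⟨z, hzUY⟩) hq hz
  · intro r hr
    rw [RingHom.mem_ker]
    exact (hfield r).1 (by rw [hpe]; exact hr)
  · intro r hr
    exact (hfield r).2 (by rw [hpe]; exact hr)

end FC
end Groth.Agent.H22.SmoothFibre
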