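import Mathlib
import Groth.Agent.Lib.helper22.SimpleDim
import Groth.Agent.Lib.helper17.CSABaseChange

set_option autoImplicit false

namespace Groth.Agent.Lib.helper22.SimpleDim

open Module Polynomial TensorProduct

/-- Let `A` be a central simple `K`-algebra of dimension `n ^ 2`, `Q` a finite-dimensional
`A`-module and `T` an `A`-linear endomorphism of `Q` killed by an irreducible polynomial `g` over
`K`.  Then `n * deg g` divides `dim_K Q`. -/
theorem mul_natDegree_dvd_finrank (K A Q : Type*) [Field K] [Ring A] [Algebra K A]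
    [Algebra.IsCentral K A] [IsSimpleRing A] [FiniteDimensional K A]
    [AddCommGroup Q] [Module K Q] [Module A Q] [IsScalarTower K A Q] [FiniteDimensional K Q]
    (n : ℕ) (hn : finrank K A = n ^ 2) (T : Module.End A Q) (g : K[X]) (hg : Irreducible g)
    (hT : Polynomial.aeval (T.restrictScalars K) g = 0) :
    n * g.natDegree ∣ finrank K Q := by
  haveI : Fact (Irreducible g) := ⟨hg⟩
  set T₀ : Module.End K Q := T.restrictScalars K with hT₀
  let φL : AdjoinRoot g →ₐ[K] Module.End K Q :=
    Ideal.Quotient.liftₐ (Ideal.span {g}) (Polynomial.aeval T₀) (by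
      intro a ha
      obtain ⟨c, rfl⟩ := Ideal.mem_span_singleton.mp ha
      rw [map_mul, hT, zero_mul])
  let φA : A →ₐ[K] Module.End K Q := Algebra.lsmul K K Q
  have hcomm : ∀ l a, Commute (φL l) (φA a) := by
    intro l a
    obtain ⟨p, rfl⟩ := AdjoinRoot.mk_surjective l
    have h1 : φL (AdjoinRoot.mk g p) = Polynomial.aeval T₀ p := rfl
    rw [h1]
    have h2 : Commute T₀ (φA a) := by
      ext q
      simp [T₀, φA]
    exact (Polynomial.aeval_mem_adjoin_singleton K T₀ (p := p)) |> fun hmem => by
      have hle : Algebra.adjoin K {T₀} ≤ Subalgebra.centralizer K {φA a} := by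
        apply Algebra.adjoin_le
        intro b hb
        rw [Set.mem_singleton_iff] at hb
        rw [SetLike.mem_coe, Subalgebra.mem_centralizer_iff]
        intro c hc
        rw [Set.mem_singleton_iff] at hc
        rw [hb, hc]
        exact h2.eq.symm
      have := hle hmem
      rw [Subalgebra.mem_centralizer_iff] at this
      exact (this _ rfl).symm
  let ρ : AdjoinRoot g ⊗[K] A →ₐ[K] Module.End K Q := Algebra.TensorProduct.lift φL φA hcomm
  letI modB : Module (AdjoinRoot g ⊗[K] A) Q := Module.compHom Q ρ.toRingHom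
  letI modL : Module (AdjoinRoot g) Q := Module.compHom Q φL.toRingHom
  have hsmulB : ∀ (b : AdjoinRoot g ⊗[K] A) (q : Q), b • q = ρ b q := fun _ _ => rfl
  have hsmulL : ∀ (l : AdjoinRoot g) (q : Q), l • q = φL l q := fun _ _ => rfl
  haveI : IsScalarTower (AdjoinRoot g) (AdjoinRoot g ⊗[K] A) Q := ⟨fun l b q => by
    rw [hsmulB, hsmulL, hsmulB, Algebra.smul_def, map_mul, Algebra.TensorProduct.algebraMap_apply]
    simp [ρ]⟩
  haveI : IsScalarTower K (AdjoinRoot g) Q := ⟨fun c l q => by
    rw [hsmulL, hsmulL, map_smul]; rfl⟩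
  haveI : FiniteDimensional (AdjoinRoot g) Q := Module.Finite.of_restrictScalars_finite K _ Q
  haveI : IsSimpleRing (AdjoinRoot g ⊗[K] A) :=
    Groth.Agent.Lib.helper17.CSA.isSimpleRing_tensor K A (AdjoinRoot g)
  have hW := finrank_mul_finrank_end (AdjoinRoot g) (AdjoinRoot g ⊗[K] A) Q
  have hB : finrank (AdjoinRoot g) (AdjoinRoot g ⊗[K] A) = n ^ 2 := by
    rw [Module.finrank_baseChange, hn]
  have hL : finrank K (AdjoinRoot g) = g.natDegree := finrank_quotient_span_eq_natDegree
  have hQ : finrank K Q = finrank K (AdjoinRoot g) * finrank (AdjoinRoot g) Q :=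
    (Module.finrank_mul_finrank K (AdjoinRoot g) Q).symm
  have hdvd : n ∣ finrank (AdjoinRoot g) Q := by
    rw [← Nat.pow_dvd_pow_iff two_ne_zero, ← hW, hB]
    exact dvd_mul_right _ _
  rw [hQ, hL, mul_comm]
  exact mul_dvd_mul_left _ hdvd

theorem aeval_mulRight_apply (K A : Type*) [Field K] [Ring A] [Algebra K A] (x : A) (p : K[X])
    (y : A) : Polynomial.aeval (LinearMap.mulRight K x) p y = y * Polynomial.aeval x p := by
  induction p using Polynomial.induction_on' with
  | add p q hp hq => simp [hp, hq, mul_add]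
  | monomial n c =>
    simp [Polynomial.aeval_monomial, LinearMap.pow_mulRight, Algebra.smul_def,
      Algebra.commutes, mul_assoc, mul_left_comm]

/-- In a central division algebra of dimension `n ^ 2`, the degree of the minimal polynomial of
any element divides `n`. -/
theorem natDegree_minpoly_dvd (K A : Type*) [Field K] [DivisionRing A] [Algebra K A]
    [Algebra.IsCentral K A] [FiniteDimensional K A] (n : ℕ) (hn : finrank K A = n ^ 2) (x : A) :
    (minpoly K x).natDegree ∣ n := by
  have hint : IsIntegral K x := Algebra.IsIntegral.isIntegral x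
  have hirr : Irreducible (minpoly K x) := minpoly.irreducible hint
  let T : Module.End A A := LinearMap.toSpanSingleton A A x
  have hT0 : T.restrictScalars K = LinearMap.mulRight K x := by
    ext y; simp [T]
  have hT : Polynomial.aeval (T.restrictScalars K) (minpoly K x) = 0 := by
    rw [hT0]
    ext y
    rw [aeval_mulRight_apply, minpoly.aeval, mul_zero]; rfl
  have h := mul_natDegree_dvd_finrank K A A n hn T (minpoly K x) hirr hT
  rw [hn, pow_two] at h
  have hn0 : 0 < n := by
    rcases Nat.eq_zero_or_pos n with h0 | h0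
    · exfalso
      rw [h0] at hn
      have : 0 < finrank K A := Module.finrank_pos
      omega
    · exact h0
  exact (Nat.mul_dvd_mul_iff_left hn0).mp h


theorem multiset_prod_eq (K E : Type*) [Field K] [Field E] (ι : K →+* E) (xE : E) (R : Multiset E)
    (h : ∀ y ∈ R, ∃ ζ : K, y = ι ζ * xE) : ∃ Z : K, R.prod = ι Z * xE ^ (Multiset.card R) := by
  induction R using Multiset.induction_on with
  | empty => exact ⟨1, by simp⟩
  | cons y R ih =>
    obtain ⟨Z, hZ⟩ := ih (fun y hy => h y (Multiset.mem_cons_of_mem hy))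
    obtain ⟨ζ, hζ⟩ := h y (Multiset.mem_cons_self y R)
    refine ⟨ζ * Z, ?_⟩
    rw [Multiset.prod_cons, hZ, hζ, Multiset.card_cons, map_mul, pow_succ]
    ring

/-- If `K` contains all roots of unity and `x ^ m ∈ K` with `x ≠ 0` algebraic over `K`, then
`x ^ d ∈ K` where `d` is the degree of `x` over `K`. -/
theorem pow_natDegree_minpoly_mem (K L : Type*) [Field K] [Field L] [Algebra K L]
    (hK : ∀ n : ℕ, 0 < n → (X ^ n - 1 : K[X]).Splits) (x : L) (hx : x ≠ 0) (hint : IsIntegral K x)
    (m : ℕ) (hm : 0 < m) (a : K) (hxm : x ^ m = algebraMap K L a) :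
    ∃ c : K, x ^ (minpoly K x).natDegree = algebraMap K L c := by
  let E := AlgebraicClosure L
  let ι : K →+* E := algebraMap K E
  set xE : E := algebraMap L E x with hxE
  have hxE0 : xE ≠ 0 := by
    rw [hxE]; exact (_root_.map_ne_zero _).mpr hx
  set f := minpoly K x with hf
  have hmonic : f.Monic := minpoly.monic hint
  have hsp : (f.map ι).Splits := IsAlgClosed.splits _
  have hmonicE : (f.map ι).Monic := hmonic.map ι
  have hdeg : (f.map ι).natDegree = f.natDegree := natDegree_map _
  have hcard : Multiset.card (f.map ι).roots = f.natDegree := by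
    rw [← hsp.natDegree_eq_card_roots, hdeg]
  have hcoeff := hsp.coeff_zero_eq_prod_roots_of_monic hmonicE
  rw [hdeg, coeff_map] at hcoeff
  have hdvd : f ∣ X ^ m - C a := by
    apply minpoly.dvd
    simp [hxm]
  have hxEm : xE ^ m = ι a := by
    rw [hxE, ← map_pow, hxm]
    exact (IsScalarTower.algebraMap_apply K L E a).symm
  have hroots : ∀ y ∈ (f.map ι).roots, ∃ ζ : K, y = ι ζ * xE := by
    intro y hy
    have hy0 : eval y (f.map ι) = 0 := (mem_roots'.mp hy).2
    have hym : y ^ m = ι a := by
      obtain ⟨q, hq⟩ := hdvd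
      have := congrArg (fun p => eval y (p.map ι)) hq
      simp only [Polynomial.map_mul, eval_mul, hy0, zero_mul] at this
      simp at this
      exact sub_eq_zero.mp this
    have h1 : (y * xE⁻¹) ^ m = 1 := by
      rw [mul_pow, inv_pow, hym, hxEm, mul_inv_cancel₀]
      rw [← hxEm]; exact pow_ne_zero _ hxE0
    have hne : (X ^ m - 1 : K[X]) ≠ 0 := X_pow_sub_C_ne_zero hm 1
    have hroot : ((X ^ m - 1 : K[X]).map ι).IsRoot (y * xE⁻¹) := by
      simp [h1]
    obtain ⟨ζ, hζ⟩ := (hK m hm).mem_range_of_isRoot hne hroot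
    refine ⟨ζ, ?_⟩
    rw [hζ, mul_assoc, inv_mul_cancel₀ hxE0, mul_one]
  obtain ⟨Z, hZ⟩ := multiset_prod_eq K E ι xE _ hroots
  rw [hcard] at hZ
  rw [hZ] at hcoeff
  have hc0 : f.coeff 0 ≠ 0 := minpoly.coeff_zero_ne_zero hint hx
  have hZ0 : Z ≠ 0 := by
    rintro rfl
    rw [map_zero, zero_mul, mul_zero] at hcoeff
    exact hc0 ((map_eq_zero ι).mp hcoeff)
  refine ⟨(-1) ^ f.natDegree * f.coeff 0 / Z, ?_⟩
  apply (algebraMap L E).injective
  rw [map_pow, ← hxE, ← IsScalarTower.algebraMap_apply K L E]
  show xE ^ f.natDegree = ι _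
  rw [map_div₀, map_mul, hcoeff, map_pow, map_neg, map_one]
  have hιZ : ι Z ≠ 0 := (_root_.map_ne_zero ι).mpr hZ0
  have h1 : ((-1 : E) ^ f.natDegree) * ((-1) ^ f.natDegree) = 1 := by
    rw [← mul_pow, neg_one_mul, neg_neg, one_pow]
  rw [← mul_assoc, h1, one_mul, mul_comm, mul_div_assoc, div_self hιZ, mul_one]



section
variable (K A Q : Type*) [Field K] [Ring A] [Algebra K A]
    [AddCommGroup Q] [Module K Q] [Module A Q] [IsScalarTower K A Q]

theorem aeval_restrictScalars_apply (T : Module.End A Q) (p : K[X]) (q : Q) :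
    Polynomial.aeval (T.restrictScalars K) p q = Polynomial.aeval T p q := by
  induction p using Polynomial.induction_on' with
  | add p q hp hq => simp [hp, hq]
  | monomial n c =>
    simp [Polynomial.aeval_monomial, Module.End.pow_apply, Algebra.algebraMap_eq_smul_one]

theorem aeval_restrict_apply (T : Module.End A Q) (N : Submodule A Q) (h : ∀ x ∈ N, T x ∈ N)
    (p : K[X]) (q : N) :
    ((Polynomial.aeval (T.restrict h) p) q : Q) = Polynomial.aeval T p (q : Q) := by
  induction p using Polynomial.induction_on' with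
  | add p q hp hq => simp [hp, hq]
  | monomial n c =>
    simp only [Polynomial.aeval_monomial, Module.End.pow_apply, Algebra.algebraMap_eq_smul_one,
      Module.End.mul_apply, LinearMap.smul_apply, Module.End.one_apply, Submodule.coe_smul]
    congr 1
    induction n generalizing q with
    | zero => rfl
    | succ n ih =>
      rw [Function.iterate_succ_apply, Function.iterate_succ_apply, ih]
      rfl

theorem finrank_ker_add_finrank_range [FiniteDimensional K Q] (G : Module.End A Q) :
    finrank K (LinearMap.range G) + finrank K (LinearMap.ker G) = finrank K Q := by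
  have h := (G.restrictScalars K).finrank_range_add_finrank_ker
  exact h

end

universe w

/-- variant of `mul_natDegree_dvd_finrank` with the polynomial evaluated in `End_A Q`. -/
theorem mul_natDegree_dvd_finrank' (K A Q : Type*) [Field K] [Ring A] [Algebra K A]
    [Algebra.IsCentral K A] [IsSimpleRing A] [FiniteDimensional K A]
    [AddCommGroup Q] [Module K Q] [Module A Q] [IsScalarTower K A Q] [FiniteDimensional K Q]
    (n : ℕ) (hn : finrank K A = n ^ 2) (T : Module.End A Q) (g : K[X]) (hg : Irreducible g)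
    (hT : Polynomial.aeval T g = 0) :
    n * g.natDegree ∣ finrank K Q := by
  apply mul_natDegree_dvd_finrank K A Q n hn T g hg
  ext q
  rw [aeval_restrictScalars_apply, hT]
  rfl

/-- If `T ∈ End_A(Q)` is killed by a product of irreducible polynomials all of degree `r`, then
`n * r` divides `dim_K Q` (`A` central simple of dimension `n ^ 2`). -/
theorem mul_dvd_finrank_of_prod (K A : Type*) [Field K] [Ring A] [Algebra K A]
    [Algebra.IsCentral K A] [IsSimpleRing A] [FiniteDimensional K A]
    (n : ℕ) (hn : finrank K A = n ^ 2) (r : ℕ) (s : Multiset K[X]) :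
    (∀ g ∈ s, Irreducible g ∧ g.natDegree = r) →
    ∀ (Q : Type w) [AddCommGroup Q] [Module K Q] [Module A Q] [IsScalarTower K A Q]
      [FiniteDimensional K Q] (T : Module.End A Q),
      Polynomial.aeval T s.prod = 0 → n * r ∣ finrank K Q := by
  induction s using Multiset.induction_on with
  | empty =>
    intro _ Q _ _ _ _ _ T hT
    rw [Multiset.prod_zero, map_one] at hT
    haveI : Subsingleton Q := ⟨fun a b => by
      have ha : a = (1 : Module.End A Q) a := rfl
      have hb : b = (1 : Module.End A Q) b := rfl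
      rw [ha, hb, hT]; rfl⟩
    rw [Module.finrank_zero_of_subsingleton]
    exact dvd_zero _
  | cons g s ih =>
    intro hs Q _ _ _ _ _ T hT
    have hg := hs g (Multiset.mem_cons_self g s)
    have hs' : ∀ g' ∈ s, Irreducible g' ∧ g'.natDegree = r :=
      fun g' hg' => hs g' (Multiset.mem_cons_of_mem hg')
    rw [Multiset.prod_cons, map_mul] at hT
    set G : Module.End A Q := Polynomial.aeval T g with hG
    have hcomm : G * T = T * G := by
      have h1 : Polynomial.aeval T (g * X) = Polynomial.aeval T (X * g) := by rw [mul_comm]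
      rwa [map_mul, map_mul, aeval_X] at h1
    have hcomm' : ∀ q, G (T q) = T (G q) := fun q => LinearMap.congr_fun hcomm q
    have hker : ∀ q ∈ LinearMap.ker G, T q ∈ LinearMap.ker G := by
      intro q hq
      rw [LinearMap.mem_ker] at hq ⊢
      rw [hcomm', hq, map_zero]
    have hrange : ∀ q ∈ LinearMap.range G, T q ∈ LinearMap.range G := by
      rintro _ ⟨q, rfl⟩
      exact ⟨T q, hcomm' q⟩
    haveI : ∀ N : Submodule A Q, FiniteDimensional K N := fun N =>
      Module.Finite.of_injective ((Submodule.subtype N).restrictScalars K) Subtype.val_injective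
    have h1 : n * r ∣ finrank K (LinearMap.ker G) := by
      rw [← hg.2]
      apply mul_natDegree_dvd_finrank' K A (LinearMap.ker G) n hn (T.restrict hker) g hg.1
      ext q
      rw [aeval_restrict_apply]
      exact q.2
    have h2 : n * r ∣ finrank K (LinearMap.range G) := by
      apply ih hs' (LinearMap.range G) (T.restrict hrange)
      ext q
      rw [aeval_restrict_apply]
      obtain ⟨q, q₀, rfl⟩ := q
      have : (Polynomial.aeval T s.prod) (G q₀) = (G * Polynomial.aeval T s.prod) q₀ := by
        have h3 : G * Polynomial.aeval T s.prod = Polynomial.aeval T s.prod * G := by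
          rw [hG, ← map_mul, ← map_mul, mul_comm]
        rw [h3]; rfl
      rw [this, hT]
      rfl
    rw [← finrank_ker_add_finrank_range K A Q G]
    exact dvd_add h2 h1



/-- two `m`-th roots of the same element of `K` have the same degree over `K` (one inequality) -/
theorem natDegree_minpoly_le (K E : Type*) [Field K] [Field E] [Algebra K E]
    (hK : ∀ n : ℕ, 0 < n → (X ^ n - 1 : K[X]).Splits) (y z : E) (hy : y ≠ 0)
    (hyint : IsIntegral K y) (m : ℕ) (hm : 0 < m) (a : K)
    (hym : y ^ m = algebraMap K E a) (hzm : z ^ m = algebraMap K E a) :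
    (minpoly K z).natDegree ≤ (minpoly K y).natDegree := by
  obtain ⟨c, hc⟩ := pow_natDegree_minpoly_mem K E hK y hy hyint m hm a hym
  set d := (minpoly K y).natDegree with hd
  have hd0 : 0 < d := minpoly.natDegree_pos hyint
  have h1 : (z * y⁻¹) ^ m = 1 := by
    rw [mul_pow, inv_pow, hzm, hym, mul_inv_cancel₀]
    rw [← hym]; exact pow_ne_zero _ hy
  have hne : (X ^ m - 1 : K[X]) ≠ 0 := X_pow_sub_C_ne_zero hm 1
  have hroot : ((X ^ m - 1 : K[X]).map (algebraMap K E)).IsRoot (z * y⁻¹) := by
    simp [h1]
  obtain ⟨ζ, hζ⟩ := (hK m hm).mem_range_of_isRoot hne hroot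
  have hz : z = algebraMap K E ζ * y := by
    rw [hζ, mul_assoc, inv_mul_cancel₀ hy, mul_one]
  have hzd : z ^ d = algebraMap K E (ζ ^ d * c) := by
    rw [hz, mul_pow, hc, map_mul, map_pow]
  have hdvd : minpoly K z ∣ X ^ d - C (ζ ^ d * c) := by
    apply minpoly.dvd
    simp [hzd]
  have hne' : (X ^ d - C (ζ ^ d * c) : K[X]) ≠ 0 := X_pow_sub_C_ne_zero hd0 _
  calc (minpoly K z).natDegree ≤ (X ^ d - C (ζ ^ d * c) : K[X]).natDegree :=
        natDegree_le_of_dvd hdvd hne'
    _ = d := natDegree_X_pow_sub_C

/-- All monic irreducible factors of `X ^ m - a` over a field containing all roots of unity are of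
the form `X ^ r - b` with a common `r`. -/
theorem exists_common_degree (K : Type*) [Field K]
    (hK : ∀ n : ℕ, 0 < n → (X ^ n - 1 : K[X]).Splits) (m : ℕ) (hm : 0 < m) (a : K) (ha : a ≠ 0) :
    ∃ r : ℕ, 0 < r ∧ ∀ g : K[X], g.Monic → Irreducible g → g ∣ X ^ m - C a →
      g.natDegree = r ∧ ∃ b : K, g = X ^ r - C b := by
  let E := AlgebraicClosure K
  obtain ⟨y₀, hy₀⟩ := IsAlgClosed.exists_pow_nat_eq (algebraMap K E a) hm
  have hint : ∀ z : E, IsIntegral K z := fun z => Algebra.IsIntegral.isIntegral z
  have hιa : algebraMap K E a ≠ 0 := (_root_.map_ne_zero _).mpr ha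
  have hne0 : ∀ z : E, z ^ m = algebraMap K E a → z ≠ 0 := by
    rintro z hz rfl
    rw [zero_pow hm.ne'] at hz
    exact hιa hz.symm
  refine ⟨(minpoly K y₀).natDegree, minpoly.natDegree_pos (hint y₀), ?_⟩
  intro g hmonic hirr hdvd
  obtain ⟨z, hz⟩ := IsAlgClosed.exists_aeval_eq_zero E g (degree_pos_of_irreducible hirr).ne'
  have hzm : z ^ m = algebraMap K E a := by
    obtain ⟨q, hq⟩ := hdvd
    have := congrArg (Polynomial.aeval z) hq
    rw [map_mul, hz, zero_mul] at this
    simp at this
    exact sub_eq_zero.mp this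
  have hmin : g = minpoly K z := minpoly.eq_of_irreducible_of_monic hirr hz hmonic
  have hdeg : g.natDegree = (minpoly K y₀).natDegree := by
    rw [hmin]
    exact le_antisymm
      (natDegree_minpoly_le K E hK y₀ z (hne0 y₀ hy₀) (hint y₀) m hm a hy₀ hzm)
      (natDegree_minpoly_le K E hK z y₀ (hne0 z hzm) (hint z) m hm a hzm hy₀)
  refine ⟨hdeg, ?_⟩
  obtain ⟨b, hb⟩ := pow_natDegree_minpoly_mem K E hK z (hne0 z hzm) (hint z) m hm a hzm
  rw [← hmin, hdeg] at hb
  refine ⟨b, ?_⟩
  have hdvd' : g ∣ X ^ (minpoly K y₀).natDegree - C b := by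
    rw [hmin]
    apply minpoly.dvd
    simp [hb]
  have hr0 : (minpoly K y₀).natDegree ≠ 0 := (minpoly.natDegree_pos (hint y₀)).ne'
  exact (Polynomial.eq_of_monic_of_dvd_of_natDegree_le hmonic (monic_X_pow_sub_C b hr0) hdvd'
    (by rw [natDegree_X_pow_sub_C, hdeg])).symm


end Groth.Agent.Lib.helper22.SimpleDim
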