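import Mathlib

/-!
# Agreement locus of two morphisms into an unramified scheme

For `h : Y ⟶ S` formally unramified and locally of finite type and `f g : X ⟶ Y` with
`f ≫ h = g ≫ h`, the locus where `f` and `g` agree is an open subscheme of `X`
(closed as well when `h` is separated).
-/

universe u

open CategoryTheory CategoryTheory.Limits AlgebraicGeometry

namespace Groth.Agent.H22.UnramEq

set_option backward.isDefEq.respectTransparency false in
theorem isOpenImmersion_equalizer_ι_left {S : Scheme.{u}} {X Y : Over S}
    [IsOpenImmersion (pullback.diagonal Y.hom)]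
    (f g : X ⟶ Y) : IsOpenImmersion (equalizer.ι f g).left := by
  refine MorphismProperty.of_isPullback (P := @IsOpenImmersion)
    ((Limits.isPullback_equalizer_prod f g).map (Over.forget _)).flip ?_
  rw [← MorphismProperty.cancel_right_of_respectsIso (P := @IsOpenImmersion) _
    (Over.prodLeftIsoPullback Y Y).hom]
  convert! (inferInstance : IsOpenImmersion (pullback.diagonal Y.hom))
  ext1 <;> simp [← Over.comp_left]

/-- The agreement locus: an open `U` of `X` on which `f` and `g` agree and through which every
morphism equalizing `f` and `g` factors. -/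
theorem exists_agreement_open {X Y S : Scheme.{u}} (h : Y ⟶ S) [FormallyUnramified h]
    [LocallyOfFiniteType h] (f g : X ⟶ Y) (w : f ≫ h = g ≫ h) :
    ∃ U : X.Opens, U.ι ≫ f = U.ι ≫ g ∧
      (∀ {T : Scheme.{u}} (t : T ⟶ X), t ≫ f = t ≫ g → Set.range t ⊆ (U : Set X)) ∧
      (IsSeparated h → IsClosed (U : Set X)) := by
  let X' : Over S := Over.mk (f ≫ h)
  let Y' : Over S := Over.mk h
  let f' : X' ⟶ Y' := Over.homMk f
  let g' : X' ⟶ Y' := Over.homMk g (by simpa [X', Y'] using w.symm)
  haveI : IsOpenImmersion (pullback.diagonal Y'.hom) :=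
    inferInstanceAs (IsOpenImmersion (pullback.diagonal h))
  haveI := isOpenImmersion_equalizer_ι_left f' g'
  have hcond : (equalizer.ι f' g').left ≫ f = (equalizer.ι f' g').left ≫ g :=
    congr($(equalizer.condition f' g').left)
  refine ⟨(equalizer.ι f' g').left.opensRange, ?_, ?_, ?_⟩
  · rw [← cancel_epi ((equalizer.ι f' g').left.isoOpensRange).hom]
    simpa using hcond
  · intro T t ht
    let T' : Over S := Over.mk (t ≫ f ≫ h)
    let t' : T' ⟶ X' := Over.homMk t
    have ht' : t' ≫ f' = t' ≫ g' := by
      ext1
      exact ht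
    rintro _ ⟨z, rfl⟩
    refine ⟨(equalizer.lift t' ht').left z, ?_⟩
    rw [← Scheme.Hom.comp_apply, ← Over.comp_left, equalizer.lift_ι]
    rfl
  · intro hsep
    haveI : IsSeparated Y'.hom := hsep
    exact (equalizer.ι f' g').left.isClosedEmbedding.isClosed_range

end Groth.Agent.H22.UnramEq
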