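import Mathlib
import Groth.Agent.S14892
import Groth.Agent.S14729

/-!
# Valuation rings of finitely generated fields have finite height

* `exists_trdeg`: a finitely generated field has finite transcendence degree over its prime field.
* `dim_le`: a valuation ring `A` with fraction field `K` (given via an injective `f : A →+* K`
  with every element a quotient) has `ringKrullDim A ≤ trdeg + 1`.
* `finite_spec_of_dim`: a valuation ring of finite Krull dimension has finite spectrum.
-/

set_option autoImplicit false

namespace Groth.Agent.H22.ValDim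
universe u
open Cardinal

/-- finitely generated fields have finite trdeg over the prime field -/
theorem exists_trdeg {L : Type u} [Field L] (s : Set L) (hs : s.Finite) :
    ∃ d : ℕ, Algebra.trdeg (⊥ : Subfield (Subfield.closure s)) (Subfield.closure s) = d := by
  classical
  set K := Subfield.closure s with hK
  let k : Subfield K := ⊥
  let S' : Set K := {x | (x : L) ∈ s}
  have hS'fin : S'.Finite := hs.preimage (Subtype.val_injective.injOn)
  have hall : ∀ x : K, x ∈ IntermediateField.adjoin k S' := by
    rintro ⟨x, hx⟩
    induction hx using Subfield.closure_induction with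
    | mem x hx => exact IntermediateField.subset_adjoin _ _ hx
    | one => exact one_mem _
    | add x y hx hy ihx ihy => exact add_mem ihx ihy
    | neg x hx ih => exact neg_mem ih
    | inv x hx ih => exact inv_mem ih
    | mul x y hx hy ihx ihy => exact mul_mem ihx ihy
  haveI : Algebra.IsAlgebraic (Algebra.adjoin k S') K := by
    haveI : IsFractionRing (Algebra.adjoin k S') K := .of_field _ _ fun x => by
      obtain ⟨a, ha, b, hb, h⟩ := IntermediateField.mem_adjoin_iff_div.mp (hall x)
      exact ⟨⟨a, ha⟩, ⟨b, hb⟩, h⟩
    exact IsLocalization.isAlgebraic _ (nonZeroDivisors (Algebra.adjoin k S'))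
  have h1 := Algebra.IsAlgebraic.trdeg_le_cardinalMk k S'
  have h2 : #S' < ℵ₀ := by
    rw [Cardinal.lt_aleph0_iff_set_finite]; exact hS'fin
  obtain ⟨d, hd⟩ := Cardinal.lt_aleph0.mp (lt_of_le_of_lt h1 h2)
  exact ⟨d, hd⟩

/-- A valuation ring with fraction field `K` of transcendence degree `d` over the prime field
has Krull dimension at most `d + 1`. -/
theorem dim_le {A K : Type u} [CommRing A] [IsDomain A] [ValuationRing A] [Field K]
    (f : A →+* K) (hf : Function.Injective f)
    (hfrac : ∀ x : K, ∃ a b : A, b ≠ 0 ∧ x = f a / f b) (d : ℕ)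
    (hd : Algebra.trdeg (⊥ : Subfield K) K = d) :
    ringKrullDim A ≤ ((d + 1 : ℕ) : WithBot ℕ∞) := by
  let V : ValuationSubring K :=
    { f.range with
      mem_or_inv_mem' := by
        intro x
        obtain ⟨a, b, hb, rfl⟩ := hfrac x
        obtain ⟨c, hc | hc⟩ := ValuationRing.cond a b
        · by_cases ha : a = 0
          · left; rw [ha, map_zero, zero_div]; exact f.range.zero_mem
          · right
            refine ⟨c, ?_⟩
            have hfa : f a ≠ 0 := fun h => ha (hf (by rw [h, map_zero]))
            rw [← hc, map_mul, inv_div]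
            field_simp
        · left
          refine ⟨c, ?_⟩
          have hfb : f b ≠ 0 := fun h => hb (hf (by rw [h, map_zero]))
          rw [← hc, map_mul]
          field_simp }
  let e : A ≃+* V := RingEquiv.ofBijective f.rangeRestrict
    ⟨fun x y h => hf (congrArg Subtype.val h), f.rangeRestrict_surjective⟩
  rw [ringKrullDim_eq_of_ringEquiv e]
  exact Groth.Agent.S14892.result K V d hd

/-- A valuation ring of finite Krull dimension has finite spectrum. -/
theorem finite_spec_of_dim {A : Type u} [CommRing A] [IsDomain A] [ValuationRing A] (n : ℕ)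
    (h : ringKrullDim A ≤ (n : WithBot ℕ∞)) : Finite (PrimeSpectrum A) := by
  classical
  have htot : ∀ p q : PrimeSpectrum A, p ≤ q ∨ q ≤ p := fun p q => by
    rcases (ValuationRing.le_total_ideal (A := A)).total p.asIdeal q.asIdeal with h | h
    · exact Or.inl ((PrimeSpectrum.asIdeal_le_asIdeal _ _).1 h)
    · exact Or.inr ((PrimeSpectrum.asIdeal_le_asIdeal _ _).1 h)
  have hle : ∀ p : PrimeSpectrum A, Order.height p ≤ (n : ℕ∞) := by
    intro p
    have h1 : ((Order.height p : ℕ∞) : WithBot ℕ∞) ≤ (n : WithBot ℕ∞) :=
      le_trans (Order.height_le_krullDim p) h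
    exact_mod_cast h1
  have hinj : Function.Injective (fun p : PrimeSpectrum A => Order.height p) := by
    intro p q hpq
    simp only at hpq
    by_contra hne
    rcases htot p q with hl | hl
    · have hlt : p < q := lt_of_le_of_ne hl hne
      have := Order.height_strictMono hlt (lt_of_le_of_lt (hle p) (by exact_mod_cast ENat.coe_lt_top n))
      rw [hpq] at this
      exact lt_irrefl _ this
    · have hlt : q < p := lt_of_le_of_ne hl (Ne.symm hne)
      have := Order.height_strictMono hlt (lt_of_le_of_lt (hle q) (by exact_mod_cast ENat.coe_lt_top n))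
      rw [hpq] at this
      exact lt_irrefl _ this
  have hfin : (Set.Iic (n : ℕ∞)).Finite := by
    have : Set.Iic (n : ℕ∞) = (fun k : ℕ => (k : ℕ∞)) '' (Set.Iic n) := by
      ext x
      constructor
      · intro hx
        have hx' : x ≤ (n : ℕ∞) := hx
        have : x ≠ ⊤ := fun h => by rw [h] at hx'; simp at hx'
        obtain ⟨k, rfl⟩ := ENat.ne_top_iff_exists.mp this
        exact ⟨k, by exact_mod_cast hx', rfl⟩
      · rintro ⟨k, hk, rfl⟩
        have hk' : k ≤ n := hk
        show (k : ℕ∞) ≤ n
        exact_mod_cast hk'
    rw [this]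
    exact (Set.finite_Iic n).image _
  haveI : Finite (Set.Iic (n : ℕ∞)) := hfin.to_subtype
  exact Finite.of_injective (fun p : PrimeSpectrum A => (⟨Order.height p, hle p⟩ : Set.Iic (n : ℕ∞)))
    (fun p q hpq => hinj (congrArg Subtype.val hpq))

end Groth.Agent.H22.ValDim
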