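import Mathlib

/-!
# Weakly étale algebras: isomorphism invariance and localization at primes
-/

open TensorProduct

namespace Groth.Agent.H22.WELocal
universe u

theorem weaklyEtale_of_bijective (R S : Type u) [CommRing R] [CommRing S] [Algebra R S]
    (h : Function.Bijective (algebraMap R S)) : Algebra.WeaklyEtale R S := by
  haveI : Algebra.Etale R S :=
    Algebra.Etale.of_equiv (AlgEquiv.ofBijective (Algebra.ofId R S) h)
  infer_instance

/-- Weak étaleness transfers along isomorphisms of arrows of rings. -/
theorem weaklyEtale_of_ringEquiv {A B A' B' : Type u} [CommRing A] [CommRing B] [CommRing A']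
    [CommRing B'] (φ : A →+* B) (φ' : A' →+* B') (e₁ : A ≃+* A') (e₂ : B ≃+* B')
    (h : φ'.comp e₁.toRingHom = e₂.toRingHom.comp φ)
    (hw : letI := φ.toAlgebra; Algebra.WeaklyEtale A B) :
    letI := φ'.toAlgebra; Algebra.WeaklyEtale A' B' := by
  letI a1 : Algebra A B := φ.toAlgebra
  letI a2 : Algebra A' A := e₁.symm.toRingHom.toAlgebra
  letI a3 : Algebra B B' := e₂.toRingHom.toAlgebra
  letI a4 : Algebra A' B := (φ.comp e₁.symm.toRingHom).toAlgebra
  letI a5 : Algebra A' B' := φ'.toAlgebra
  haveI : IsScalarTower A' A B := IsScalarTower.of_algebraMap_eq' rfl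
  haveI : IsScalarTower A' B B' := IsScalarTower.of_algebraMap_eq' (by
    show φ' = e₂.toRingHom.comp (φ.comp e₁.symm.toRingHom)
    rw [← RingHom.comp_assoc, ← h, RingHom.comp_assoc]
    ext x
    simp)
  haveI : Algebra.WeaklyEtale A B := hw
  haveI : Algebra.WeaklyEtale A' A := weaklyEtale_of_bijective A' A e₁.symm.bijective
  haveI : Algebra.WeaklyEtale B B' := weaklyEtale_of_bijective B B' e₂.bijective
  haveI : Algebra.WeaklyEtale A' B := Algebra.WeaklyEtale.trans A' A B
  exact Algebra.WeaklyEtale.trans A' B B'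

end Groth.Agent.H22.WELocal
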