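import Mathlib
import Groth.Agent.Lib.helper22.WELocal1

open TensorProduct

namespace Groth.Agent.H22.WELocal
universe u

theorem weaklyEtale_of_isLocalization {R : Type u} [CommRing R] (M : Submonoid R) (S : Type u)
    [CommRing S] [Algebra R S] [IsLocalization M S] : Algebra.WeaklyEtale R S := by
  haveI : Module.Flat R S := IsLocalization.flat S M
  refine ⟨inferInstance, RingHom.Flat.of_bijective ?_⟩
  exact IsLocalization.bijective_linearMap_mul' M S

/-- If `A → A'` is a localization and `B` is an `A'`-algebra, weak étaleness of `B` over `A`
gives weak étaleness over `A'`. -/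
theorem weaklyEtale_of_isLocalization_base {A : Type u} [CommRing A] (M : Submonoid A)
    (A' : Type u) [CommRing A'] [Algebra A A'] [IsLocalization M A'] (B : Type u) [CommRing B]
    [Algebra A B] [Algebra A' B] [IsScalarTower A A' B] [Algebra.WeaklyEtale A B] :
    Algebra.WeaklyEtale A' B := by
  haveI : Module.Flat A' B := by
    rw [Module.flat_iff_of_isLocalization A' M]
    infer_instance
  refine ⟨inferInstance, ?_⟩
  haveI := IsLocalization.tensorProduct_compatibleSMul M A' B B
  have hcomp : (Algebra.TensorProduct.lmul' A (S := B)).toRingHom =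
      (Algebra.TensorProduct.lmul' A' (S := B)).toRingHom.comp
        (Algebra.TensorProduct.mapOfCompatibleSMul A' A A B B).toRingHom := by
    ext x <;> simp
  have hbij : Function.Bijective (Algebra.TensorProduct.mapOfCompatibleSMul A' A A B B) :=
    (Algebra.TensorProduct.equivOfCompatibleSMul A' A A B B).bijective
  have h := Algebra.WeaklyEtale.flat_lmul' A B
  change (Algebra.TensorProduct.lmul' A (S := B)).toRingHom.Flat at h
  rw [hcomp] at h
  exact (RingHom.Flat.comp_iff_of_bijective_right hbij).mp h

/-- Weak étaleness passes to the local rings. -/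
theorem weaklyEtale_atPrime (A B : Type u) [CommRing A] [CommRing B] [Algebra A B]
    [Algebra.WeaklyEtale A B] (p : Ideal A) [p.IsPrime] (q : Ideal B) [q.IsPrime]
    [q.LiesOver p] :
    letI := Localization.AtPrime.algebraOfLiesOver p q
    Algebra.WeaklyEtale (Localization.AtPrime p) (Localization.AtPrime q) := by
  letI := Localization.AtPrime.algebraOfLiesOver p q
  haveI h1 : Algebra.WeaklyEtale B (Localization.AtPrime q) :=
    weaklyEtale_of_isLocalization q.primeCompl _
  haveI h2 : Algebra.WeaklyEtale A (Localization.AtPrime q) :=
    Algebra.WeaklyEtale.trans A B _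
  exact weaklyEtale_of_isLocalization_base p.primeCompl (Localization.AtPrime p)
    (Localization.AtPrime q)

end Groth.Agent.H22.WELocal
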