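import Mathlib
import Groth.Agent.Lib.helper22.WELocal2

open TensorProduct

namespace Groth.Agent.H22.WELocal
universe u

/-- Weak étaleness can be checked on the local rings of the target. -/
theorem weaklyEtale_of_forall_atPrime (A B : Type u) [CommRing A] [CommRing B] [Algebra A B]
    (H : ∀ (q : Ideal B) [q.IsPrime], Algebra.WeaklyEtale A (Localization.AtPrime q)) :
    Algebra.WeaklyEtale A B := by
  have hflat : Module.Flat A B :=
    Module.flat_of_isLocalized_maximal (R := A) B B (fun P _ => Localization.AtPrime P)
      (fun P _ => Algebra.linearMap B (Localization.AtPrime P))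
      (fun P _ => (H P).flat)
  refine ⟨hflat, ?_⟩
  letI : Algebra (B ⊗[A] B) B := (Algebra.TensorProduct.lmul' A (S := B)).toRingHom.toAlgebra
  show Module.Flat (B ⊗[A] B) B
  refine Module.flat_of_isLocalized_maximal (R := B ⊗[A] B) B B
      (fun P _ => Localization.AtPrime P)
      (fun P _ => Algebra.linearMap B (Localization.AtPrime P)) (fun P _ => ?_)
  rw [← RingHom.flat_algebraMap_iff]
  have hg : (Algebra.TensorProduct.map (IsScalarTower.toAlgHom A B (Localization.AtPrime P))
      (IsScalarTower.toAlgHom A B (Localization.AtPrime P))).Flat := by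
    have hι : (IsScalarTower.toAlgHom A B (Localization.AtPrime P)).Flat := by
      show (algebraMap B (Localization.AtPrime P)).Flat
      rw [RingHom.flat_algebraMap_iff]
      exact IsLocalization.flat _ P.primeCompl
    exact RingHom.Flat.tensorProductMap hι hι
  have hm := (H P).flat_lmul'
  have hcomp : algebraMap (B ⊗[A] B) (Localization.AtPrime P) =
      (Algebra.TensorProduct.lmul' A (S := Localization.AtPrime P)).toRingHom.comp
        (Algebra.TensorProduct.map (IsScalarTower.toAlgHom A B (Localization.AtPrime P))
          (IsScalarTower.toAlgHom A B (Localization.AtPrime P))).toRingHom := by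
    rw [IsScalarTower.algebraMap_eq (B ⊗[A] B) B (Localization.AtPrime P)]
    ext x <;> simp [RingHom.algebraMap_toAlgebra]
  rw [hcomp]
  exact RingHom.Flat.comp hg hm

end Groth.Agent.H22.WELocal
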